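import Mathlib
import Cfsg.Agent.Lib.Forms.Max.OrthExtField.Centres

/-!
# Rank three over the extension field: frames, radical elements, scalars
-/

set_option autoImplicit false
set_option linter.unusedSectionVars false

namespace Cfsg.Agent.Forms.Max.OrthExtField.Rank3

open Matrix Cfsg.Agent.Forms.QuadStd Cfsg.Agent.Forms.Reflections Cfsg.Agent.Classical.Orth

variable {F : Type*} [Field F] [Fintype F] {ι : Type} [Fintype ι] [DecidableEq ι]
variable {K : Type*} [Field K] [Algebra F K] [FiniteDimensional F K]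
variable [Module K (ι → F)] [IsScalarTower F K (ι → F)]
variable {Q : QuadraticForm F (ι → F)}

local notation "Vec" => (ι → F)
local notation "B" => QuadraticMap.polar Q
set_option quotPrecheck false in
local notation "Iso" => Cfsg.isometryGroup F ⇑Q

variable (D : Data K Q) {M : Subgroup (Cfsg.isometryGroup F ⇑Q)}

/-- a pair and a non-isotropic vector spanning its orthogonal -/
structure Frame (w p c : ι → F) : Prop where
  hp : HPair D w p
  hwc : β D w c = 0
  hpc : β D p c = 0
  hc : β D c c ≠ 0
  expand : ∀ x : ι → F, x = β D x p • w + (β D x c / β D c c) • c + β D x w • p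

theorem exists_frame (h3 : Module.finrank K Vec = 3) {w p : Vec} (hp : HPair D w p) : ∃ c, Frame D w p c := by
  haveI : FiniteDimensional K Vec := Module.Finite.right F K Vec
  obtain ⟨c, hc, hcc⟩ := exists_nonsing D hp
  obtain ⟨hwc, hpc⟩ := (mem_W D).1 hc
  refine ⟨c, hp, hwc, hpc, hcc, fun x => sub_eq_zero.1 ?_⟩
  by_contra hy0
  set y := x - (β D x p • w + (β D x c / β D c c) • c + β D x w • p) with hy
  have e1 : β D y w = 0 := by simp [hy, hp.1, hp.pw D, β_comm D c w, hwc]
  have e2 : β D y p = 0 := by simp [hy, hp.2.1, hp.2.2, β_comm D c p, hpc]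
  have e3 : β D y c = 0 := by simp [hy, hwc, hpc, div_mul_cancel₀ _ hcc]
  have hli : LinearIndependent K ![w, p, c, y] := by
    rw [Fintype.linearIndependent_iff]
    intro g hg
    simp only [Fin.sum_univ_four, Matrix.cons_val] at hg
    have a1 := congrArg (fun v => β D v p) hg
    have a2 := congrArg (fun v => β D v w) hg
    have a3 := congrArg (fun v => β D v c) hg
    simp only [map_add, map_smul, LinearMap.add_apply, LinearMap.smul_apply, smul_eq_mul, hp.1, hp.2.1, hp.2.2,
      hp.pw D, hwc, hpc, β_comm D c w, β_comm D c p, e1, e2, e3, mul_zero, mul_one, add_zero, zero_add, map_zero,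
      LinearMap.zero_apply, mul_eq_zero, hcc, or_false] at a1 a2 a3
    rw [a1, a2, a3, zero_smul, zero_smul, zero_smul, zero_add, zero_add, zero_add, smul_eq_zero] at hg
    intro i
    fin_cases i
    exacts [a1, a2, a3, hg.resolve_right hy0]
  have := hli.fintype_card_le_finrank
  rw [Fintype.card_fin, h3] at this
  omega

theorem exists_frame' (h3 : Module.finrank K Vec = 3) {w : Vec} (hw0 : w ≠ 0) (hw : β D w w = 0) :
    ∃ p c, Frame D w p c := by
  obtain ⟨p, hp⟩ := exists_pair D hw0 hw
  obtain ⟨c, hc⟩ := exists_frame D h3 hp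
  exact ⟨p, c, hc⟩

variable {D}

theorem Frame.w0 {w p c : Vec} (h : Frame D w p c) : w ≠ 0 := h.hp.ne D

theorem Frame.ext {w p c x : Vec} (h : Frame D w p c) {a b k : K} (h1 : β D x p = a)
    (h2 : β D x c = b * β D c c) (h3 : β D x w = k) : x = a • w + b • c + k • p := by
  conv_lhs => rw [h.expand x]
  rw [h1, h2, h3, mul_div_cancel_right₀ _ h.hc]

theorem Frame.coord {w p c : Vec} (h : Frame D w p c) (a b k : K) :
    β D (a • w + b • c + k • p) p = a ∧ β D (a • w + b • c + k • p) c = b * β D c c ∧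
      β D (a • w + b • c + k • p) w = k := by
  simp [h.hp.1, h.hp.2.1, h.hp.2.2, h.hp.pw D, h.hwc, h.hpc, β_comm D c w, β_comm D c p]

theorem Frame.perp_coord {w p c x : Vec} (h : Frame D w p c) (hx : β D x w = 0) :
    x = β D x p • w + (β D x c / β D c c) • c := by
  conv_lhs => rw [h.expand x, hx, zero_smul, add_zero]

theorem Frame.elin_coord {w p c : Vec} (h : Frame D w p c) (τ a b k : K) :
    elin D w (τ • c) (a • w + b • c + k • p) =
      (a - β D c c * τ * b - β D c c * τ * τ / 2 * k) • w + (b + τ * k) • c + k • p := by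
  rw [elin_apply]
  obtain ⟨-, h2, h3⟩ := h.coord a b k
  rw [map_smul, h2, h3]
  simp only [map_smul, LinearMap.smul_apply, smul_eq_mul]
  match_scalars <;> field_simp [two_ne D] <;> ring

variable (D)

theorem exists_elin (hM : LinM (K := K) M) {w p c : Vec} (h : Frame D w p c) (τ : K) :
    ∃ e ∈ M, ∀ x, act e x = elin D w (τ • c) x := by
  obtain ⟨e, he, -, hex⟩ := exists_eichK D hM h.w0 h.hp.1 (v := τ • c) (by simp [h.hwc])
  exact ⟨e, he, hex⟩

theorem perp_iff {w x : Vec} : β D x w = 0 ↔ ∀ i : K, B x (i • w) = 0 := by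
  refine ⟨fun h i => by rw [← spec' D, h, mul_zero, map_zero], fun h => chi_ext D fun i => ?_⟩
  rw [spec', mul_zero, map_zero, h]

/-- an element of the radical of a line in `M` -/
def InF (M : Subgroup (Cfsg.isometryGroup F ⇑Q)) (w : ι → F) (f : K →ₗ[F] K) : Prop :=
  ∃ m ∈ M, ∀ x, act m x = x + f (β D x w) • w

theorem InF.skew {w : Vec} (hw0 : w ≠ 0) (hw : β D w w = 0) {f : K →ₗ[F] K} (hf : InF D M w f) (k l : K) :
    D.χ (f k * l) + D.χ (k * f l) = 0 := by
  obtain ⟨m, -, hm⟩ := hf
  obtain ⟨p, hp⟩ := exists_pair D hw0 hw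
  have h := act_polar m (k • p) (l • p)
  rw [hm, hm, B_eq D, B_eq D] at h
  simp only [map_add, map_smul, LinearMap.add_apply, LinearMap.smul_apply, smul_eq_mul, hp.1, hp.2.1, hp.2.2,
    hp.pw D, mul_zero, add_zero, zero_add, mul_one, map_zero] at h
  rw [mul_comm (f k) l, mul_comm k (f l)]
  linear_combination h

/-- the radical: linear, or with a non-zero skew part -/
theorem rad (hM : LinM (K := K) M) {w p c : Vec} (h : Frame D w p c) {P : Iso} (hP : P ∈ M)
    (hPw : ∀ k : K, act P (k • w) = k • w) (hPp : ∀ x, β D x w = 0 → ∃ ξ : K, act P x = x + ξ • w) :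
    (∃ f : K →ₗ[F] K, f ≠ 0 ∧ InF D M w f) ∨ ∃ τ : K, ∀ x, act P x = elin D w (τ • c) x := by
  set γ := β D c c with hγ
  let ξ : K →ₗ[F] K := (((β D).flip p).restrictScalars F).comp (mv K P c)
  let T : K →ₗ[F] K := ((γ⁻¹ • (β D).flip c).restrictScalars F).comp (mv K P p)
  let f : K →ₗ[F] K := (((β D).flip p).restrictScalars F).comp (mv K P p)
  have hPc : ∀ b : K, act P (b • c) = ξ b • w + b • c := by
    intro b
    obtain ⟨t, ht⟩ := hPp (b • c) (by simp [β_comm D c w, h.hwc])
    have : ξ b = t := by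
      show β D (act P (b • c)) p = t
      rw [ht]
      simp [h.hp.2.2, β_comm D c p, h.hpc]
    rw [ht, this, add_comm]
  have hPk : ∀ k : K, act P (k • p) = f k • w + T k • c + k • p := by
    intro k
    refine h.ext rfl ?_ ?_
    · show _ = γ⁻¹ * β D (act P (k • p)) c * γ
      rw [mul_comm γ⁻¹, inv_mul_cancel_right₀ h.hc]
    · refine chi_ext D fun i => ?_
      rw [spec']
      conv_lhs => rw [← hPw i, act_polar]
      rw [← spec' D]
      simp [h.hp.pw D]
  have hP3 : ∀ a b k : K, act P (a • w + b • c + k • p) =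
      (a + ξ b + f k) • w + (b + T k) • c + k • p := fun a b k => by
    rw [map_add, map_add, hPw, hPc, hPk]; module
  by_cases hz : ∀ d k : K, ξ (d * k) + γ * d * T k = 0
  swap
  · left
    push Not at hz
    obtain ⟨d, k₁, hd⟩ := hz
    obtain ⟨e, he, hex⟩ := exists_elin D hM h d
    refine ⟨ξ.comp (LinearMap.mulLeft F d) + (LinearMap.mulLeft F (γ * d)).comp T,
      fun e0 => hd (by simpa [mul_assoc] using LinearMap.congr_fun e0 k₁), P * e * P⁻¹ * e⁻¹,
      mul_mem (mul_mem (mul_mem hP he) (inv_mem hP)) (inv_mem he), fun y => ?_⟩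
    obtain ⟨x, rfl⟩ : ∃ x, act e (act P x) = y := ⟨act P⁻¹ (act e⁻¹ y), by rw [act_cancel_inv, act_cancel_inv]⟩
    have e1 : act (P * e * P⁻¹ * e⁻¹) (act e (act P x)) = act P (act e x) := by
      rw [← act_mul, ← act_mul, ← act_mul]
      congr 1
      group
    rw [e1, h.expand x]
    generalize β D x p = a, β D x c / γ = b, β D x w = k
    rw [hex, h.elin_coord, hP3, hP3, hex, h.elin_coord, (h.coord _ _ _).2.2]
    simp only [LinearMap.add_apply, LinearMap.comp_apply, LinearMap.mulLeft_apply, map_add, ← hγ]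
    match_scalars <;> ring
  set τ := T 1 with hτ
  have hξ : ∀ b, ξ b = -(γ * τ * b) := fun b => by
    have := hz b 1
    rw [mul_one, ← hτ] at this
    linear_combination this
  have hT : ∀ k, T k = τ * k := fun k => mul_left_cancel₀ h.hc (by
    have := hz 1 k
    rw [one_mul, mul_one, hξ] at this
    linear_combination this)
  let f₀ : K →ₗ[F] K := f + LinearMap.mulLeft F (γ * τ * τ / 2)
  by_cases hf : f₀ = 0
  · right
    refine ⟨τ, fun x => ?_⟩
    rw [h.expand x]
    generalize β D x p = a, β D x c / β D c c = b, β D x w = k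
    have := LinearMap.congr_fun hf k
    simp only [f₀, LinearMap.add_apply, LinearMap.mulLeft_apply, LinearMap.zero_apply] at this
    rw [hP3, h.elin_coord, hξ, hT, ← hγ]
    match_scalars
    · linear_combination this
    · ring
    · ring
  · left
    obtain ⟨e, he, hex⟩ := exists_elin D hM h τ
    refine ⟨f₀, hf, P * e⁻¹, mul_mem hP (inv_mem he), fun y => ?_⟩
    obtain ⟨x, rfl⟩ : ∃ x, act e x = y := ⟨act e⁻¹ y, act_cancel_inv _ _⟩
    have e1 : act (P * e⁻¹) (act e x) = act P x := by rw [← act_mul, inv_mul_cancel_right]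
    rw [e1, h.expand x]
    generalize β D x p = a, β D x c / β D c c = b, β D x w = k
    rw [hex, h.elin_coord, hP3, (h.coord _ _ _).2.2]
    simp only [f₀, LinearMap.add_apply, LinearMap.mulLeft_apply, hξ, hT, ← hγ]
    match_scalars <;> ring

/-! ### scalars -/

include D in
theorem sqrt_mem {x : K} {s : F} (hr3 : Module.finrank F K ≠ 2) (h : x * x = algebraMap F K s) :
    ∃ t : F, x = algebraMap F K t := by
  have hN := congrArg (Algebra.norm F) h
  rw [map_mul, Algebra.norm_algebraMap] at hN
  obtain ⟨m, hm⟩ := D.hr.odd_of_ne_two hr3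
  rcases eq_or_ne s 0 with rfl | hs
  · exact ⟨0, by rw [map_zero] at h ⊢; exact mul_self_eq_zero.1 h⟩
  set t := Algebra.norm F x / s ^ m with ht
  have htt : t * t = s := by
    rw [ht, div_mul_div_comm, hN, hm]
    field_simp
    ring
  have : (x - algebraMap F K t) * (x + algebraMap F K t) = 0 := by
    linear_combination h - (map_mul (algebraMap F K) t t).symm.trans (congrArg _ htt)
  rcases mul_eq_zero.1 this with h1 | h1
  · exact ⟨t, sub_eq_zero.1 h1⟩
  · exact ⟨-t, by rw [map_neg]; exact eq_neg_of_add_eq_zero_left h1⟩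

include D in
/-- every scalar is a square up to a scalar of the small field -/
theorem exists_square_scaled (hr3 : Module.finrank F K ≠ 2) (x : K) :
    ∃ s : F, s ≠ 0 ∧ ∃ y : K, s • x = y * y := by
  haveI : Finite K := Module.finite_of_finite F
  haveI : Fintype K := Fintype.ofFinite K
  by_cases hx : IsSquare x
  · obtain ⟨y, hy⟩ := hx
    exact ⟨1, one_ne_zero, y, by rw [one_smul, hy]⟩
  have hF : ringChar F ≠ 2 := fun hc => D.h2 (by
    have : CharP F 2 := hc ▸ ringChar.charP F
    exact CharTwo.two_eq_zero)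
  obtain ⟨s, hs⟩ := FiniteField.exists_nonsquare hF
  have hs0 : s ≠ 0 := fun e => hs (e ▸ ⟨0, by ring⟩)
  have hsK : ¬ IsSquare (algebraMap F K s) := by
    rintro ⟨y, hy⟩
    obtain ⟨t, rfl⟩ := sqrt_mem D hr3 hy.symm
    rw [← map_mul] at hy
    exact hs ⟨t, (algebraMap F K).injective hy⟩
  have hK : ringChar K ≠ 2 := fun hc => two_ne D (by
    have : CharP K 2 := hc ▸ ringChar.charP K
    exact CharTwo.two_eq_zero)
  have hx0 : x ≠ 0 := fun e => hx (e ▸ ⟨0, by ring⟩)
  have hs0' : algebraMap F K s ≠ 0 := (map_ne_zero _).2 hs0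
  have h1 := (FiniteField.pow_dichotomy hK hx0).resolve_left fun h => hx ((FiniteField.isSquare_iff hK hx0).2 h)
  have h2 := (FiniteField.pow_dichotomy hK hs0').resolve_left fun h => hsK ((FiniteField.isSquare_iff hK hs0').2 h)
  obtain ⟨y, hy⟩ := (FiniteField.isSquare_iff hK (mul_ne_zero hs0' hx0)).2 (by rw [mul_pow, h1, h2]; ring)
  exact ⟨s, hs0, y, by rw [Algebra.smul_def, hy]⟩

theorem apply_aeval {f : K →ₗ[F] K} {c d : K} (h : ∀ k, f (c * k) = d * f k) (P : Polynomial F) (k : K) :
    f (Polynomial.aeval c P * k) = Polynomial.aeval d P * f k := by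
  induction P using Polynomial.induction_on' with
  | add P R hP hR => simp [add_mul, map_add, hP, hR]
  | monomial n a =>
    have : ∀ n : ℕ, ∀ k, f (c ^ n * k) = d ^ n * f k := fun n => by
      induction n with
      | zero => simp
      | succ n ih => intro k; rw [pow_succ, mul_assoc, ih, h, pow_succ, mul_assoc]
    rw [Polynomial.aeval_monomial, Polynomial.aeval_monomial, ← Algebra.smul_def, ← Algebra.smul_def, smul_mul_assoc,
      map_smul, this, smul_mul_assoc]

/-- an intertwining map makes the two scalars conjugate -/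
theorem exists_aut {f : K →ₗ[F] K} {c d : K} (hf : f ≠ 0) (h : ∀ k, f (c * k) = d * f k) :
    ∃ e : K ≃ₐ[F] K, e c = d := by
  haveI : Finite K := Module.finite_of_finite F
  obtain ⟨k, hk⟩ : ∃ k, f k ≠ 0 := by
    by_contra hc
    push Not at hc
    exact hf (LinearMap.ext hc)
  have hd : Polynomial.aeval d (minpoly F c) = 0 := by
    have := apply_aeval h (minpoly F c) k
    rw [minpoly.aeval, zero_mul, map_zero, eq_comm, mul_eq_zero] at this
    exact this.resolve_right hk
  exact minpoly.exists_algEquiv_of_root' (Algebra.IsAlgebraic.isAlgebraic c) hd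

include D in
theorem aut_inv {c : K} (hr3 : Module.finrank F K ≠ 2) (e : K ≃ₐ[F] K) (h : e (e c) = c) : e c = c := by
  haveI : Finite K := Module.finite_of_finite F
  have hc : e ^ Module.finrank F K = 1 := by
    rw [← IsGalois.card_aut_eq_finrank F K]
    exact pow_card_eq_one'
  obtain ⟨m, hm⟩ := D.hr.odd_of_ne_two hr3
  have h2 : ∀ n : ℕ, (e ^ (2 * n)) c = c := fun n => by
    induction n with
    | zero => simp
    | succ n ih => rw [Nat.mul_succ, pow_add, AlgEquiv.mul_apply, pow_two, AlgEquiv.mul_apply, h, ih]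
  have := congrArg (fun g : K ≃ₐ[F] K => g c) hc
  rw [hm, pow_succ', AlgEquiv.mul_apply, h2, AlgEquiv.one_apply] at this
  exact this

/-- a non-scalar generates -/
theorem linear_of_commute (hr : (Module.finrank F K).Prime) {c : K} (hc : ∀ s : F, c ≠ algebraMap F K s)
    {f : K →ₗ[F] K} (h : ∀ k, f (c * k) = c * f k) (k : K) : f k = k * f 1 := by
  let X : Subalgebra F K :=
    { carrier := {x | ∀ k, f (x * k) = x * f k}
      mul_mem' := fun {x y} hx hy k => by rw [mul_assoc, hx, hy, mul_assoc]
      one_mem' := fun k => by rw [one_mul, one_mul]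
      add_mem' := fun {x y} hx hy k => by rw [add_mul, map_add, hx, hy, add_mul]
      zero_mem' := fun k => by rw [zero_mul, map_zero, zero_mul]
      algebraMap_mem' := fun s k => by rw [← Algebra.smul_def, map_smul, ← Algebra.smul_def] }
  have hX : X = ⊤ := by
    by_contra hne
    obtain ⟨s, hs⟩ := Algebra.mem_bot.1 (subalgebra_eq_bot hne hr ▸ h : c ∈ (⊥ : Subalgebra F K))
    exact hc s hs.symm
  have := (hX ▸ Algebra.mem_top : k ∈ X) 1
  rwa [mul_one] at this

end Cfsg.Agent.Forms.Max.OrthExtField.Rank3
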