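import Mathlib
import Cfsg.Agent.Lib.Forms.Max.OrthExtField.Rank3.Frame

/-!
# The stabiliser of a singular line, when the radical is trivial
-/

set_option autoImplicit false
set_option linter.unusedSectionVars false

namespace Cfsg.Agent.Forms.Max.OrthExtField.Rank3

open Matrix Cfsg.Agent.Forms.QuadStd Cfsg.Agent.Forms.Reflections Cfsg.Agent.Classical.Orth

variable {F : Type*} [Field F] [Fintype F] {ι : Type} [Fintype ι] [DecidableEq ι]
variable {K : Type*} [Field K] [Algebra F K] [FiniteDimensional F K]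
variable [Module K (ι → F)] [IsScalarTower F K (ι → F)]
variable {Q : QuadraticForm F (ι → F)}

local notation "Vec" => (ι → F)
local notation "B" => QuadraticMap.polar Q
set_option quotPrecheck false in
local notation "Iso" => Cfsg.isometryGroup F ⇑Q

variable (D : Data K Q) {M : Subgroup (Cfsg.isometryGroup F ⇑Q)}

/-- semilinear -/
def Semi (K : Type*) [Field K] [Algebra F K] [Module K (ι → F)] (g : Cfsg.isometryGroup F ⇑Q) : Prop :=
  ∀ k : K, ∃ k' : K, ∀ x : ι → F, act g (k • x) = k' • act g x

theorem ic (g : Iso) (z : Vec) : act g⁻¹ (act g z) = z := act_injective g (act_cancel_inv g _)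

include D in
theorem card_big (hr5 : 3 ≤ Module.finrank F K) : 27 ≤ Nat.card K := by
  have hq : 3 ≤ Nat.card F := by
    rw [Nat.card_eq_fintype_card]
    have h1 : Odd (Fintype.card F) := Nat.odd_iff.2
      (FiniteField.odd_card_of_char_ne_two fun hc => D.h2 (by
        have : CharP F 2 := hc ▸ ringChar.charP F
        exact CharTwo.two_eq_zero))
    have h2 := Fintype.one_lt_card (α := F)
    obtain ⟨m, hm⟩ := h1
    omega
  rw [Module.natCard_eq_pow_finrank (K := F) (V := K)]
  exact le_trans (by norm_num) ((Nat.pow_le_pow_left hq 3).trans (Nat.pow_le_pow_right (by omega) hr5))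

include D in
theorem exists_avoid (hr5 : 3 ≤ Module.finrank F K) (P : Polynomial K) (hP : P ≠ 0) (hdeg : P.natDegree < 27) :
    ∃ t : K, P.eval t ≠ 0 := by
  haveI : Finite K := Module.finite_of_finite F
  haveI : Fintype K := Fintype.ofFinite K
  by_contra hc
  push Not at hc
  refine hP (Polynomial.eq_zero_of_natDegree_lt_card_of_eval_eq_zero P (f := id) Function.injective_id hc ?_)
  have := card_big D hr5
  rw [Nat.card_eq_fintype_card] at this
  omega

open Polynomial in
include D in
/-- a point of the circle away from the axes -/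
theorem exists_xy (hr5 : 3 ≤ Module.finrank F K) :
    ∃ x y : K, x ≠ 0 ∧ y ≠ 0 ∧ x * x + y * y = 1 ∧ x * x * (y * y) ≠ 1 := by
  have h2 := two_ne D
  obtain ⟨t, ht⟩ := exists_avoid D hr5
    (((X * (1 - X ^ 2)) * (1 + X ^ 2)) * ((1 + X ^ 2) ^ 4 - C 4 * X ^ 2 * (1 - X ^ 2) ^ 2))
    (mul_ne_zero (mul_ne_zero (mul_ne_zero X_ne_zero fun h => by simpa using congrArg (Polynomial.eval 0) h)
      fun h => by simpa using congrArg (Polynomial.eval 0) h)
      fun h => by simpa using congrArg (Polynomial.eval 0) h)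
    (lt_of_le_of_lt (b := 13) (by compute_degree; all_goals norm_num) (by norm_num))
  simp only [eval_mul, eval_add, eval_sub, eval_pow, eval_one, eval_X, eval_C, mul_ne_zero_iff] at ht
  obtain ⟨⟨⟨h0, h1⟩, h3⟩, h4⟩ := ht
  have h3' : 1 + t * t ≠ 0 := by rwa [← pow_two]
  refine ⟨2 * t / (1 + t * t), (1 - t * t) / (1 + t * t), div_ne_zero (mul_ne_zero h2 h0) h3',
    div_ne_zero (by rwa [← pow_two]) h3', by field_simp; ring, fun e => h4 ?_⟩
  field_simp at e
  linear_combination -e

/-- semilinearity -/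
theorem semilinear_stab (hM : LinM (K := K) M) (h3 : Module.finrank K Vec = 3) (hr5 : 3 ≤ Module.finrank F K)
    {w : Vec} (hw0 : w ≠ 0) (hw : β D w w = 0) (hno : ∀ f : K →ₗ[F] K, InF D M w f → f = 0) {m : Iso}
    (hm : m ∈ M) (hL : ∀ k : K, ∃ t : K, act m (k • w) = t • w) : Semi K m := by
  haveI : Finite K := Module.finite_of_finite F
  obtain ⟨p, c, h⟩ := exists_frame' D h3 hw0 hw
  set γ := β D c c with hγ
  choose A hA using hL
  have Aadd : ∀ a b, A (a + b) = A a + A b := fun a b => smul_left_injective K hw0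
    (by simp only [add_smul, ← hA, ← map_add])
  have Ainj : Function.Injective A := fun a b e => smul_left_injective K hw0 (act_injective m (by
    show act m (a • w) = act m (b • w)
    rw [hA, hA, e]))
  have Asurj := Finite.injective_iff_surjective.1 Ainj
  have A0 : A 0 = 0 := by simpa using Aadd 0 0
  have hinvL : ∀ k, act m⁻¹ (A k • w) = k • w := fun k => by rw [← hA, ic]
  have hperp : ∀ {x}, β D x w = 0 → β D (act m x) w = 0 ∧ β D (act m⁻¹ x) w = 0 := by
    intro x hx
    rw [perp_iff D, perp_iff D]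
    refine ⟨fun i => ?_, fun i => ?_⟩
    · obtain ⟨j, rfl⟩ := Asurj i
      rw [← hA, act_polar]
      exact (perp_iff D).1 hx j
    · rw [← act_polar m, act_cancel_inv, hA]
      exact (perp_iff D).1 hx _
  have hrad : ∀ P ∈ M, (∀ k : K, act P (k • w) = k • w) →
      (∀ x, β D x w = 0 → ∃ ξ : K, act P x = x + ξ • w) → ∃ τ : K, ∀ x, act P x = elin D w (τ • c) x := by
    intro P hP h1 h2
    rcases rad D hM h hP h1 h2 with ⟨f, hf, hff⟩ | h'
    · exact absurd (hno f hff) hf
    · exact h'
  -- the action on the root group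
  have hσ : ∀ s : K, ∃ s' : K, ∀ y, act m (elin D w (s • c) y) = elin D w (s' • c) (act m y) := by
    intro s
    obtain ⟨e, he, hex⟩ := exists_elin D hM h s
    obtain ⟨τ, hτ⟩ := hrad (m * e * m⁻¹) (mul_mem (mul_mem hm he) (inv_mem hm))
      (fun k => by
        obtain ⟨j, rfl⟩ := Asurj k
        rw [act_mul, act_mul, hinvL, hex, elin_apply]
        simp [h.hwc, h.hp.1, hA])
      (fun x hx => by
        refine ⟨A (-β D (act m⁻¹ x) (s • c)), ?_⟩
        rw [act_mul, act_mul, hex, elin_apply, (hperp hx).2]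
        simp only [zero_smul, mul_zero, add_zero, sub_zero]
        rw [map_sub, act_cancel_inv, ← hA, neg_smul, map_neg, sub_eq_add_neg])
    exact ⟨τ, fun y => by rw [← hex, ← hτ, act_mul, act_mul, ic]⟩
  choose σ hσ using hσ
  set A' : K → K := fun k => β D (act m (k • p)) w with hA'
  have A'add : ∀ a b, A' (a + b) = A' a + A' b := fun a b => by simp [hA', add_smul, map_add]
  have key : ∀ s t k, A (γ * s * t * k) = γ * σ s * σ t * A' k := by
    intro s t k
    have h2nd : ∀ s t : K, ∀ y : Vec, elin D w (s • c) (elin D w (t • c) y) - elin D w (t • c) y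
        - elin D w (s • c) y + y = (-(γ * s * t * β D y w)) • w := fun s t y => by
      obtain ⟨a, b, k, rfl⟩ : ∃ a b k : K, y = a • w + b • c + k • p := ⟨_, _, _, h.expand y⟩
      rw [h.elin_coord, h.elin_coord, h.elin_coord, (h.coord _ _ _).2.2, ← hγ]
      match_scalars <;> field_simp [two_ne D] <;> ring
    have e1 := congrArg (act m) (h2nd s t (k • p))
    rw [map_add, map_sub, map_sub, hσ, hσ, hσ, h2nd, neg_smul, neg_smul, map_neg, hA, neg_inj] at e1
    have := smul_left_injective K hw0 e1
    rw [this]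
    simp [h.hp.pw D]
  have hσ1 : σ 1 ≠ 0 ∧ A' 1 ≠ 0 := by
    have := key 1 1 1
    rw [mul_one, mul_one, mul_one] at this
    have hne : A γ ≠ 0 := fun e => h.hc (Ainj (by rw [e]; exact A0.symm))
    rw [this] at hne
    simp only [mul_ne_zero_iff] at hne
    exact ⟨hne.1.2, hne.2⟩
  set θ : K → K := fun x => A' x / A' 1 with hθ
  have hσσ : ∀ s t, σ s * σ t * A' 1 = σ 1 * σ 1 * A' (s * t) := fun s t =>
    mul_left_cancel₀ h.hc (by
      have e1 := key s t 1
      have e2 := key 1 1 (s * t)
      rw [mul_one] at e1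
      rw [mul_one, mul_one, ← mul_assoc] at e2
      linear_combination e2 - e1)
  have hmul : ∀ s k, θ (s * k) = θ s * θ k := fun s k => by
    have e1 := key s 1 k
    have e2 := key 1 1 (s * k)
    rw [mul_one] at e1
    rw [mul_one, mul_one, ← mul_assoc] at e2
    have e3 : σ 1 * σ 1 * A' (s * k) = σ s * σ 1 * A' k := mul_left_cancel₀ h.hc (by linear_combination e1 - e2)
    have e4 := hσσ s 1
    rw [mul_one] at e4
    rw [hθ]
    field_simp [hσ1.1, hσ1.2]
    refine mul_left_cancel₀ (mul_ne_zero hσ1.1 hσ1.1) ?_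
    linear_combination A' 1 * e3 + A' k * e4
  have hAlam : ∀ l y, A (l * y) = θ l * A y := fun l y => by
    have hy : ∀ y, A y = γ * σ 1 * σ 1 * A' 1 * θ (y / γ) := fun y => by
      have := key 1 1 (y / γ)
      rw [mul_one, mul_one, mul_div_cancel₀ _ h.hc] at this
      rw [this, hθ]
      field_simp [hσ1.2]
    rw [hy, hy y, mul_div_assoc, hmul]
    ring
  have hθ0 : ∀ a, a ≠ 0 → θ a ≠ 0 := fun a ha e => by
    have h0 := hAlam a 1
    rw [e, zero_mul, mul_one] at h0
    exact ha (Ainj (h0.trans A0.symm))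
  -- conjugates of tori are linear
  have hτlin : ∀ a : K, a ≠ 0 → ∀ τ : Iso, τ ∈ M → (∀ k : K, act τ (k • w) = (a * a * k) • w) →
      (∀ x ∈ W D w p, act τ x = x) →
      ∀ (k : K) z, act (m * τ * m⁻¹) (k • z) = k • act (m * τ * m⁻¹) z := by
    intro a ha τ hτ hτw hτW
    obtain ⟨τ', hτ', hτ'w, -, hτ'W, hτ'l⟩ := exists_torus D hM h.hp (hθ0 a ha)
    have perpW : ∀ {y : Vec} (g : Iso) (l : K), (∀ k : K, act g (k • w) = (l * k) • w) →
        (∀ x ∈ W D w p, act g x = x) → β D y w = 0 → ∃ ξ : K, act g y = y + ξ • w := by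
      intro y g l h1 h2 hy
      refine ⟨(l - 1) * β D y p, ?_⟩
      conv_lhs => rw [h.perp_coord hy, map_add, h1, h2 _ (Submodule.smul_mem _ _ ((mem_W D).2 ⟨h.hwc, h.hpc⟩))]
      conv_rhs => arg 1; rw [h.perp_coord hy]
      module
    have hτ'inv : ∀ k : K, act τ'⁻¹ ((θ a * θ a * k) • w) = k • w := fun k => by rw [← hτ'w, ic]
    have hτ'invW : ∀ x ∈ W D w p, act τ'⁻¹ x = x := fun x hx => by conv_lhs => rw [← hτ'W x hx, ic]
    have hτ'invw : ∀ k : K, act τ'⁻¹ (k • w) = ((θ a * θ a)⁻¹ * k) • w := fun k => by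
      have := hτ'inv ((θ a * θ a)⁻¹ * k)
      rwa [mul_inv_cancel_left₀ (mul_ne_zero (hθ0 a ha) (hθ0 a ha))] at this
    obtain ⟨ν, hν⟩ := hrad (m * τ * m⁻¹ * τ'⁻¹) (mul_mem (mul_mem (mul_mem hm hτ) (inv_mem hm)) (inv_mem hτ'))
      (fun k => by
        obtain ⟨j, rfl⟩ := Asurj k
        rw [act_mul, act_mul, act_mul, hτ'invw]
        obtain ⟨i, hi⟩ := Asurj ((θ a * θ a)⁻¹ * A j)
        rw [← hi, hinvL, hτw, hA, hAlam, hi, hmul, mul_inv_cancel_left₀ (mul_ne_zero (hθ0 a ha) (hθ0 a ha))])
      (fun x hx => by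
        obtain ⟨ξ, hξ⟩ := perpW τ'⁻¹ _ hτ'invw hτ'invW hx
        obtain ⟨ξ', hξ'⟩ := perpW τ _ hτw hτW (hperp (show β D (x + ξ • w) w = 0 by simp [hx, h.hp.1])).2
        refine ⟨ξ + A ξ', ?_⟩
        rw [act_mul, act_mul, act_mul, hξ, hξ', map_add, act_cancel_inv, hA]
        module)
    intro k z
    have hz : ∀ z, act (m * τ * m⁻¹) z = elin D w (ν • c) (act τ' z) := fun z => by
      rw [← hν, ← act_mul, inv_mul_cancel_right]
    rw [hz, hz, hτ'l, map_smul]
  -- the pull back of a scalar is a scalar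
  have hback : ∀ k : K, ∃ k' : K, ∀ x, k • act m x = act m (k' • x) := by
    intro k
    set z : Vec → Vec := fun x => act m⁻¹ (k • act m x) with hz
    have zadd : ∀ x y, z (x + y) = z x + z y := fun x y => by simp only [hz, map_add, smul_add]
    have zτ : ∀ a : K, a ≠ 0 → ∃ τ : Iso, (∀ k : K, act τ (k • w) = (a * a * k) • w) ∧
        (∀ k : K, act τ ((a * a * k) • p) = k • p) ∧ (∀ x ∈ W D w p, act τ x = x) ∧
        ∀ x, act τ (z x) = z (act τ x) := by
      intro a ha
      obtain ⟨τ, hτ, h1, h2, h4, -⟩ := exists_torus D hM h.hp ha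
      refine ⟨τ, h1, h2, h4, fun x => act_injective m ?_⟩
      have hl := hτlin a ha τ hτ h1 h4 k (act m x)
      rw [act_mul, act_mul, act_mul, act_mul, ic] at hl
      simp only [hz, act_cancel_inv]
      exact hl
    have zE : ∀ (s : K) x, elin D w (s • c) (z x) = z (elin D w (s • c) x) := fun s x => act_injective m (by
      simp only [hz, act_cancel_inv, hσ, map_smul])
    have zL : ∀ y, ∃ t, z (y • w) = t • w := fun y => by
      obtain ⟨j, hj⟩ := Asurj (k * A y)
      exact ⟨j, by simp only [hz, hA, smul_smul, ← hj, hinvL]⟩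
    choose α hα using zL
    have αadd : ∀ a b, α (a + b) = α a + α b := fun a b => smul_left_injective K hw0
      (by simp only [add_smul, ← hα, ← zadd])
    have αsq : ∀ a y, α (a * a * y) = a * a * α y := fun a y => by
      rcases eq_or_ne a 0 with rfl | ha
      · simp only [mul_zero, zero_mul]
        simpa using αadd 0 0
      obtain ⟨τ, h1, -, -, h5⟩ := zτ a ha
      refine smul_left_injective K hw0 ?_
      show α (a * a * y) • w = (a * a * α y) • w
      rw [← hα, ← h1, ← h5, hα, h1]
    set k' := α 1 with hk'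
    have hαk : ∀ y, α y = k' * y := fun y => by
      obtain ⟨a, b, rfl⟩ := exists_two_squares D y
      have h1 := αsq a 1
      have h2 := αsq b 1
      rw [mul_one] at h1 h2
      rw [αadd, h1, h2, hk']; ring
    obtain ⟨x₀, y₀, hx₀, hy₀, hxy, hxy'⟩ := exists_xy D hr5
    have hx1 : x₀ * x₀ ≠ 1 := fun e => hy₀ (mul_self_eq_zero.1 (by linear_combination hxy - e))
    have hzc : ∀ b : K, ∃ b' : K, z (b • c) = b' • c := by
      intro b
      have h0 : β D (z (b • c)) w = 0 := by
        refine (hperp ?_).2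
        rw [map_smul, LinearMap.smul_apply, (hperp (by simp [β_comm D c w, h.hwc])).1, smul_zero]
      obtain ⟨τ, h1, -, h4, h5⟩ := zτ x₀ hx₀
      have e := h5 (b • c)
      rw [h4 (b • c) (Submodule.smul_mem _ _ ((mem_W D).2 ⟨h.hwc, h.hpc⟩)), h.perp_coord h0, map_add, h1,
        h4 _ (Submodule.smul_mem _ _ ((mem_W D).2 ⟨h.hwc, h.hpc⟩)), add_left_inj] at e
      have e' := smul_left_injective K hw0 e
      have : β D (z (b • c)) p = 0 := by
        by_contra hne
        exact hx1 (mul_right_cancel₀ hne (e'.trans (one_mul _).symm))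
      exact ⟨β D (z (b • c)) c / β D c c, by
        conv_lhs => rw [h.perp_coord h0, this, zero_smul, zero_add]⟩
    choose Bz hBz using hzc
    have hBzk : ∀ b, Bz b = k' * b := fun b => by
      have e := zE 1 (b • c)
      have r1 := h.elin_coord 1 0 b 0
      have r2 := h.elin_coord 1 0 (Bz b) 0
      simp only [zero_smul, zero_add, add_zero, mul_zero, sub_zero] at r1 r2
      rw [hBz, r2, r1, zadd, hBz, hα, hαk, add_left_inj] at e
      have e' := smul_left_injective K hw0 e
      refine mul_left_cancel₀ h.hc ?_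
      linear_combination -e'
    have hzp : ∀ y : K, ∃ a : K, z (y • p) = a • w + (k' * y) • p := by
      intro y
      obtain ⟨a, b, d, hz'⟩ : ∃ a b d : K, z (y • p) = a • w + b • c + d • p := ⟨_, _, _, h.expand _⟩
      have hE : ∀ s : K, a - γ * s * b - γ * s * s / 2 * d = a - k' * (γ * s * s / 2 * y) ∧
          b + s * d = b + k' * (s * y) := fun s => by
        have e := zE s (y • p)
        have r1 := h.elin_coord s 0 0 y
        simp only [zero_smul, zero_add, add_zero, mul_zero, zero_sub] at r1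
        rw [hz', h.elin_coord, r1, zadd, zadd, hα, hαk, hBz, hBzk, hz', ← hγ] at e
        have e' : (a - γ * s * b - γ * s * s / 2 * d) • w + (b + s * d) • c + d • p =
            (a - k' * (γ * s * s / 2 * y)) • w + (b + k' * (s * y)) • c + d • p := by
          rw [e]; module
        refine ⟨?_, ?_⟩
        · have := congrArg (fun v => β D v p) e'
          rwa [(h.coord _ _ _).1, (h.coord _ _ _).1] at this
        · have := congrArg (fun v => β D v c) e'
          rw [(h.coord _ _ _).2.1, (h.coord _ _ _).2.1] at this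
          exact mul_right_cancel₀ h.hc this
      obtain ⟨ha1, hb1⟩ := hE 1
      have hd : d = k' * y := by linear_combination hb1
      refine ⟨a, ?_⟩
      have hb : b = 0 := by
        refine (mul_eq_zero.1 (?_ : γ * b = 0)).resolve_left h.hc
        rw [hd] at ha1
        linear_combination -ha1
      rw [hz', hb, hd, zero_smul, add_zero]
    choose a₀ ha₀ using hzp
    have a₀add : ∀ u v, a₀ (u + v) = a₀ u + a₀ v := fun u v => smul_left_injective K hw0 (by
      have := zadd (u • p) (v • p)
      rw [← add_smul, ha₀, ha₀, ha₀, mul_add, add_smul (k' * u)] at this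
      show a₀ (u + v) • w = (a₀ u + a₀ v) • w
      linear_combination (norm := module) this)
    have a₀τ : ∀ a, a ≠ 0 → ∀ y, a * a * a₀ (a * a * y) = a₀ y := fun a ha y => by
      obtain ⟨τ, h1, h2, -, h5⟩ := zτ a ha
      have e := h5 ((a * a * y) • p)
      rw [h2, ha₀, ha₀, map_add, h1, mul_left_comm k', h2, add_left_inj] at e
      exact smul_left_injective K hw0 e
    have ha₀0 : ∀ y, a₀ y = 0 := fun y => by
      have e : a₀ y = a₀ (x₀ * x₀ * y) + a₀ (y₀ * y₀ * y) := by rw [← a₀add, ← add_mul, hxy, one_mul]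
      have ex := a₀τ x₀ hx₀ y
      have ey := a₀τ y₀ hy₀ y
      have : (x₀ * x₀ * (y₀ * y₀) - 1) * a₀ y = 0 := by
        linear_combination x₀ * x₀ * (y₀ * y₀) * e + y₀ * y₀ * ex + x₀ * x₀ * ey + a₀ y * hxy
      exact (mul_eq_zero.1 this).resolve_left (sub_ne_zero.2 hxy')
    refine ⟨k', fun x => ?_⟩
    have hzx : z x = k' • x := by
      rw [h.expand x, zadd, zadd, hα, hαk, hBz, hBzk, ha₀, ha₀0, zero_smul, zero_add, smul_add, smul_add,
        smul_smul, smul_smul, smul_smul]
    rw [← hzx, hz, act_cancel_inv]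
  choose κ hκ using hback
  have κinj : Function.Injective κ := fun a b e => by
    refine smul_left_injective K (fun e0 => hw0 (act_injective m (e0.trans (map_zero _).symm))) ?_
    show a • act m w = b • act m w
    rw [hκ, hκ, e]
  intro k'
  obtain ⟨k, rfl⟩ := Finite.injective_iff_surjective.1 κinj k'
  exact ⟨k, fun x => (hκ k x).symm⟩

end Cfsg.Agent.Forms.Max.OrthExtField.Rank3
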