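import Mathlib
import Cfsg.Agent.Lib.Forms.Max.OrthExtField.Rank3.Stab

/-!
# The squares of the rotations about a non-singular vector
-/

set_option autoImplicit false
set_option linter.unusedSectionVars false

namespace Cfsg.Agent.Forms.Max.OrthExtField.Rank3

open Matrix Cfsg.Agent.Forms.QuadStd Cfsg.Agent.Forms.Reflections Cfsg.Agent.Classical.Orth

variable {F : Type*} [Field F] [Fintype F] {ι : Type} [Fintype ι] [DecidableEq ι]
variable {K : Type*} [Field K] [Algebra F K] [FiniteDimensional F K]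
variable [Module K (ι → F)] [IsScalarTower F K (ι → F)]
variable {Q : QuadraticForm F (ι → F)}

local notation "Vec" => (ι → F)
local notation "B" => QuadraticMap.polar Q
set_option quotPrecheck false in
local notation "Iso" => Cfsg.isometryGroup F ⇑Q

variable (D : Data K Q) {M : Subgroup (Cfsg.isometryGroup F ⇑Q)}

/-- the size of a circle -/
theorem card_circle [Finite K] (h2 : (2 : K) ≠ 0) {δ : K} (hδ : δ ≠ 0) :
    Nat.card {ab : K × K // ab.1 * ab.1 + δ * (ab.2 * ab.2) = 1} = Nat.card K + 1 ∨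
      Nat.card {ab : K × K // ab.1 * ab.1 + δ * (ab.2 * ab.2) = 1} + 1 = Nat.card K := by
  classical
  let f : Option {t : K // 1 + δ * (t * t) ≠ 0} → {ab : K × K // ab.1 * ab.1 + δ * (ab.2 * ab.2) = 1} := fun o =>
    match o with
    | none => ⟨(-1, 0), by simp⟩
    | some t => ⟨((1 - δ * (t.1 * t.1)) / (1 + δ * (t.1 * t.1)), 2 * t.1 / (1 + δ * (t.1 * t.1))), by
        have h0 : 1 + δ * t.1 ^ 2 ≠ 0 := by rw [pow_two]; exact t.2
        show _ / _ * (_ / _) + δ * (_ / _ * (_ / _)) = 1
        field_simp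
        ring⟩
  have hne : ∀ t : {t : K // 1 + δ * (t * t) ≠ 0}, (f (some t)).1.1 ≠ -1 := fun t e => by
    have h0 : 1 + δ * t.1 ^ 2 ≠ 0 := by rw [pow_two]; exact t.2
    change (1 - δ * (t.1 * t.1)) / (1 + δ * (t.1 * t.1)) = -1 at e
    field_simp at e
    exact h2 (by linear_combination e)
  have hf : Function.Bijective f := by
    refine ⟨?_, ?_⟩
    · rintro (_ | s) (_ | t) e
      · rfl
      · exact absurd (congrArg (fun z => z.1.1) e.symm) (hne t)
      · exact absurd (congrArg (fun z => z.1.1) e) (hne s)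
      · have ht := t.2
        have hs2 : 1 + δ * s.1 ^ 2 ≠ 0 := by rw [pow_two]; exact s.2
        have ht2 : 1 + δ * t.1 ^ 2 ≠ 0 := by rw [pow_two]; exact t.2
        have e1 := congrArg (fun z => z.1.1) e
        have e2 := congrArg (fun z => z.1.2) e
        change (1 - δ * (s.1 * s.1)) / (1 + δ * (s.1 * s.1)) = (1 - δ * (t.1 * t.1)) / (1 + δ * (t.1 * t.1)) at e1
        change 2 * s.1 / (1 + δ * (s.1 * s.1)) = 2 * t.1 / (1 + δ * (t.1 * t.1)) at e2
        field_simp at e1 e2
        refine congrArg some (Subtype.ext ?_)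
        have h1 : (2 : K) * δ * (s.1 * s.1 - t.1 * t.1) = 0 := by linear_combination -e1
        have h3 : s.1 * s.1 = t.1 * t.1 :=
          sub_eq_zero.1 ((mul_eq_zero.1 h1).resolve_left (mul_ne_zero h2 hδ))
        have h4 : (2 : K) * (1 + δ * (t.1 * t.1)) * (s.1 - t.1) = 0 := by
          have : δ * (s.1 * s.1) = δ * (t.1 * t.1) := by rw [h3]
          linear_combination (norm := ring_nf) 2 * e2 + 2 * t.1 * this
        exact sub_eq_zero.1 ((mul_eq_zero.1 h4).resolve_left (mul_ne_zero h2 ht))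
    · rintro ⟨⟨a, b⟩, hab⟩
      change a * a + δ * (b * b) = 1 at hab
      by_cases ha : a = -1
      · refine ⟨none, Subtype.ext (Prod.ext ha.symm ?_)⟩
        have : δ * (b * b) = 0 := by rw [ha] at hab; linear_combination hab
        exact (mul_self_eq_zero.1 ((mul_eq_zero.1 this).resolve_left hδ)).symm
      have h1 : 1 + a ≠ 0 := fun e => ha (by linear_combination e)
      have key : 1 + δ * (b / (1 + a) * (b / (1 + a))) = 2 / (1 + a) := by
        field_simp
        linear_combination hab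
      refine ⟨some ⟨b / (1 + a), by rw [key]; exact div_ne_zero h2 h1⟩, Subtype.ext (Prod.ext ?_ ?_)⟩
      · show (1 - δ * (b / (1 + a) * (b / (1 + a)))) / (1 + δ * (b / (1 + a) * (b / (1 + a)))) = a
        rw [key]
        field_simp
        linear_combination -hab
      · show 2 * (b / (1 + a)) / (1 + δ * (b / (1 + a) * (b / (1 + a)))) = b
        rw [key]
        field_simp
  rw [← Nat.card_congr (Equiv.ofBijective f hf), Finite.card_option]
  have hsum : Nat.card {t : K // 1 + δ * (t * t) = 0} + Nat.card {t : K // 1 + δ * (t * t) ≠ 0} = Nat.card K := by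
    rw [← Nat.card_sum]
    exact Nat.card_congr (Equiv.sumCompl _)
  by_cases hroot : ∃ t : K, 1 + δ * (t * t) = 0
  · right
    obtain ⟨t₀, ht₀⟩ := hroot
    have ht0 : t₀ ≠ 0 := fun e => by rw [e] at ht₀; simp at ht₀
    have : Nat.card {t : K // 1 + δ * (t * t) = 0} = 2 := by
      have e : {t : K | 1 + δ * (t * t) = 0} = {t₀, -t₀} := by
        ext t
        simp only [Set.mem_setOf_eq, Set.mem_insert_iff, Set.mem_singleton_iff]
        refine ⟨fun h => mul_self_eq_mul_self_iff.1 (mul_left_cancel₀ hδ (by linear_combination h - ht₀)), ?_⟩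
        rintro (rfl | rfl)
        · exact ht₀
        · rw [neg_mul_neg]; exact ht₀
      have h := congrArg Set.ncard e
      rw [Set.ncard_pair (fun h => ht0 ((mul_eq_zero.1 (by linear_combination h : (2 : K) * t₀ = 0)).resolve_left h2)),
        ← Nat.card_coe_set_eq] at h
      exact h
    omega
  · left
    push Not at hroot
    haveI : IsEmpty {t : K // 1 + δ * (t * t) = 0} := ⟨fun t => hroot t.1 t.2⟩
    rw [Nat.card_of_isEmpty, zero_add] at hsum
    omega

theorem exists_plane (h3 : Module.finrank K Vec = 3) {x : Vec} (hx : β D x x ≠ 0) :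
    ∃ e₁ e₂, β D e₁ e₁ ≠ 0 ∧ β D e₂ e₂ ≠ 0 ∧ β D e₁ e₂ = 0 ∧ β D x e₁ = 0 ∧ β D x e₂ = 0 := by
  haveI : FiniteDimensional K Vec := Module.Finite.right F K Vec
  obtain ⟨y, -, hy0, hy⟩ := exists_ker D (S := (⊤ : Submodule K Vec)) ![x] (by rw [finrank_top]; omega)
  have hxy : β D x y = 0 := hy 0
  obtain ⟨e₁, he₁, hee⟩ : ∃ e₁, β D x e₁ = 0 ∧ β D e₁ e₁ ≠ 0 := by
    by_cases hyy : β D y y = 0
    swap
    · exact ⟨y, hxy, hyy⟩
    obtain ⟨s, -, hs⟩ := nd_top D y trivial hy0
    set s' := s - (β D x s / β D x x) • x with hs'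
    have h1 : β D x s' = 0 := by simp [hs', div_mul_cancel₀ _ hx]
    have h2 : β D y s' ≠ 0 := by simpa [hs', β_comm D y x, hxy] using hs
    by_cases hss : β D s' s' = 0
    swap
    · exact ⟨s', h1, hss⟩
    refine ⟨y + s', by rw [map_add, hxy, h1, add_zero], ?_⟩
    simp only [map_add, LinearMap.add_apply, hyy, hss, β_comm D s' y, add_zero, zero_add, ← two_mul]
    exact mul_ne_zero (two_ne D) h2
  obtain ⟨e₂, -, he₂0, he₂⟩ := exists_ker D (S := (⊤ : Submodule K Vec)) ![x, e₁] (by rw [finrank_top]; omega)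
  have h1 : β D x e₂ = 0 := he₂ 0
  have h2 : β D e₁ e₂ = 0 := he₂ 1
  refine ⟨e₁, e₂, hee, fun h => he₂0 (β_ext D fun z => ?_), h2, he₁, h1⟩
  have hli : LinearIndependent K ![x, e₁, e₂] := by
    rw [Fintype.linearIndependent_iff]
    intro g hg
    simp only [Fin.sum_univ_three, Matrix.cons_val] at hg
    have a1 := congrArg (fun v => β D x v) hg
    have a2 := congrArg (fun v => β D e₁ v) hg
    simp only [map_add, map_smul, smul_eq_mul, he₁, h1, h2, β_comm D e₁ x, mul_zero, add_zero, zero_add, map_zero,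
      mul_eq_zero, hx, hee, or_false] at a1 a2
    rw [a1, a2, zero_smul, zero_smul, zero_add, zero_add, smul_eq_zero] at hg
    intro i
    fin_cases i
    exacts [a1, a2, hg.resolve_right he₂0]
  have hz : z ∈ Submodule.span K (Set.range ![x, e₁, e₂]) := by
    rw [hli.span_eq_top_of_card_eq_finrank (by rw [h3, Fintype.card_fin])]
    trivial
  exact (Submodule.span_le.2 (Set.range_subset_iff.2 fun i => by
    fin_cases i <;> simp [β_comm D e₂ x, β_comm D e₂ e₁, h1, h2, h]) hz : z ∈ LinearMap.ker (β D e₂))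

/-- squares of rotations -/
theorem exists_rot (hM : LinM (K := K) M) (h3 : Module.finrank K Vec = 3) {x : Vec} (hx : β D x x ≠ 0) :
    ∃ T : Subgroup Iso, T ≤ M ∧ (∀ t ∈ T, ∀ k : K, act t (k • x) = k • x) ∧
      (2 * Nat.card T = Nat.card K + 1 ∨ 2 * Nat.card T + 1 = Nat.card K) ∧
      ∀ s ∈ T, ∀ t ∈ T, s * s = 1 → t * t = 1 → s ≠ 1 → t ≠ 1 → s = t := by
  haveI : Finite K := Module.finite_of_finite F
  obtain ⟨e₁, e₂, h1, h2, h12, hx1, hx2⟩ := exists_plane D h3 hx
  set a₁ := β D e₁ e₁ with ha₁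
  set a₂ := β D e₂ e₂ with ha₂
  set δ := a₂ / a₁ with hδ
  have h21 : β D e₂ e₁ = 0 := by rw [β_comm, h12]
  let R : K → K → (Vec →ₗ[K] Vec) := fun a b => LinearMap.id +
    ((β D).flip e₁).smulRight (((a - 1) / a₁) • e₁ + (b / a₁) • e₂) +
    ((β D).flip e₂).smulRight ((-(b / a₁)) • e₁ + ((a - 1) / a₂) • e₂)
  have hR : ∀ a b y, R a b y = y + ((a - 1) / a₁ * β D y e₁ - b / a₁ * β D y e₂) • e₁ +
      (b / a₁ * β D y e₁ + (a - 1) / a₂ * β D y e₂) • e₂ := fun a b y => by
    simp only [R, LinearMap.add_apply, LinearMap.id_apply, LinearMap.smulRight_apply, LinearMap.flip_apply]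
    module
  have hmul : ∀ a b a' b' y, R a b (R a' b' y) = R (a * a' - δ * (b * b')) (a * b' + b * a') y := by
    intro a b a' b' y
    simp only [hR, map_add, map_smul, LinearMap.add_apply, LinearMap.smul_apply, smul_eq_mul, ← ha₁, ← ha₂, h12, h21,
      mul_zero, add_zero, zero_add]
    match_scalars <;> simp only [hδ] <;> field_simp <;> ring
  have hone : ∀ y, R 1 0 y = y := fun y => by simp [hR]
  have hiso : ∀ a b, a * a + δ * (b * b) = 1 → ∀ y z, β D (R a b y) (R a b z) = β D y z := by
    intro a b hab y z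
    simp only [hR, map_add, map_smul, LinearMap.add_apply, LinearMap.smul_apply, smul_eq_mul, ← ha₁, ← ha₂, h12, h21,
      β_comm D e₁ z, β_comm D e₂ z, mul_zero, add_zero, zero_add]
    rw [hδ] at hab
    field_simp at hab ⊢
    linear_combination (β D y e₁ * β D z e₁ * a₂ + β D y e₂ * β D z e₂ * a₁) * hab
  have hrec : ∀ a b a' b', (∀ y, R a b y = R a' b' y) → a = a' ∧ b = b' := fun a b a' b' h => by
    have e1 := congrArg (fun v => β D v e₁) (h e₁)
    have e2 := congrArg (fun v => β D v e₂) (h e₁)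
    simp only [hR, map_add, map_smul, LinearMap.add_apply, LinearMap.smul_apply, smul_eq_mul, ← ha₁, ← ha₂, h12, h21,
      mul_zero, add_zero, zero_add, sub_zero, div_mul_cancel₀ _ h1] at e1 e2
    exact ⟨sub_left_injective (mul_right_cancel₀ h1 (add_left_cancel e1)), mul_right_cancel₀ h2 e2⟩
  let Rot : Subgroup Iso :=
    { carrier := {g | ∃ a b : K, a * a + δ * (b * b) = 1 ∧ ∀ y, act g y = R a b y}
      one_mem' := ⟨1, 0, by simp, fun y => by rw [act_one, hone]⟩
      mul_mem' := fun {g g'} => by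
        rintro ⟨a, b, hab, hg⟩ ⟨a', b', hab', hg'⟩
        refine ⟨_, _, ?_, fun y => by rw [act_mul, hg, hg', hmul]⟩
        linear_combination (a' * a' + δ * (b' * b')) * hab + hab'
      inv_mem' := fun {g} => by
        rintro ⟨a, b, hab, hg⟩
        refine ⟨a, -b, by linear_combination hab, fun y => act_injective g ?_⟩
        rw [act_cancel_inv, hg, hmul]
        conv_lhs => rw [← hone y]
        congr 2
        · linear_combination -hab
        · ring }
  let co : Rot → {ab : K × K // ab.1 * ab.1 + δ * (ab.2 * ab.2) = 1} := fun g =>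
    ⟨(g.2.choose, g.2.choose_spec.choose), g.2.choose_spec.choose_spec.1⟩
  have hco : ∀ (g : Rot) y, act (g : Iso) y = R (co g).1.1 (co g).1.2 y := fun g =>
    g.2.choose_spec.choose_spec.2
  have hbij : Function.Bijective co := by
    refine ⟨fun g g' e => Subtype.ext (act_ext fun y => by rw [hco, hco, e]), fun ab => ?_⟩
    obtain ⟨g, hg⟩ := exists_iso_elem D (R ab.1.1 ab.1.2) (hiso _ _ ab.2)
    obtain ⟨e1, e2⟩ := hrec _ _ _ _ (fun y => (hco ⟨g, _, _, ab.2, hg⟩ y).symm.trans (hg y))
    exact ⟨⟨g, _, _, ab.2, hg⟩, Subtype.ext (Prod.ext e1 e2)⟩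
  have hcard := Nat.card_congr (Equiv.ofBijective co hbij)
  have hcomm : ∀ g g' : Rot, (g : Iso) * g' = g' * g := fun g g' => act_ext fun y => by
    rw [act_mul, act_mul, hco, hco, hco g', hco g, hmul, hmul, mul_comm (co g).1.1, mul_comm (co g).1.2,
      add_comm (_ * _) (_ * (co g).1.1)]
    congr 2
    ring
  let sq : Rot →* Iso :=
    { toFun := fun g => (g : Iso) * g
      map_one' := one_mul 1
      map_mul' := fun g g' => by
        rw [Subgroup.coe_mul, mul_assoc (g : Iso), ← mul_assoc (g' : Iso), ← hcomm g g']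
        group }
  have hinv : ∀ g : Rot, (g : Iso) * g = 1 → (co g).1.2 = 0 ∧ ((co g).1.1 = 1 ∨ (co g).1.1 = -1) := by
    intro g hg
    obtain ⟨e1, e2⟩ := hrec _ _ 1 0 fun y => by rw [← hmul, ← hco, ← hco, ← act_mul, hg, act_one, hone]
    have hab := (co g).2
    have ha : (co g).1.1 ≠ 0 := fun h0 => by
      rw [h0] at e1 hab
      exact two_ne D (by linear_combination -e1 - hab)
    have hb : (co g).1.2 = 0 := (mul_eq_zero.1 (by linear_combination e2 :
      (2 * (co g).1.1) * (co g).1.2 = 0)).resolve_left (mul_ne_zero (two_ne D) ha)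
    rw [hb] at hab
    exact ⟨hb, mul_self_eq_one_iff.1 (by linear_combination hab)⟩
  obtain ⟨ng, hng⟩ := hbij.2 ⟨(-1, 0), by simp⟩
  have hng1 : ng ≠ 1 := fun e => by
    obtain ⟨e1, -⟩ := hrec _ _ 1 0 fun y => by rw [← hco ng, e, Subgroup.coe_one, act_one, hone]
    rw [hng] at e1
    exact two_ne D (by linear_combination -e1)
  have hker : Nat.card sq.ker = 2 := by
    have e : (sq.ker : Set Rot) = {1, ng} := by
      ext g
      simp only [SetLike.mem_coe, MonoidHom.mem_ker, Set.mem_insert_iff, Set.mem_singleton_iff]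
      refine ⟨fun hg => ?_, ?_⟩
      · obtain ⟨hb, ha | ha⟩ := hinv g hg
        · left
          exact Subtype.ext (act_ext fun y => by rw [hco, ha, hb, hone, Subgroup.coe_one, act_one])
        · right
          exact hbij.1 (hng.symm ▸ Subtype.ext (Prod.ext ha hb))
      · rintro (rfl | rfl)
        · exact map_one sq
        · show (g : Iso) * g = 1
          refine act_ext fun y => ?_
          rw [act_mul, hco, hco, hng, hmul, act_one]
          simp [hone]
    rw [← SetLike.coe_sort_coe, Nat.card_coe_set_eq, e, Set.ncard_pair hng1.symm]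
  refine ⟨sq.range, ?_, ?_, ?_, ?_⟩
  · rintro _ ⟨g, rfl⟩
    obtain ⟨s, hs⟩ := exists_iso_elem D
      (LinearMap.id + ((β D).flip e₂).smulRight ((-2 / a₂) • e₂)) fun y z => by
      simp only [LinearMap.add_apply, LinearMap.id_apply, LinearMap.smulRight_apply, LinearMap.flip_apply, map_add,
        map_smul, LinearMap.smul_apply, smul_eq_mul, ← ha₂, β_comm D e₂ z]
      field_simp
      ring
    have hgl : ∀ y, act (g : Iso) y = R (co g).1.1 (co g).1.2 y := hco g
    have e : sq g = g * s * (g : Iso)⁻¹ * s⁻¹ := by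
      have key : ∀ y, act (g : Iso) (act s (act (g : Iso) y)) = act s y := fun y => by
        obtain ⟨a, b, hab, hg⟩ := g.2
        rw [hg, hg, hs, hs]
        rw [hδ] at hab
        simp only [LinearMap.add_apply, LinearMap.id_apply, LinearMap.smulRight_apply, LinearMap.flip_apply, hR,
          map_add, map_smul, LinearMap.smul_apply, smul_eq_mul, ← ha₁, ← ha₂, h12, h21, mul_zero, add_zero, zero_add]
        field_simp at hab
        match_scalars
        · rfl
        · field_simp
          linear_combination -(β D y e₂) * hab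
        · field_simp
          linear_combination (β D y e₁) * hab
      have k2 : (g : Iso) * s * g = s := act_ext fun y => by rw [act_mul, act_mul, key]
      show (g : Iso) * g = _
      rw [mul_assoc (g : Iso), mul_assoc (g : Iso), ← eq_mul_inv_iff_mul_eq.2 k2, mul_assoc, mul_inv_cancel, mul_one]
    rw [e]
    exact hM _ (Subgroup.commutator_mem_commutator (Subgroup.mem_top _) (Subgroup.mem_top _)) (lin_comm hgl hs)
  · rintro _ ⟨g, rfl⟩ k
    show act ((g : Iso) * (g : Iso)) _ = _
    rw [act_mul, hco, hco, hmul, hR]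
    simp [hx1, hx2]
  · have h := Subgroup.card_eq_card_quotient_mul_card_subgroup sq.ker
    rw [Nat.card_congr (QuotientGroup.quotientKerEquivRange sq).toEquiv, hker, hcard, mul_comm] at h
    rw [← h]
    exact card_circle (two_ne D) (div_ne_zero h2 h1)
  · rintro _ ⟨g, rfl⟩ _ ⟨g', rfl⟩ hs ht hs1 ht1
    have mem : ∀ g : Rot, sq g * sq g = 1 → sq g ≠ 1 → sq g = (ng : Iso) := fun g hg hg1 => by
      obtain ⟨hb, ha | ha⟩ := hinv (g * g) (by rw [Subgroup.coe_mul]; exact hg)
      · exact absurd (act_ext fun y => by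
          rw [act_one, show sq g = ((g * g : Rot) : Iso) from rfl, hco, ha, hb, hone]) hg1
      · exact congrArg Subtype.val (hbij.1 (hng.symm ▸ Subtype.ext (Prod.ext ha hb) : co (g * g) = co ng))
    rw [mem g hs hs1, mem g' ht ht1]

end Cfsg.Agent.Forms.Max.OrthExtField.Rank3
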