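import Mathlib
import Cfsg.Agent.Lib.Coprime.FixedPointFree

/-!
# No doubly transitive group with the point stabiliser of the rank three semilinear group and small order
-/

set_option autoImplicit false
set_option linter.unusedSectionVars false

namespace Cfsg.Agent.Forms.Max.OrthExtField.Rank3

open scoped IsMulCommutative
open MulAction

variable {G : Type*} [Group G] [Finite G] {Ω : Type*} [MulAction G Ω]

/-- Burnside's transfer for a semiregular abelian point stabiliser -/
theorem exists_kernel (p : ℕ) [Fact p.Prime] (U : Subgroup G) [IsMulCommutative U] (a : Ω)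
    (hU : stabilizer G a = U) (hp : IsPGroup p U) (hU1 : U ≠ ⊥)
    (hfree : ∀ u ∈ U, u ≠ 1 → ∀ g : G, u • g • a = g • a → g • a = a) :
    ∃ R : Subgroup G, R.Normal ∧ R.IsComplement' U ∧ ∀ u ∈ U, u ≠ 1 → R ⊓ Subgroup.centralizer {u} = ⊥ := by
  have hself : ∀ g, (∀ u ∈ U, g * u * g⁻¹ ∈ U) → g ∈ U := by
    intro g hg
    obtain ⟨u, hu, hu1⟩ := Subgroup.bot_or_exists_ne_one U |>.resolve_left hU1
    rw [← hU, mem_stabilizer_iff]
    have h1 := hg u hu
    refine hfree _ h1 (fun e => hu1 (by simpa using e)) g ?_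
    rw [← mul_smul, inv_mul_cancel_right, mul_smul, show u • a = a from mem_stabilizer_iff.1 (hU.symm ▸ hu)]
  obtain ⟨S, hS⟩ := hp.exists_le_sylow
  have hSU : (S : Subgroup G) = U := by
    by_contra hne
    have hlt : U.subgroupOf (S : Subgroup G) < ⊤ := lt_top_iff_ne_top.2 fun e => hne
      (le_antisymm (Subgroup.subgroupOf_eq_top.1 e) hS)
    haveI : Group.IsNilpotent S := S.2.isNilpotent
    obtain ⟨x, hx, hxU⟩ := SetLike.exists_of_lt (normalizerCondition_of_isNilpotent _ hlt)
    refine hxU (Subgroup.mem_subgroupOf.2 (hself x fun u hu => ?_))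
    exact Subgroup.mem_subgroupOf.1 ((Subgroup.mem_normalizer_iff.1 hx ⟨u, hS hu⟩).1
      (Subgroup.mem_subgroupOf.2 hu))
  have hP : Subgroup.normalizer (S : Set G) ≤ Subgroup.centralizer (S : Set G) := by
    intro g hg u hu
    have hgU : g ∈ U := hself g fun v hv => by
      rw [← hSU] at hv ⊢
      exact (Subgroup.mem_normalizer_iff.1 hg v).1 hv
    have huU : u ∈ U := hSU ▸ hu
    exact congrArg Subtype.val (mul_comm (⟨u, huU⟩ : U) ⟨g, hgU⟩)
  refine ⟨_, inferInstance, (congrArg (Subgroup.IsComplement' _) hSU).mp (MonoidHom.ker_transferSylow_isComplement' S hP), fun u hu hu1 => ?_⟩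
  rw [Subgroup.eq_bot_iff_forall]
  intro v hv
  obtain ⟨hv1, hv2⟩ := Subgroup.mem_inf.1 hv
  have hvU : v ∈ U := by
    rw [← hU, mem_stabilizer_iff]
    refine hfree u hu hu1 v ?_
    rw [← mul_smul, ← Subgroup.mem_centralizer_singleton_iff.1 hv2, mul_smul,
      show u • a = a from mem_stabilizer_iff.1 (hU.symm ▸ hu)]
  exact (Subgroup.mem_bot.1 ((disjoint_iff.1 (MonoidHom.ker_transferSylow_disjoint S hP U hp)) ▸
    Subgroup.mem_inf.2 ⟨hv1, hvU⟩))

/-- a semiregular non-cyclic abelian stabiliser is everything -/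
theorem fixed_of_free (p : ℕ) [Fact p.Prime] (U : Subgroup G) [IsMulCommutative U] (a : Ω)
    (hU : stabilizer G a = U) (hp : IsPGroup p U) (hnc : ¬ IsCyclic U)
    (hfree : ∀ u ∈ U, u ≠ 1 → ∀ g : G, u • g • a = g • a → g • a = a) (g : G) : g • a = a := by
  have hU1 : U ≠ ⊥ := fun h => hnc (h ▸ (inferInstance : IsCyclic (⊥ : Subgroup G)))
  obtain ⟨R, hR, hRU, hfpf⟩ := exists_kernel p U a hU hp hU1 hfree
  have hnorm : U ≤ Subgroup.normalizer (R : Set G) := by
    rw [Subgroup.normalizer_eq_top]; exact le_top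
  have hR1 : R = ⊥ := by
    by_contra h
    exact hnc (Coprime.fpf_isCyclic_of_abelian hnorm hfpf h)
  subst hR1
  have : U = ⊤ := Subgroup.isComplement'_bot_left.1 hRU
  exact mem_stabilizer_iff.1 (hU.symm ▸ this.symm ▸ Subgroup.mem_top g)

/-- the sharply doubly transitive groups with such a stabiliser -/
theorem sharply {q p : ℕ} [Fact p.Prime] (A : Subgroup G) [IsMulCommutative A] (a : Ω) [Finite Ω]
    [IsPretransitive G Ω] (hA : stabilizer G a = A) (hAq : Nat.card A = q) (hexp : ∀ u ∈ A, u ^ p = 1)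
    (hΩ : Nat.card Ω = q + 1) (hq : 2 ≤ q) (hqodd : Odd q)
    (hfree : ∀ u ∈ A, u ≠ 1 → ∀ g : G, u • g • a = g • a → g • a = a) :
    q = p ∧ ∃ S : Subgroup G, S.Normal ∧ Nat.card S = q + 1 ∧ (∀ x ∈ S, x * x = 1) ∧ ∃ k, q + 1 = 2 ^ k := by
  have hp : IsPGroup p A := fun u => ⟨1, by rw [pow_one]; exact Subtype.ext (hexp u u.2)⟩
  have hA1 : A ≠ ⊥ := fun h => by rw [h, Subgroup.card_bot] at hAq; omega
  obtain ⟨R, hR, hRA, hfpf⟩ := exists_kernel p A a hA hp hA1 hfree
  have hnorm : A ≤ Subgroup.normalizer (R : Set G) := by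
    rw [Subgroup.normalizer_eq_top]; exact le_top
  have hcard : Nat.card G = (q + 1) * q := by
    rw [← hΩ, ← hAq, ← hA, ← MulAction.index_stabilizer_of_transitive G a, Subgroup.index_mul_card]
  have hRc : Nat.card R = q + 1 := by
    have := hRA.card_mul
    rw [hAq, hcard] at this
    exact Nat.eq_of_mul_eq_mul_right (by omega) this
  have hR1 : R ≠ ⊥ := fun h => by rw [h, Subgroup.card_bot] at hRc; omega
  have hcyc : IsCyclic A := Coprime.fpf_isCyclic_of_abelian hnorm hfpf hR1
  have hqp : q = p := by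
    obtain ⟨g, hg⟩ := IsCyclic.exists_generator (α := A)
    have h1 := orderOf_eq_card_of_forall_mem_zpowers hg
    have h2 : orderOf g ∣ p := orderOf_dvd_of_pow_eq_one (Subtype.ext (hexp g g.2))
    rw [h1, hAq] at h2
    exact ((Nat.dvd_prime Fact.out).1 h2).resolve_left (by omega)
  obtain ⟨x, hx⟩ : ∃ x : R, orderOf x = 2 := by
    haveI : Fact (Nat.Prime 2) := ⟨Nat.prime_two⟩
    exact exists_prime_orderOf_dvd_card' 2 (by rw [hRc]; obtain ⟨m, hm⟩ := hqodd; omega)
  have hx1 : x ≠ 1 := fun h => by rw [h, orderOf_one] at hx; omega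
  have hall : ∀ y : R, y * y = 1 := by
    intro y
    rcases eq_or_ne y 1 with rfl | hy
    · rw [one_mul]
    let f : A → {z : R // z ≠ 1} := fun u => ⟨⟨u * x * (u : G)⁻¹, hR.conj_mem _ x.2 _⟩, fun e => hx1 (Subtype.ext (by
      have := congrArg Subtype.val e
      simpa using this))⟩
    have hf : Function.Injective f := fun u v e => by
      have h : (u : G) * x * (u : G)⁻¹ = v * x * (v : G)⁻¹ := congrArg (fun z : {z : R // z ≠ 1} => (z.1 : G)) e
      by_contra hne
      refine hx1 (Subtype.ext (Coprime.fpf_eq_one hfpf (a := (v : G)⁻¹ * u) (mul_mem (inv_mem v.2) u.2) (fun e => hne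
        (Subtype.ext (inv_mul_eq_one.1 e).symm)) x.2 ?_))
      have := congrArg (fun z => (v : G)⁻¹ * z * u) h
      simpa [mul_assoc] using this.symm
    have hc : Nat.card {z : R // z ≠ 1} = q := by
      classical
      have h : Nat.card R = Nat.card {z : R // z = 1} + Nat.card {z : R // z ≠ 1} := by
        rw [← Nat.card_sum]; exact Nat.card_congr (Equiv.sumCompl _).symm
      rw [hRc, Nat.card_unique] at h
      omega
    obtain ⟨u, hu⟩ := (Function.Injective.bijective_of_nat_card_le hf (by rw [hc, hAq])).2 ⟨y, hy⟩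
    have e : (u : G) * x * (u : G)⁻¹ = y := congrArg (fun z : {z : R // z ≠ 1} => (z.1 : G)) hu
    apply Subtype.ext
    have hxx : (x : G) * x = 1 := by
      have h := pow_orderOf_eq_one x
      rw [hx, pow_two] at h
      exact congrArg Subtype.val h
    show (y : G) * y = 1
    rw [← e]
    calc (u : G) * x * (u : G)⁻¹ * (u * x * (u : G)⁻¹) = u * (x * x) * (u : G)⁻¹ := by group
      _ = 1 := by rw [hxx]; group
  refine ⟨hqp, R, hR, hRc, fun y hy => congrArg Subtype.val (hall ⟨y, hy⟩), ?_⟩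
  haveI : Fact (Nat.Prime 2) := ⟨Nat.prime_two⟩
  obtain ⟨k, hk⟩ := IsPGroup.iff_card.1 (show IsPGroup 2 R from fun y => ⟨1, by rw [pow_one, pow_two]; exact hall y⟩)
  exact ⟨k, hRc ▸ hk⟩

end Cfsg.Agent.Forms.Max.OrthExtField.Rank3
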