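import Mathlib
import Cfsg.Agent.Lib.Forms.Max.OrthExtField.Rank3.Group

/-!
# The group of degree `q ^ r + 1` does not exist
-/

set_option autoImplicit false
set_option linter.unusedSectionVars false

namespace Cfsg.Agent.Forms.Max.OrthExtField.Rank3

open scoped IsMulCommutative
open MulAction

variable {G : Type*} [Group G] [Finite G] {Ω : Type*} [MulAction G Ω] [Finite Ω]

theorem not_cyclic_of_exp {p : ℕ} (U : Subgroup G) (hexp : ∀ u ∈ U, u ^ p = 1) (hp : 0 < p)
    (hcard : p < Nat.card U) : ¬ IsCyclic U := fun h => by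
  obtain ⟨g, hg⟩ := h.exists_generator
  have h1 := orderOf_eq_card_of_forall_mem_zpowers hg
  have h2 : orderOf g ∣ p := orderOf_dvd_of_pow_eq_one (Subtype.ext (hexp g g.2))
  rw [h1] at h2
  have := Nat.le_of_dvd hp h2
  omega

theorem geom_parity {q r : ℕ} (hq : Odd q) (hr : Odd r) {k : ℕ} (hk : q + 1 = 2 ^ k) :
    ∃ m, q ^ r + 1 = 2 ^ k * m ∧ Odd m := by
  obtain ⟨n, rfl⟩ := hr
  have key : ∀ n : ℕ, ∃ t : ℕ, q ^ (2 * n + 1) = q + 2 * 2 ^ k * t := by
    intro n
    induction n with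
    | zero => exact ⟨0, by simp⟩
    | succ n ih =>
      obtain ⟨t, ht⟩ := ih
      obtain ⟨s, rfl⟩ := hq
      refine ⟨t * (2 * s + 1) * (2 * s + 1) + (2 * s + 1) * s, ?_⟩
      have h2 : (2 * s + 1) * (2 * s + 1) = 1 + 2 * 2 ^ k * s := by rw [← hk]; ring
      calc (2 * s + 1) ^ (2 * (n + 1) + 1) = ((2 * s + 1) * (2 * s + 1)) * (2 * s + 1) ^ (2 * n + 1) := by ring
        _ = _ := by rw [ht]; nlinarith [h2]
  obtain ⟨t, ht⟩ := key n
  exact ⟨1 + 2 * t, by rw [ht, add_right_comm, hk]; ring, ⟨t, by ring⟩⟩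

/-- no such group of degree twenty-eight -/
theorem no_group_small (a b : Ω) (hb : b ≠ a) [IsPretransitive G Ω] (U : Subgroup G) (hUa : U ≤ stabilizer G a)
    (hUcard : Nat.card U = 27) (hfree : ∀ u ∈ U, u ≠ 1 → ∀ x : Ω, u • x = x → x = a) (hΩ : Nat.card Ω = 28)
    (hPc : Nat.card (stabilizer G a) = 81) (hreg : ∀ x : Ω, x ≠ a → ∃ u ∈ U, u • b = x)
    (T : Subgroup G) (hT : Nat.card T = 14)
    (hT2 : ∀ x ∈ T, ∀ y ∈ T, x * x = 1 → y * y = 1 → x ≠ 1 → y ≠ 1 → x = y) : False := by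
  classical
  haveI : Fact (Nat.Prime 7) := ⟨by norm_num⟩
  haveI : Fact (Nat.Prime 2) := ⟨Nat.prime_two⟩
  have hG : Nat.card G = 2268 := by
    rw [← Subgroup.index_mul_card (stabilizer G a), MulAction.index_stabilizer_of_transitive G a, hΩ, hPc]
  -- normal subgroups are transitive or trivial
  have hfix : ∀ K : Subgroup G, K.Normal → ¬ 28 ∣ Nat.card K → ∀ k ∈ K, ∀ x : Ω, k • x = x := by
    intro K hK hdiv
    have ha : ∀ k ∈ K, k • a = a := by
      by_contra hc
      push Not at hc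
      obtain ⟨k, hk, hka⟩ := hc
      obtain ⟨v, hv, hvb⟩ := hreg _ hka
      haveI : IsPretransitive K Ω := isPretransitive_iff_base a |>.2 fun x => by
        rcases eq_or_ne x a with rfl | hx
        · exact ⟨1, one_smul _ _⟩
        obtain ⟨w, hw, hwb⟩ := hreg _ hx
        refine ⟨⟨w * v⁻¹ * k * (w * v⁻¹)⁻¹, hK.conj_mem k hk _⟩, ?_⟩
        show (w * v⁻¹ * k * (w * v⁻¹)⁻¹) • a = x
        rw [mul_smul, mul_inv_rev, inv_inv, mul_smul v w⁻¹,
          show w⁻¹ • a = a from mem_stabilizer_iff.1 (hUa (inv_mem hw)),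
          show v • a = a from mem_stabilizer_iff.1 (hUa hv), mul_smul, ← hvb, mul_smul, inv_smul_smul, hwb]
      refine hdiv ?_
      rw [← hΩ, ← MulAction.index_stabilizer_of_transitive K a]
      exact Subgroup.index_dvd_card _
    intro k hk x
    obtain ⟨g, rfl⟩ := exists_smul_eq G a x
    have := ha _ (hK.conj_mem k hk g⁻¹)
    rwa [inv_inv, mul_smul, mul_smul, inv_smul_eq_iff] at this
  -- the torus centralises its element of order seven
  obtain ⟨y, hy⟩ := exists_prime_orderOf_dvd_card' 7 (G := T) (by rw [hT]; norm_num)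
  obtain ⟨t, ht⟩ := exists_prime_orderOf_dvd_card' 2 (G := T) (by rw [hT]; norm_num)
  have ht' : orderOf (t : G) = 2 := by rw [Subgroup.orderOf_coe]; exact ht
  have hy' : orderOf (y : G) = 7 := by rw [Subgroup.orderOf_coe]; exact hy
  have ht1 : (t : G) ≠ 1 := fun e => by rw [e, orderOf_one] at ht'; omega
  have htt : (t : G) * t = 1 := by rw [← pow_two, ← ht', pow_orderOf_eq_one]
  have hcomm : (y : G) * t = t * y := by
    refine mul_inv_eq_iff_eq_mul.1 (hT2 _ (mul_mem (mul_mem y.2 t.2) (inv_mem y.2)) t t.2 ?_ htt ?_ ht1)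
    · calc (y : G) * t * (y : G)⁻¹ * ((y : G) * t * (y : G)⁻¹) = y * ((t : G) * t) * (y : G)⁻¹ := by group
        _ = 1 := by rw [htt]; group
    · intro e
      exact ht1 (by rwa [conj_eq_one_iff] at e)
  let P : Sylow 7 G := Sylow.ofCard (Subgroup.zpowers (y : G)) (by
    rw [Nat.card_zpowers, hy', hG, show (2268 : ℕ) = 7 ^ 1 * 324 by norm_num,
      Nat.factorization_mul (by norm_num) (by norm_num), Finsupp.add_apply, Nat.Prime.factorization_pow (by norm_num),
      Finsupp.single_eq_same, Nat.factorization_eq_zero_of_not_dvd (by norm_num : ¬ 7 ∣ 324), add_zero, pow_one])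
  have hP7 : Nat.card (P : Subgroup G) = 7 := by
    show Nat.card (Subgroup.zpowers (y : G)) = 7
    rw [Nat.card_zpowers, hy']
  have hC14 : 14 ∣ Nat.card (Subgroup.centralizer ((P : Subgroup G) : Set G)) := by
    have hmem : ∀ g : G, Commute g (y : G) → g ∈ Subgroup.centralizer ((P : Subgroup G) : Set G) := fun g hg z hz => by
      obtain ⟨j, rfl⟩ := Subgroup.mem_zpowers_iff.1 (show z ∈ Subgroup.zpowers (y : G) from hz)
      exact ((hg.zpow_right j).eq).symm
    rw [show 14 = Nat.lcm 7 2 by decide]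
    refine Nat.lcm_dvd ?_ ?_
    · have := Subgroup.orderOf_dvd_natCard _ (hmem _ (Commute.refl (y : G)))
      rwa [hy'] at this
    · have := Subgroup.orderOf_dvd_natCard _ (hmem _ hcomm.symm)
      rwa [ht'] at this
  set N := Subgroup.normalizer ((P : Subgroup G) : Set G) with hN
  have hCN : Subgroup.centralizer ((P : Subgroup G) : Set G) ≤ N := Subgroup.centralizer_le_normalizer _
  obtain ⟨j, hj⟩ := hC14.trans (Subgroup.card_dvd_of_le hCN)
  have hidx := Subgroup.index_mul_card N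
  rw [hG, hj] at hidx
  have hn7 : N.index ≡ 1 [MOD 7] := by
    have := card_sylow_modEq_one 7 G
    rwa [P.card_eq_index_normalizer] at this
  have hd : N.index ∣ 162 := ⟨j, by
    have : N.index * j * 14 = 162 * 14 := by rw [mul_assoc, mul_comm j 14]; exact hidx.trans (by norm_num)
    exact (Nat.eq_of_mul_eq_mul_right (by norm_num) this).symm⟩
  have hle := Nat.le_of_dvd (by norm_num) hd
  rcases (show N.index = 1 ∨ N.index = 162 by
    have hs : N.index ∈ Nat.divisors 162 := Nat.mem_divisors.2 ⟨hd, by norm_num⟩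
    have he : Nat.divisors 162 = {1, 2, 3, 6, 9, 18, 27, 54, 81, 162} := by decide
    rw [he] at hs
    simp only [Finset.mem_insert, Finset.mem_singleton] at hs
    unfold Nat.ModEq at hn7
    omega) with h1 | h162
  · have hPn : (P : Subgroup G).Normal := Subgroup.normalizer_eq_top_iff.1 (Subgroup.index_eq_one.1 h1)
    have hya := hfix _ hPn (by rw [hP7]; norm_num) (y : G) (Subgroup.mem_zpowers _) a
    have := Subgroup.orderOf_dvd_natCard _ (mem_stabilizer_iff.2 hya)
    rw [hy', hPc] at this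
    norm_num at this
  · have hNC : N ≤ Subgroup.centralizer ((P : Subgroup G) : Set G) := by
      refine (Subgroup.eq_of_le_of_card_ge hCN ?_).ge
      rw [h162] at hidx
      rw [hj]
      have := Nat.le_of_dvd Nat.card_pos hC14
      omega
    set K := (MonoidHom.transferSylow P hNC).ker
    have h7 : ¬ 7 ∣ Nat.card K := MonoidHom.not_dvd_card_ker_transferSylow P hNC
    obtain ⟨u, hu, hu1⟩ : ∃ u ∈ U, u ≠ 1 :=
      (Subgroup.bot_or_exists_ne_one U).resolve_left fun e => by rw [e, Subgroup.card_bot] at hUcard; omega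
    have huK : u ∈ K := by
      rw [MonoidHom.mem_ker, ← orderOf_eq_one_iff]
      have h27 : orderOf u ∣ 27 := by
        have := Subgroup.orderOf_dvd_natCard U hu
        rwa [hUcard] at this
      have h71 := (orderOf_map_dvd (MonoidHom.transferSylow P hNC) u).trans h27
      have h72 : orderOf (MonoidHom.transferSylow P hNC u) ∣ 7 := by
        have := orderOf_dvd_natCard (MonoidHom.transferSylow P hNC u)
        rwa [hP7] at this
      have h := Nat.dvd_gcd h71 h72
      rw [show Nat.gcd 27 7 = 1 by norm_num] at h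
      exact Nat.dvd_one.1 h
    exact hb (hfree u hu hu1 b (hfix K inferInstance (fun h => h7 ((by norm_num : 7 ∣ 28).trans h)) u huK b))

/-- there is no such group -/
theorem no_group {p q r : ℕ} [Fact p.Prime] (hr : r.Prime) (hr5 : 3 ≤ r) (hq3 : 3 ≤ q) (hqodd : Odd q) (hpq : p ∣ q)
    (a : Ω) [IsPretransitive G Ω] (U : Subgroup G) [IsMulCommutative U] (hUa : U ≤ stabilizer G a)
    (hexp : ∀ u ∈ U, u ^ p = 1) (hUcard : Nat.card U = q ^ r)
    (hchar : ∀ g : G, ∀ u ∈ U, g * u * g⁻¹ ∈ stabilizer G a → g * u * g⁻¹ ∈ U)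
    (hfree : ∀ u ∈ U, u ≠ 1 → ∀ x : Ω, u • x = x → x = a) (hΩ : Nat.card Ω = q ^ r + 1)
    (hP : stabilizer G a = U ∨ (Nat.card (stabilizer G a) = q ^ r * r ∧
      ∀ c ∈ stabilizer G a, c ∉ U → Nat.card {u : U // c * (u : G) = (u : G) * c} = q))
    (T : Subgroup G) (hT : 2 * Nat.card T = q ^ r + 1)
    (hT2 : ∀ x ∈ T, ∀ y ∈ T, x * x = 1 → y * y = 1 → x ≠ 1 → y ≠ 1 → x = y) : False := by
  classical
  haveI : Fintype Ω := Fintype.ofFinite Ω
  have hp : IsPGroup p U := fun u => ⟨1, by rw [pow_one]; exact Subtype.ext (hexp u u.2)⟩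
  have hqr : q < q ^ r := by
    calc q = q ^ 1 := (pow_one q).symm
      _ < q ^ r := Nat.pow_lt_pow_right (by omega) (by omega)
  have hpq' : p ≤ q := Nat.le_of_dvd (by omega) hpq
  have hpp := (Fact.out : p.Prime)
  obtain ⟨b, hb⟩ : ∃ b : Ω, b ≠ a := by
    by_contra hc
    push Not at hc
    have : Nat.card Ω ≤ 1 := Finite.card_le_one_iff_subsingleton.2 ⟨fun x y => (hc x).trans (hc y).symm⟩
    omega
  rcases hP with hP | ⟨hPc, hCU⟩
  · obtain ⟨g, hg⟩ := exists_smul_eq G a b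
    refine hb (hg ▸ fixed_of_free p U a hP hp (not_cyclic_of_exp U hexp hpp.pos (by omega))
      (fun u hu hu1 g hgu => hfree u hu hu1 _ hgu) g)
  set P₁ := stabilizer G a with hP₁
  have hnorm : ∀ g ∈ P₁, ∀ u ∈ U, g * u * g⁻¹ ∈ U := fun g hg u hu =>
    hchar g u hu (mul_mem (mul_mem hg (hUa hu)) (inv_mem hg))
  have hua : ∀ u ∈ U, u • a = a := fun u hu => mem_stabilizer_iff.1 (hUa hu)
  have hinj : ∀ u ∈ U, ∀ v ∈ U, ∀ x : Ω, x ≠ a → u • x = v • x → u = v := fun u hu v hv x hx e => by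
    by_contra hne
    refine hx (hfree (v⁻¹ * u) (mul_mem (inv_mem hv) hu) (fun e => hne (inv_mul_eq_one.1 e).symm) x ?_)
    rw [mul_smul, e, inv_smul_smul]
  have hreg : ∀ x : Ω, x ≠ a → ∃ u ∈ U, u • b = x := by
    intro x hx
    let f : U → {x : Ω // x ≠ a} := fun u => ⟨(u : G) • b, fun e => hb (smul_left_cancel (u : G) (e.trans (hua u u.2).symm))⟩
    have hf : Function.Injective f := fun u v e =>
      Subtype.ext (hinj u u.2 v v.2 b hb (congrArg Subtype.val e))
    have hc : Nat.card {x : Ω // x ≠ a} = q ^ r := by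
      have h : Nat.card Ω = Nat.card {x : Ω // x = a} + Nat.card {x : Ω // x ≠ a} := by
        rw [← Nat.card_sum]; exact Nat.card_congr (Equiv.sumCompl _).symm
      rw [hΩ, Nat.card_unique] at h
      omega
    obtain ⟨u, hu⟩ := (Function.Injective.bijective_of_nat_card_le hf (by rw [hc, hUcard])).2 ⟨x, hx⟩
    exact ⟨u, u.2, congrArg Subtype.val hu⟩
  -- the two point stabiliser
  set C := P₁ ⊓ stabilizer G b with hC
  have hCr : Nat.card C = r := by
    let f : U × C → P₁ := fun x => ⟨x.1 * x.2, mul_mem (hUa x.1.2) x.2.2.1⟩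
    have hf : Function.Bijective f := by
      constructor
      · rintro ⟨u, c⟩ ⟨v, d⟩ e
        have e' : (u : G) * c = v * d := congrArg Subtype.val e
        have hu : (u : G) = v := hinj u u.2 v v.2 b hb (by
          have := congrArg (· • b) e'
          simpa [mul_smul, mem_stabilizer_iff.1 c.2.2, mem_stabilizer_iff.1 d.2.2] using this)
        rw [hu] at e'
        exact Prod.ext (Subtype.ext hu) (Subtype.ext (mul_left_cancel e'))
      · rintro ⟨g, hg⟩
        have hgb : g • b ≠ a := fun e => hb (smul_left_cancel g (e.trans (mem_stabilizer_iff.1 hg).symm))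
        obtain ⟨u, hu, hub⟩ := hreg _ hgb
        exact ⟨(⟨u, hu⟩, ⟨u⁻¹ * g, Subgroup.mem_inf.2 ⟨P₁.mul_mem (P₁.inv_mem (hUa hu)) hg,
          mem_stabilizer_iff.2 (by rw [mul_smul, ← hub, inv_smul_smul])⟩⟩), Subtype.ext (mul_inv_cancel_left u g)⟩
    have := Nat.card_eq_of_bijective f hf
    rw [Nat.card_prod, hUcard, hPc] at this
    exact Nat.eq_of_mul_eq_mul_left (by positivity) this
  haveI : Fact r.Prime := ⟨hr⟩
  obtain ⟨c₀, hc₀⟩ : ∃ c : C, c ≠ 1 := by
    haveI : Nontrivial C := (Finite.one_lt_card_iff_nontrivial).1 (by rw [hCr]; omega)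
    exact exists_ne 1
  have hgen : ∀ d ∈ C, d ∈ Subgroup.zpowers (c₀ : G) := fun d hd => by
    have h := mem_zpowers_of_prime_card (g' := ⟨d, hd⟩) hCr hc₀
    obtain ⟨n, hn⟩ := Subgroup.mem_zpowers_iff.1 h
    exact Subgroup.mem_zpowers_iff.2 ⟨n, by simpa using congrArg Subtype.val hn⟩
  set c : G := (c₀ : G) with hcdef
  have hc1 : c ≠ 1 := fun e => hc₀ (Subtype.ext e)
  have hca : c • a = a := mem_stabilizer_iff.1 c₀.2.1
  have hcb : c • b = b := mem_stabilizer_iff.1 c₀.2.2
  have hcU : c ∉ U := fun h => hc1 (by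
    by_contra hne
    exact hb (hfree c h hne b hcb))
  have hU1 := hCU c c₀.2.1 hcU
  -- the fixed points
  let P := {x : Ω // c • x = x}
  have hPcard : Nat.card P = q + 1 := by
    have h : Nat.card P = Nat.card {x : P // x.1 = a} + Nat.card {x : P // x.1 ≠ a} := by
      rw [← Nat.card_sum]; exact Nat.card_congr (Equiv.sumCompl _).symm
    haveI : Unique {x : P // x.1 = a} := ⟨⟨⟨⟨a, hca⟩, rfl⟩⟩, fun x => Subtype.ext (Subtype.ext x.2)⟩
    rw [h, Nat.card_unique, add_comm, ← hU1]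
    congr 1
    symm
    refine Nat.card_eq_of_bijective (fun u => ⟨⟨(u.1 : G) • b, by rw [← mul_smul, u.2, mul_smul, hcb]⟩,
      fun e => hb (smul_left_cancel (u.1 : G) (e.trans (hua _ u.1.2).symm))⟩) ⟨fun u v e => ?_, ?_⟩
    · exact Subtype.ext (Subtype.ext (hinj _ u.1.2 _ v.1.2 b hb (congrArg (fun z => z.1.1) e)))
    · rintro ⟨⟨x, hx⟩, hxa⟩
      obtain ⟨u, hu, rfl⟩ := hreg x hxa
      have e : c * u * c⁻¹ = u := by
        refine hinj _ (hnorm c c₀.2.1 u hu) u hu b hb ?_
        rw [mul_smul, mul_smul, show c⁻¹ • b = b from by rw [inv_smul_eq_iff, hcb]]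
        exact hx
      exact ⟨⟨⟨u, hu⟩, mul_inv_eq_iff_eq_mul.1 e⟩, rfl⟩
  have hCfix : ∀ d ∈ C, ∀ x : Ω, c • x = x → d • x = x := fun d hd x hx => by
    have : Subgroup.zpowers c ≤ stabilizer G x := Subgroup.zpowers_le.2 (mem_stabilizer_iff.2 hx)
    exact mem_stabilizer_iff.1 (this (hgen d hd))
  set N := Subgroup.normalizer (C : Set G) with hN
  have hNfix : ∀ g ∈ N, ∀ x : Ω, c • x = x → c • g • x = g • x := by
    intro g hg x hx
    have hconj : g⁻¹ * c * g ∈ C := by
      refine (Subgroup.mem_normalizer_iff.1 hg _).2 ?_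
      convert c₀.2 using 1
      group
      exact hcdef
    have := hCfix _ hconj x hx
    rwa [mul_smul, mul_smul, inv_smul_eq_iff] at this
  have htwo : ∀ x y : Ω, x ≠ y → c • x = x → c • y = y → ∃ g ∈ N, g • a = x ∧ g • b = y := by
    intro x y hxy hx hy
    obtain ⟨g, hg⟩ := exists_smul_eq G a x
    obtain ⟨u, hu, hub⟩ := hreg (g⁻¹ • y) (fun e => hxy (by rw [← hg, ← e, smul_inv_smul]))
    refine ⟨g * u, ?_, by rw [mul_smul, hua u hu, hg], by rw [mul_smul, hub, smul_inv_smul]⟩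
    have h1 : ∀ d ∈ C, (g * u)⁻¹ * d * (g * u) ∈ C := fun d hd => by
      refine ⟨mem_stabilizer_iff.2 ?_, mem_stabilizer_iff.2 ?_⟩
      · rw [mul_smul, mul_smul, inv_smul_eq_iff, mul_smul, hua u hu, hg]
        exact hCfix d hd x hx
      · rw [mul_smul, mul_smul, inv_smul_eq_iff, mul_smul, hub, smul_inv_smul]
        exact hCfix d hd y hy
    have hbij : Function.Bijective fun d : C => (⟨(g * u)⁻¹ * d * (g * u), h1 d d.2⟩ : C) :=
      Finite.injective_iff_bijective.1 fun d e h => Subtype.ext (mul_left_cancel (mul_right_cancel (congrArg Subtype.val h)))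
    refine Subgroup.mem_normalizer_iff.2 fun d => ⟨fun hd => ?_, fun hd => ?_⟩
    · obtain ⟨e, he⟩ := hbij.2 ⟨d, hd⟩
      have e' : (g * u)⁻¹ * (e : G) * (g * u) = d := congrArg Subtype.val he
      rw [← e']
      convert e.2 using 1
      group
    · have := h1 _ hd
      convert this using 1
      group
  letI : MulAction N P :=
    { smul := fun g x => ⟨(g : G) • x.1, hNfix g g.2 x.1 x.2⟩
      one_smul := fun x => Subtype.ext (one_smul G x.1)
      mul_smul := fun g h x => Subtype.ext (mul_smul (g : G) (h : G) x.1) }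
  set ρ := MulAction.toPermHom N P with hρ
  have hρ_apply : ∀ (g : N) (x : P), ((ρ g) x).1 = (g : G) • x.1 := fun g x => rfl
  set H := ρ.range with hH
  let a' : P := ⟨a, hca⟩
  let b' : P := ⟨b, hcb⟩
  haveI : IsPretransitive H P := by
    have : ∀ x : P, ∃ h : H, h • a' = x := by
      intro x
      by_cases hx : x.1 = a
      · exact ⟨1, by rw [one_smul]; exact Subtype.ext hx.symm⟩
      obtain ⟨g, hg, hga, -⟩ := htwo x.1 a hx x.2 hca
      exact ⟨⟨ρ ⟨g, hg⟩, ⟨_, rfl⟩⟩, Subtype.ext hga⟩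
    exact isPretransitive_iff_base a' |>.2 this
  set U₁ := (U ⊓ Subgroup.centralizer {c}).subgroupOf N with hU₁
  have hU₁N : U ⊓ Subgroup.centralizer {c} ≤ N := fun u hu => by
    refine Subgroup.mem_normalizer_iff.2 fun d => ?_
    have hcom : ∀ d ∈ C, u * d * u⁻¹ = d := fun d hd => by
      obtain ⟨n, rfl⟩ := Subgroup.mem_zpowers_iff.1 (hgen d hd)
      rw [mul_inv_eq_iff_eq_mul]
      exact (Commute.zpow_right (show Commute u c from Subgroup.mem_centralizer_singleton_iff.1 hu.2) n).eq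
    refine ⟨fun hd => by rwa [hcom d hd], fun hd => ?_⟩
    have := hcom _ hd
    rw [mul_left_inj, mul_right_inj] at this
    exact this ▸ hd
  set A := U₁.map ρ with hA
  have hAstab : stabilizer H a' = A.subgroupOf H := by
    ext ⟨h, g, rfl⟩
    rw [mem_stabilizer_iff, Subgroup.mem_subgroupOf]
    refine ⟨fun e => ?_, fun ⟨u, hu, hu'⟩ => ?_⟩
    · have hga : (g : G) • a = a := congrArg Subtype.val e
      have hgb : (g : G) • b ≠ a := fun e' => hb (smul_left_cancel (g : G) (e'.trans hga.symm))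
      obtain ⟨u, hu, hub⟩ := hreg _ hgb
      have hd : u⁻¹ * (g : G) ∈ C := ⟨mem_stabilizer_iff.2 (by rw [mul_smul, hga, inv_smul_eq_iff, hua u hu]),
        mem_stabilizer_iff.2 (by rw [mul_smul, ← hub, inv_smul_smul])⟩
      have huc : u * c = c * u := by
        have h1 : u * c * u⁻¹ ∈ C := by
          have : u = (g : G) * (u⁻¹ * (g : G))⁻¹ := by group
          rw [this]
          exact (Subgroup.mem_normalizer_iff.1 (mul_mem g.2 (inv_mem (Subgroup.le_normalizer hd))) c).1 c₀.2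
        have h2 : u * c * u⁻¹ * c⁻¹ ∈ U := by
          have := mul_mem hu (hnorm c c₀.2.1 u⁻¹ (inv_mem hu))
          convert this using 1
          group
        have h3 : u * c * u⁻¹ * c⁻¹ = 1 := by
          by_contra hne
          exact hb (hfree _ h2 hne b (mem_stabilizer_iff.1 (mul_mem h1 (inv_mem c₀.2)).2))
        exact mul_inv_eq_iff_eq_mul.1 (mul_inv_eq_one.1 h3)
      have huN : u ∈ N := hU₁N ⟨hu, Subgroup.mem_centralizer_singleton_iff.2 huc⟩
      refine ⟨⟨u, huN⟩, Subgroup.mem_subgroupOf.2 ⟨hu, Subgroup.mem_centralizer_singleton_iff.2 huc⟩, ?_⟩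
      refine Equiv.ext fun x => Subtype.ext ?_
      rw [hρ_apply, hρ_apply]
      show u • x.1 = (g : G) • x.1
      conv_rhs => rw [← mul_inv_cancel_left u (g : G), mul_smul, hCfix _ hd x.1 x.2]
    · have := congrArg Subtype.val (Equiv.ext_iff.1 hu' a')
      rw [hρ_apply, hρ_apply, hua _ (Subgroup.mem_subgroupOf.1 hu).1] at this
      exact Subtype.ext this.symm
  have hρinj : ∀ u ∈ U₁, ∀ v ∈ U₁, ρ u = ρ v → u = v := fun u hu v hv e => by
    have := congrArg Subtype.val (Equiv.ext_iff.1 e b')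
    exact Subtype.ext (hinj _ (Subgroup.mem_subgroupOf.1 hu).1 _ (Subgroup.mem_subgroupOf.1 hv).1 b hb this)
  have hAq : Nat.card (A.subgroupOf H) = q := by
    rw [Nat.card_congr (Subgroup.subgroupOfEquivOfLe (Subgroup.map_le_range ρ U₁)).toEquiv]
    refine Eq.trans (Nat.card_eq_of_bijective (fun u : U₁ => (⟨ρ u, ⟨u, u.2, rfl⟩⟩ : (U₁.map ρ : Subgroup _))) ⟨?_, ?_⟩).symm ?_
    · exact fun u v e => Subtype.ext (hρinj u u.2 v v.2 (congrArg Subtype.val e))
    · rintro ⟨_, u, hu, rfl⟩; exact ⟨⟨u, hu⟩, rfl⟩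
    rw [Nat.card_congr (Subgroup.subgroupOfEquivOfLe hU₁N).toEquiv, ← hU1]
    exact Nat.card_congr
      { toFun := fun u => ⟨⟨u.1, u.2.1⟩, (Subgroup.mem_centralizer_singleton_iff.1 u.2.2).symm⟩
        invFun := fun u => ⟨u.1.1, u.1.2, Subgroup.mem_centralizer_singleton_iff.2 u.2.symm⟩
        left_inv := fun u => rfl
        right_inv := fun u => rfl }
  haveI : IsMulCommutative (A.subgroupOf H) := ⟨⟨fun x y => by
    obtain ⟨u, hu, hu'⟩ := Subgroup.mem_subgroupOf.1 x.2
    obtain ⟨v, hv, hv'⟩ := Subgroup.mem_subgroupOf.1 y.2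
    apply Subtype.ext; apply Subtype.ext
    show (x : H).1 * (y : H).1 = (y : H).1 * (x : H).1
    rw [← hu', ← hv', ← map_mul, ← map_mul]
    congr 1
    have h : ((⟨u, (Subgroup.mem_subgroupOf.1 hu).1⟩ : U) * ⟨v, (Subgroup.mem_subgroupOf.1 hv).1⟩ : U) =
      (⟨v, (Subgroup.mem_subgroupOf.1 hv).1⟩ : U) * ⟨u, (Subgroup.mem_subgroupOf.1 hu).1⟩ := mul_comm _ _
    exact Subtype.ext (Subtype.ext_iff.1 h :)⟩⟩
  have hsh := sharply (p := p) (A.subgroupOf H) a' hAstab hAq (fun x hx => by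
      obtain ⟨u, hu, hu'⟩ := Subgroup.mem_subgroupOf.1 hx
      apply Subtype.ext
      rw [Subgroup.coe_pow, ← hu', ← map_pow,
        show u ^ p = 1 from Subtype.ext (hexp _ (Subgroup.mem_subgroupOf.1 hu).1), map_one, Subgroup.coe_one])
    hPcard (by omega) hqodd (fun x hx hx1 h e => by
      obtain ⟨u, hu, hu'⟩ := Subgroup.mem_subgroupOf.1 hx
      apply Subtype.ext
      refine hfree (u : G) (Subgroup.mem_subgroupOf.1 hu).1 (fun e1 => hx1 ?_) _ ?_
      · apply Subtype.ext
        rw [← hu', show u = 1 from Subtype.ext e1, map_one, Subgroup.coe_one]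
      · have := congrArg Subtype.val e
        show (u : G) • (h • a').1 = (h • a').1
        rw [← hρ_apply, hu']
        exact this)
  obtain ⟨hqp, SH, hSHn, hSH, hSH2, k, hk⟩ := hsh
  subst hqp
  obtain ⟨m, hm, hmodd⟩ := geom_parity hqodd (hr.odd_of_ne_two (by omega)) hk
  have hGcard : Nat.card G = (q ^ r + 1) * (q ^ r * r) := by
    rw [← hPc, ← hΩ, ← MulAction.index_stabilizer_of_transitive G a, Subgroup.index_mul_card]
  have hG2 : (Nat.card G).factorization 2 = k := by
    have hodd : Odd (m * (q ^ r * r)) := hmodd.mul ((hqodd.pow).mul (hr.odd_of_ne_two (by omega)))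
    rw [hGcard, hm, mul_assoc, Nat.factorization_mul (by positivity) (Nat.ne_of_gt hodd.pos), Finsupp.add_apply,
      Nat.factorization_pow, Finsupp.smul_apply, Nat.Prime.factorization_self Nat.prime_two,
      Nat.factorization_eq_zero_of_not_dvd (show ¬ (2 ∣ m * (q ^ r * r)) by
        obtain ⟨j, hj⟩ := hodd; omega)]
    simp
  haveI : Fact (Nat.Prime 2) := ⟨Nat.prime_two⟩
  -- an elementary Sylow subgroup
  set K := (SH.map H.subtype).comap ρ with hK
  have hker : ∀ g : N, ρ g = 1 → (g : G) ∈ C := fun g hg =>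
    ⟨mem_stabilizer_iff.2 (congrArg Subtype.val (Equiv.ext_iff.1 hg a')),
      mem_stabilizer_iff.2 (congrArg Subtype.val (Equiv.ext_iff.1 hg b'))⟩
  have hKcard : Nat.card K = r * (q + 1) := by
    let f : K →* SH.map H.subtype := (ρ.comp K.subtype).codRestrict _ fun x => x.2
    have hf : Function.Surjective f := by
      rintro ⟨_, ⟨h, g, rfl⟩, hh, rfl⟩
      exact ⟨⟨g, ⟨_, hh, rfl⟩⟩, rfl⟩
    have e := Subgroup.card_eq_card_quotient_mul_card_subgroup f.ker
    rw [Nat.card_congr (QuotientGroup.quotientKerEquivOfSurjective f hf).toEquiv, Subgroup.card_subtype, hSH] at e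
    rw [e, mul_comm]
    congr 1
    rw [← hCr]
    refine Nat.card_eq_of_bijective (fun g => ⟨(g.1.1 : G), hker g.1.1 (congrArg Subtype.val g.2)⟩) ⟨?_, ?_⟩
    · exact fun g h e => Subtype.ext (Subtype.ext (Subtype.ext (congrArg Subtype.val e :)))
    · rintro ⟨d, hd⟩
      have hρd : ρ ⟨d, Subgroup.le_normalizer hd⟩ = 1 := Equiv.ext fun x => Subtype.ext (hCfix d hd x.1 x.2)
      exact ⟨⟨⟨⟨d, Subgroup.le_normalizer hd⟩, ⟨1, one_mem _, by rw [map_one]; exact hρd.symm⟩⟩, Subtype.ext hρd⟩, rfl⟩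
  obtain ⟨S₀, hS₀⟩ := Sylow.exists_subgroup_card_pow_prime 2 (G := K) (n := k)
    (by rw [hKcard, ← hk]; exact dvd_mul_left _ _)
  set S : Subgroup G := (S₀.map K.subtype).map N.subtype with hS
  have hScard : Nat.card S = 2 ^ k := by rw [hS, Subgroup.card_subtype, Subgroup.card_subtype, hS₀]
  have hSexp : ∀ x ∈ S, x * x = 1 := by
    rintro _ ⟨_, ⟨⟨g, hg⟩, hgS, rfl⟩, rfl⟩
    have hg2 : (g : G) * g ∈ C := by
      refine hker (g * g) ?_
      obtain ⟨h, hh, hh'⟩ := hg
      rw [map_mul, ← hh', ← map_mul, hSH2 h hh, map_one]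
    have ho : orderOf ((g : G) * g) ∣ Nat.gcd (2 ^ k) r := by
      refine Nat.dvd_gcd ?_ (hCr ▸ Subgroup.orderOf_dvd_natCard C hg2)
      rw [← hScard]
      exact Subgroup.orderOf_dvd_natCard S (mul_mem ⟨_, ⟨⟨g, hg⟩, hgS, rfl⟩, rfl⟩ ⟨_, ⟨⟨g, hg⟩, hgS, rfl⟩, rfl⟩)
    rw [Nat.Coprime.gcd_eq_one (Nat.Coprime.pow_left k ((Nat.coprime_primes Nat.prime_two hr).2 (by omega))),
      Nat.dvd_one, orderOf_eq_one_iff] at ho
    exact ho
  let SS : Sylow 2 G := Sylow.ofCard S (by rw [hScard, hG2])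
  have h2grp : ∀ Y : Subgroup G, IsPGroup 2 Y → ∀ y ∈ Y, y * y = 1 := by
    intro Y hY y hy
    obtain ⟨S', hS'⟩ := hY.exists_le_sylow
    obtain ⟨g, hg⟩ := exists_smul_eq G SS S'
    have hy' : y ∈ (g • SS : Sylow 2 G).toSubgroup := hg ▸ hS' hy
    rw [Sylow.coe_subgroup_smul, Subgroup.mem_pointwise_smul_iff_inv_smul_mem] at hy'
    have h1 := hSexp _ (show g⁻¹ * y * g ∈ (SS : Subgroup G) by simpa using hy')
    calc y * y = g * (g⁻¹ * y * g * (g⁻¹ * y * g)) * g⁻¹ := by group
      _ = 1 := by rw [h1]; group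
  -- the torus forces three
  have hk1 : 1 ≤ k := by
    rcases Nat.eq_zero_or_pos k with h | h
    · rw [h, pow_zero] at hk; omega
    · exact h
  have hTdvd : 2 ^ (k - 1) ∣ Nat.card T := by
    have h2 : 2 * Nat.card T = 2 * (2 ^ (k - 1) * m) := by
      rw [hT, hm, ← mul_assoc, ← pow_succ', Nat.sub_add_cancel hk1]
    exact ⟨m, Nat.eq_of_mul_eq_mul_left two_pos h2⟩
  obtain ⟨ST, hST⟩ := Sylow.exists_subgroup_card_pow_prime 2 hTdvd
  have hk2 : k ≤ 2 := by
    have hY : IsPGroup 2 (ST.map T.subtype) := IsPGroup.of_card (by rw [Subgroup.card_subtype, hST])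
    have hle : Nat.card ST ≤ 2 := by
      by_contra hc
      haveI : Nontrivial ST := Finite.one_lt_card_iff_nontrivial.1 (by omega)
      obtain ⟨x, hx⟩ := exists_ne (1 : ST)
      have : Nat.card {y : ST // y ≠ 1} ≤ 1 := Finite.card_le_one_iff_subsingleton.2 ⟨fun y z => by
        apply Subtype.ext; apply Subtype.ext; apply Subtype.ext
        exact hT2 _ y.1.1.2 _ z.1.1.2 (h2grp _ hY _ ⟨_, y.1.2, rfl⟩) (h2grp _ hY _ ⟨_, z.1.2, rfl⟩)
          (fun e => y.2 (Subtype.ext (Subtype.ext e))) (fun e => z.2 (Subtype.ext (Subtype.ext e)))⟩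
      have h : Nat.card ST = Nat.card {y : ST // y = 1} + Nat.card {y : ST // y ≠ 1} := by
        rw [← Nat.card_sum]; exact Nat.card_congr (Equiv.sumCompl _).symm
      rw [Nat.card_unique (α := {y : ST // y = 1})] at h
      omega
    rw [hST] at hle
    have : 2 ^ (k - 1) ≤ 2 ^ 1 := hle
    have := (Nat.pow_le_pow_iff_right (by norm_num : 1 < 2)).1 this
    omega
  have hq : q = 3 := by
    interval_cases k <;> omega
  subst hq
  have hkk : k = 2 := by interval_cases k <;> omega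
  subst hkk
  norm_num at hScard
  have hr3 : r ≠ 3 := by
    rintro rfl
    exact no_group_small a b hb U hUa (by rw [hUcard]; norm_num) hfree (by rw [hΩ]; norm_num)
      (by rw [hPc]; norm_num) hreg T (by norm_num at hT; omega) hT2
  -- the transfer to the regular subgroup
  have h3r : Nat.Coprime 3 r := (Nat.coprime_primes Nat.prime_three hr).2 (by omega)
  have hindex : Nat.Coprime U.index 3 := by
    have h := U.index_mul_card
    rw [hUcard, hGcard] at h
    have h' : U.index = (3 ^ r + 1) * r := Nat.eq_of_mul_eq_mul_right (by positivity : 0 < 3 ^ r) (h.trans (by ring))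
    rw [h']
    refine Nat.Coprime.mul_left (Nat.Coprime.symm ?_) h3r.symm
    rw [Nat.Prime.coprime_iff_not_dvd Nat.prime_three]
    have h9 : 3 ∣ 3 ^ r := dvd_pow_self 3 (by omega)
    omega
  let π : G →* U := MonoidHom.transfer (MonoidHom.id U)
  have hπ3 : ∀ g : G, Nat.Coprime (orderOf g) 3 → π g = 1 := fun g hg => by
    have h1 : (orderOf (π g)) ∣ Nat.gcd (orderOf g) 3 := Nat.dvd_gcd (orderOf_map_dvd π g)
      (orderOf_dvd_of_pow_eq_one (Subtype.ext (hexp _ (π g).2)))
    rw [hg.gcd_eq_one, Nat.dvd_one, orderOf_eq_one_iff] at h1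
    exact h1
  have hπU : ∀ u ∈ U, u * c = c * u → u ≠ 1 → π u ≠ 1 := by
    intro u hu huc hu1 e
    have key : ∀ (n : ℕ) (g₀ : G), g₀⁻¹ * u ^ n * g₀ ∈ U → g₀⁻¹ * u ^ n * g₀ = u ^ n := by
      intro n g₀ h
      rcases eq_or_ne (u ^ n) 1 with e | hne
      · rw [e, mul_one, inv_mul_cancel]
      have hg₀ : g₀ ∈ P₁ := by
        refine mem_stabilizer_iff.2 (hfree (u ^ n) (pow_mem hu n) hne (g₀ • a) ?_)
        have := hua _ h
        rwa [mul_smul, mul_smul, inv_smul_eq_iff] at this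
      have hgb : g₀ • b ≠ a := fun e => hb (smul_left_cancel g₀ (e.trans (mem_stabilizer_iff.1 hg₀).symm))
      obtain ⟨v, hv, hvb⟩ := hreg _ hgb
      have hd : v⁻¹ * g₀ ∈ C := Subgroup.mem_inf.2 ⟨P₁.mul_mem (P₁.inv_mem (hUa hv)) hg₀,
        mem_stabilizer_iff.2 (by rw [mul_smul, ← hvb, inv_smul_smul])⟩
      obtain ⟨j, hj⟩ := Subgroup.mem_zpowers_iff.1 (hgen _ hd)
      have hg : g₀ = v * c ^ j := by rw [hj, mul_inv_cancel_left]
      have c1 : Commute (u ^ n) v := congrArg Subtype.val (mul_comm (⟨u ^ n, pow_mem hu n⟩ : U) ⟨v, hv⟩)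
      have c2 : Commute (u ^ n) (c ^ j) := (Commute.pow_left huc n).zpow_right j
      rw [hg, mul_assoc, (c1.mul_right c2).eq, inv_mul_cancel_left]
    have h := MonoidHom.transfer_eq_pow (MonoidHom.id U) u key
    rw [show π u = MonoidHom.transfer (MonoidHom.id U) u from rfl, h] at e
    have h1 : u ^ U.index = 1 := congrArg Subtype.val e
    have h2 := Nat.dvd_gcd (orderOf_dvd_of_pow_eq_one h1) (orderOf_dvd_of_pow_eq_one (hexp u hu))
    rw [hindex.gcd_eq_one, Nat.dvd_one, orderOf_eq_one_iff] at h2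
    exact hu1 h2
  -- the centraliser of the Sylow subgroup
  have hCS : ∀ x ∈ Subgroup.centralizer (S : Set G), x ^ 3 = 1 → x = 1 := by
    intro x hx hx3
    by_contra hne
    have hzp : IsPGroup 3 (Subgroup.zpowers x) := IsPGroup.of_card (n := 1)
      (by rw [Nat.card_zpowers, pow_one]; exact orderOf_eq_prime hx3 hne)
    obtain ⟨y, hy⟩ := hzp.nonempty_fixed_point_of_prime_not_dvd_card Ω (by
      rw [hΩ]; intro h
      have h9 : 3 ∣ 3 ^ r := dvd_pow_self 3 (by omega)
      omega)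
    have hxy : x • y = y := hy ⟨x, Subgroup.mem_zpowers x⟩
    obtain ⟨g, rfl⟩ := exists_smul_eq G a y
    set x' := g⁻¹ * x * g with hx'
    have hx'a : x' ∈ P₁ := mem_stabilizer_iff.2 (by rw [mul_smul, mul_smul, hxy, inv_smul_smul])
    have hx'3 : x' ^ 3 = 1 := by
      have e : x' ^ 3 = g⁻¹ * x ^ 3 * g := by rw [hx', pow_three, pow_three]; group
      rw [e, hx3]; group
    have hx'U : x' ∈ U := by
      haveI : (U.subgroupOf P₁).Normal := ⟨fun n hn g => Subgroup.mem_subgroupOf.2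
        (hnorm g g.2 n (Subgroup.mem_subgroupOf.1 hn))⟩
      have hidx : (U.subgroupOf P₁).index = r := by
        have h := (U.subgroupOf P₁).index_mul_card
        rw [Nat.card_congr (Subgroup.subgroupOfEquivOfLe hUa).toEquiv, hUcard, hPc] at h
        exact Nat.eq_of_mul_eq_mul_right (by positivity : 0 < 3 ^ r) (h.trans (mul_comm _ _))
      have h1 := (U.subgroupOf P₁).pow_index_mem ⟨x', hx'a⟩
      rw [hidx, Subgroup.mem_subgroupOf] at h1
      obtain ⟨j, hj⟩ : ∃ j, x' = (x' ^ r) ^ j := by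
        obtain ⟨j, hj⟩ := Nat.exists_mul_mod_eq_one_of_coprime h3r.symm (by norm_num)
        refine ⟨j, ?_⟩
        rw [← pow_mul, ← Nat.div_add_mod (r * j) 3, hj.2, pow_add, pow_mul, hx'3, one_pow, one_mul, pow_one]
      rw [hj]
      exact pow_mem h1 j
    have hx'1 : x' ≠ 1 := fun e => hne (by
      have : x = g * x' * g⁻¹ := by rw [hx']; group
      rw [this, e]; group)
    obtain ⟨s, hs, hs1⟩ : ∃ s ∈ S, s ≠ 1 := (Subgroup.bot_or_exists_ne_one S).resolve_left fun e => by
      rw [e, Subgroup.card_bot] at hScard; omega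
    have hsx : x * s = s * x := (hx s hs).symm
    have hsa : g⁻¹ * s * g ∈ P₁ := by
      refine mem_stabilizer_iff.2 (hfree x' hx'U hx'1 _ ?_)
      rw [← mul_smul, show x' * (g⁻¹ * s * g) = g⁻¹ * s * g * x' by
        rw [hx', show g⁻¹ * x * g * (g⁻¹ * s * g) = g⁻¹ * (x * s) * g by group, hsx]; group, mul_smul,
        mem_stabilizer_iff.1 hx'a]
    have ho : orderOf (g⁻¹ * s * g) ∣ 2 := orderOf_dvd_of_pow_eq_one (by
      rw [pow_two, show g⁻¹ * s * g * (g⁻¹ * s * g) = g⁻¹ * (s * s) * g by group, hSexp s hs]; group)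
    have ho' := Nat.dvd_gcd ho (hPc ▸ Subgroup.orderOf_dvd_natCard _ hsa)
    have hcop : Nat.Coprime 2 (3 ^ r * r) := Nat.Coprime.mul_right (Nat.Coprime.pow_right _ (by norm_num))
      ((Nat.coprime_primes Nat.prime_two hr).2 (by omega))
    rw [hcop.gcd_eq_one, Nat.dvd_one, orderOf_eq_one_iff] at ho'
    exact hs1 (by rw [mul_eq_one_iff_eq_inv, inv_mul_eq_iff_eq_mul, mul_inv_cancel] at ho'; exact ho')
  have hπC : ∀ x ∈ Subgroup.centralizer (S : Set G), π x = 1 := fun x hx => by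
    refine hπ3 x (Nat.Coprime.symm ((Nat.Prime.coprime_iff_not_dvd Nat.prime_three).2 fun h => ?_))
    have h0 : orderOf x ≠ 0 := (orderOf_pos x).ne'
    have := hCS _ (pow_mem hx (orderOf x / 3)) (by rw [← pow_mul, Nat.div_mul_cancel h, pow_orderOf_eq_one])
    rw [← orderOf_dvd_iff_pow_eq_one] at this
    have := Nat.le_of_dvd (Nat.div_pos (Nat.le_of_dvd (orderOf_pos x) h) (by norm_num)) this
    omega
  -- an element of the normaliser with a non-trivial image
  obtain ⟨mm, hmm, hπmm⟩ : ∃ mm ∈ Subgroup.normalizer (S : Set G), π mm ≠ 1 := by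
    haveI hKn : K.Normal := by
      refine ⟨?_⟩
      rintro g ⟨h, hh, hh'⟩ z
      refine ⟨⟨ρ z, ⟨z, rfl⟩⟩ * h * (⟨ρ z, ⟨z, rfl⟩⟩ : H)⁻¹, hSHn.conj_mem h hh _, ?_⟩
      rw [map_mul, map_mul, map_inv, hh', map_mul, map_mul, map_inv]
      rfl
    have hKc : Nat.card K = r * 4 := hKcard
    let SK : Sylow 2 K := Sylow.ofCard S₀ (by
      rw [hS₀, hKc, show r * 4 = 2 ^ 2 * r by ring, Nat.factorization_mul (by norm_num) hr.ne_zero, Finsupp.add_apply,
        Nat.factorization_pow, Finsupp.smul_apply, Nat.Prime.factorization_self Nat.prime_two,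
        Nat.factorization_eq_zero_of_not_dvd (fun h => by
          have := (Nat.prime_dvd_prime_iff_eq Nat.prime_two hr).1 h; omega)]
      simp)
    have hFr := Sylow.normalizer_sup_eq_top SK
    obtain ⟨u, hu, hu1⟩ : ∃ u ∈ U₁, u ≠ 1 := by
      refine (Subgroup.bot_or_exists_ne_one U₁).resolve_left fun h => ?_
      have e := hAq
      rw [Nat.card_congr (Subgroup.subgroupOfEquivOfLe (Subgroup.map_le_range ρ U₁)).toEquiv, h, Subgroup.map_bot,
        Subgroup.card_bot] at e
      omega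
    obtain ⟨n, hn, kk, hkk, huk⟩ := Subgroup.mem_sup_of_normal_right.1 (hFr.symm ▸ Subgroup.mem_top u)
    refine ⟨(n : G), ?_, ?_⟩
    · refine Subgroup.mem_normalizer_iff.2 fun x => ⟨?_, ?_⟩
      · rintro ⟨y, hy, rfl⟩
        exact ⟨_, (Subgroup.mem_normalizer_iff.1 hn y).1 hy, rfl⟩
      · rintro ⟨y, hy, hyx⟩
        refine ⟨n⁻¹ * y * n, (Subgroup.mem_normalizer_iff.1 hn _).2 ?_, ?_⟩
        · have e : n * (n⁻¹ * y * n) * n⁻¹ = y := by group
          rw [e]
          exact hy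
        · have : x = (n : G)⁻¹ * (n * x * (n : G)⁻¹) * n := by group
          rw [this, ← hyx]
          rfl
    · intro e
      have hkπ : π (kk : G) = 1 := hπ3 _ (by
        have hdvd : orderOf (kk : G) ∣ r * 4 := by
          rw [← hKc, Subgroup.orderOf_coe]
          exact Subgroup.orderOf_dvd_natCard K hkk
        exact Nat.Coprime.coprime_dvd_left hdvd (Nat.Coprime.mul_left h3r.symm (by norm_num)))
      refine hπU (u : G) (Subgroup.mem_subgroupOf.1 hu).1
        (Subgroup.mem_centralizer_singleton_iff.1 (Subgroup.mem_subgroupOf.1 hu).2) (fun e => hu1 (Subtype.ext e)) ?_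
      rw [← huk, Subgroup.coe_mul, map_mul, e, hkπ, one_mul]
  -- the normaliser in the kernel centralises
  set NS := Subgroup.normalizer (S : Set G) with hNS
  set CS := (Subgroup.centralizer (S : Set G)).subgroupOf NS with hCS'
  have hNC : ∀ y ∈ NS, π y = 1 → y ∈ Subgroup.centralizer (S : Set G) := by
    let X := {s : S // s ≠ 1}
    letI : MulAction NS X :=
      { smul := fun g s => ⟨⟨(g : G) * s.1 * (g : G)⁻¹, (Subgroup.mem_normalizer_iff.1 g.2 _).1 s.1.2⟩,
          fun e => s.2 (Subtype.ext (by simpa using congrArg Subtype.val e))⟩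
        one_smul := fun s => Subtype.ext (Subtype.ext (show (1 : G) * s.1 * (1 : G)⁻¹ = s.1 by group))
        mul_smul := fun g h s => Subtype.ext (Subtype.ext (by
          show ((g * h : NS) : G) * s.1 * ((g * h : NS) : G)⁻¹ = g * (h * s.1 * (h : G)⁻¹) * (g : G)⁻¹
          push_cast
          group)) }
    set ψ := MulAction.toPermHom NS X with hψ
    have hψk : ψ.ker = CS := by
      ext g
      rw [MonoidHom.mem_ker, hCS', Subgroup.mem_subgroupOf, Subgroup.mem_centralizer_iff]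
      refine ⟨fun h s hs => ?_, fun h => Equiv.ext fun s => Subtype.ext (Subtype.ext ?_)⟩
      · rcases eq_or_ne s 1 with rfl | hs1
        · rw [one_mul, mul_one]
        have e : (g : G) * s * (g : G)⁻¹ = s :=
          congrArg (fun z : X => (z.1 : G)) (Equiv.ext_iff.1 h ⟨⟨s, hs⟩, fun e => hs1 (congrArg Subtype.val e)⟩)
        exact (mul_inv_eq_iff_eq_mul.1 e).symm
      · show (g : G) * s.1 * (g : G)⁻¹ = s.1
        rw [mul_inv_eq_iff_eq_mul, h _ s.1.2]
    have hX : Nat.card X = 3 := by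
      have h : Nat.card S = Nat.card {y : S // y = 1} + Nat.card X := by
        rw [← Nat.card_sum]; exact Nat.card_congr (Equiv.sumCompl _).symm
      rw [Nat.card_unique (α := {y : S // y = 1}), hScard] at h
      omega
    have hj6 : CS.index ∣ 6 := by
      rw [← hψk, Subgroup.index_ker]
      have := Subgroup.card_subgroup_dvd_card ψ.range
      rwa [Nat.card_perm, hX] at this
    have hjodd : ¬ 2 ∣ CS.index := by
      intro h
      have hle : S.subgroupOf NS ≤ CS := fun s hs => by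
        rw [hCS', Subgroup.mem_subgroupOf, Subgroup.mem_centralizer_iff]
        intro t ht
        have hs' := Subgroup.mem_subgroupOf.1 hs
        have e := hSexp _ (mul_mem hs' ht)
        have i : ∀ x ∈ S, x⁻¹ = x := fun x hx => inv_eq_of_mul_eq_one_right (hSexp x hx)
        calc t * (s : G) = t⁻¹ * (s : G)⁻¹ := by rw [i t ht, i _ hs']
          _ = ((s : G) * t)⁻¹ := (mul_inv_rev _ _).symm
          _ = (s : G) * t := i _ (mul_mem hs' ht)
      have h1 : CS.index ∣ (S.subgroupOf NS).index := Subgroup.index_dvd_of_le hle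
      have h2 : (S.subgroupOf NS).index ∣ S.index := Subgroup.relIndex_dvd_index_of_le Subgroup.le_normalizer
      have h3 := S.index_mul_card
      rw [hScard, hGcard, hm] at h3
      have hodd : Odd (m * (3 ^ r * r)) := hmodd.mul ((hqodd.pow).mul (hr.odd_of_ne_two (by omega)))
      obtain ⟨j, hj⟩ := hodd
      obtain ⟨i, hi⟩ := h.trans (h1.trans h2)
      have : S.index = m * (3 ^ r * r) := Nat.eq_of_mul_eq_mul_right (by norm_num : 0 < 4) (h3.trans (by ring))
      omega
    intro y hy hπy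
    let πN : NS →* U := π.comp NS.subtype
    have hle : CS ≤ πN.ker := fun z hz => hπC _ (Subgroup.mem_subgroupOf.1 hz)
    have hne : πN.ker.index ≠ 1 := fun h => hπmm
      ((Subgroup.index_eq_one.1 h).symm ▸ Subgroup.mem_top (⟨mm, hmm⟩ : NS) : (⟨mm, hmm⟩ : NS) ∈ πN.ker)
    have hdvd := Subgroup.index_dvd_of_le hle
    have hmul := Subgroup.relIndex_mul_index hle
    have hj3 : CS.index = 3 := by
      have := Nat.le_of_dvd (by norm_num) hj6
      interval_cases hh : CS.index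
      all_goals first | omega | (exfalso; revert hj6; norm_num; done) | exact absurd (Nat.dvd_one.1 hdvd) hne
    rw [hj3] at hdvd hmul
    have he : πN.ker.index = 3 := ((Nat.dvd_prime Nat.prime_three).1 hdvd).resolve_left hne
    rw [he] at hmul
    have hmem : (⟨y, hy⟩ : NS) ∈ πN.ker := hπy
    have h1 : CS.relIndex πN.ker = 1 := by omega
    exact Subgroup.mem_subgroupOf.1 (Subgroup.relIndex_eq_one.1 h1 hmem)
  -- the odd normal subgroup
  set R := π.ker with hR
  have hSR : S ≤ R := fun s hs => by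
    refine hπ3 s (Nat.Coprime.coprime_dvd_left (orderOf_dvd_of_pow_eq_one (by rw [pow_two]; exact hSexp s hs)) (by norm_num))
  let SR : Sylow 2 R := SS.subtype hSR
  have hPR : Subgroup.normalizer (SR : Set R) ≤ Subgroup.centralizer (SR : Set R) := by
    intro y hy z hz
    have hyN : (y : G) ∈ NS := Subgroup.mem_normalizer_iff.2 fun x => ⟨fun hx =>
      (Subgroup.mem_normalizer_iff.1 hy ⟨x, hSR hx⟩).1 hx, fun hx => by
        have hxR : x ∈ R := by
          have := mul_mem (mul_mem (inv_mem y.2) (hSR hx)) y.2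
          convert this using 1
          group
        exact (Subgroup.mem_normalizer_iff.1 hy ⟨x, hxR⟩).2 hx⟩
    exact Subtype.ext (Subgroup.mem_centralizer_iff.1 (hNC _ hyN y.2) _ hz)
  set R₂ := (MonoidHom.transferSylow SR hPR).ker with hR₂
  have hR2odd : ¬ 2 ∣ Nat.card R₂ := MonoidHom.not_dvd_card_ker_transferSylow SR hPR
  have hR2mem : ∀ x : R, Nat.Coprime (orderOf x) 2 → x ∈ R₂ := fun x hx => by
    rw [hR₂, MonoidHom.mem_ker, ← orderOf_eq_one_iff]
    obtain ⟨n, hn⟩ := IsPGroup.iff_orderOf.1 SR.isPGroup' (MonoidHom.transferSylow SR hPR x)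
    have h := orderOf_map_dvd (MonoidHom.transferSylow SR hPR) x
    rw [hn] at h ⊢
    rcases Nat.eq_zero_or_pos n with rfl | hn0
    · rfl
    · exact absurd ((dvd_pow_self 2 hn0.ne').trans h) ((Nat.Prime.coprime_iff_not_dvd Nat.prime_two).1 hx.symm)
  set R₂' := R₂.map R.subtype with hR₂'
  have hR2n : R₂'.Normal := by
    refine ⟨fun x hx g => ?_⟩
    obtain ⟨z, hz, rfl⟩ := hx
    refine ⟨⟨g * z * g⁻¹, (inferInstance : R.Normal).conj_mem _ z.2 g⟩, hR2mem _ ?_, rfl⟩
    rw [← Subgroup.orderOf_coe]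
    have e : orderOf (g * (z : G) * g⁻¹) = orderOf z := by
      rw [← Subgroup.orderOf_coe z]
      exact orderOf_injective (MulAut.conj g).toMonoidHom (MulAut.conj g).injective _
    show Nat.Coprime (orderOf (g * (z : G) * g⁻¹)) 2
    rw [e]
    refine Nat.Coprime.coprime_dvd_left (Subgroup.orderOf_dvd_natCard R₂ hz) ?_
    exact Nat.Coprime.symm ((Nat.Prime.coprime_iff_not_dvd Nat.prime_two).2 hR2odd)
  obtain ⟨u₀, hu₀, hu₀c⟩ : ∃ u ∈ U, c * u ≠ u * c := by
    by_contra hc'
    push Not at hc'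
    have : Nat.card {u : U // c * (u : G) = u * c} = Nat.card U :=
      Nat.card_congr (Equiv.subtypeUnivEquiv fun u => hc' u u.2)
    rw [hU1, hUcard] at this
    omega
  set d := c * u₀ * c⁻¹ * u₀⁻¹ with hd
  have hdU : d ∈ U := mul_mem (hnorm c c₀.2.1 u₀ hu₀) (inv_mem hu₀)
  have hd1 : d ≠ 1 := fun e => hu₀c (mul_inv_eq_iff_eq_mul.1 (mul_inv_eq_one.1 e))
  have hdR : d ∈ R := by
    show π d = 1
    rw [hd, map_mul, map_mul, map_mul, map_inv, map_inv]
    rw [mul_comm (π c) (π u₀), mul_inv_cancel_right, mul_inv_cancel]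
  have hd2 : d ∈ R₂' := ⟨⟨d, hdR⟩, hR2mem _ (by
    rw [← Subgroup.orderOf_coe]
    exact Nat.Coprime.coprime_dvd_left (orderOf_dvd_of_pow_eq_one (hexp d hdU)) (by norm_num)), rfl⟩
  -- its orbit is everything
  obtain ⟨z, hz, hza⟩ : ∃ z ∈ R₂', z • a ≠ a := by
    by_contra hc'
    push Not at hc'
    obtain ⟨g, hg⟩ := exists_smul_eq G a b
    have h := hc' _ (hR2n.conj_mem d hd2 g⁻¹)
    rw [inv_inv, mul_smul, mul_smul, hg, inv_smul_eq_iff, hg] at h
    exact hb (hfree d hdU hd1 b h)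
  have horb : ∀ x : Ω, ∃ z' : R₂', (z' : G) • a = x := by
    intro x
    by_cases hx : x = a
    · exact ⟨1, by rw [hx, Subgroup.coe_one, one_smul]⟩
    obtain ⟨v, hv, hvb⟩ := hreg _ hza
    obtain ⟨w, hw, hwb⟩ := hreg _ hx
    refine ⟨⟨w * v⁻¹ * z * (w * v⁻¹)⁻¹, hR2n.conj_mem z hz _⟩, ?_⟩
    show (w * v⁻¹ * z * (w * v⁻¹)⁻¹) • a = x
    rw [mul_smul, mul_inv_rev, inv_inv, mul_smul v w⁻¹, show w⁻¹ • a = a from hua _ (inv_mem hw),
      hua v hv, mul_smul, ← hvb, mul_smul, inv_smul_smul, hwb]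
  haveI : IsPretransitive R₂' Ω := isPretransitive_iff_base a |>.2 fun x => horb x
  have hdvd : Nat.card Ω ∣ Nat.card R₂' := by
    rw [← MulAction.index_stabilizer_of_transitive R₂' a]
    exact Subgroup.index_dvd_card _
  rw [hR₂', Subgroup.card_subtype] at hdvd
  refine hR2odd (Dvd.dvd.trans ?_ hdvd)
  rw [hΩ]
  obtain ⟨j, hj⟩ : Odd (3 ^ r) := hqodd.pow
  omega

end Cfsg.Agent.Forms.Max.OrthExtField.Rank3
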