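import Mathlib
import Cfsg.Agent.Lib.Forms.Max.OrthExtField.Rank3.Stab
import Cfsg.Agent.Lib.Forms.Max.OrthExtField.Rank3.GroupMain

/-!
# The line stabiliser when the radical is trivial
-/

set_option autoImplicit false
set_option linter.unusedSectionVars false

namespace Cfsg.Agent.Forms.Max.OrthExtField.Rank3

open Matrix Cfsg.Agent.Forms.QuadStd Cfsg.Agent.Forms.Reflections Cfsg.Agent.Classical.Orth

variable {F : Type*} [Field F] [Fintype F] {ι : Type} [Fintype ι] [DecidableEq ι]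
variable {K : Type*} [Field K] [Algebra F K] [FiniteDimensional F K]
variable [Module K (ι → F)] [IsScalarTower F K (ι → F)]
variable {Q : QuadraticForm F (ι → F)}

local notation "Vec" => (ι → F)
local notation "B" => QuadraticMap.polar Q
set_option quotPrecheck false in
local notation "Iso" => Cfsg.isometryGroup F ⇑Q

/-- isometries move subspaces -/
noncomputable instance subAction : MulAction (Cfsg.isometryGroup F ⇑Q) (Submodule F (ι → F)) where
  smul g S := S.map (act g)
  one_smul S := by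
    show S.map (act 1) = S
    rw [show act (1 : Iso) = LinearMap.id from LinearMap.ext act_one, Submodule.map_id]
  mul_smul g h S := by
    show S.map (act (g * h)) = (S.map (act h)).map (act g)
    rw [← Submodule.map_comp]
    exact congrArg (Submodule.map · S) (LinearMap.ext fun x => act_mul g h x)

theorem smul_def' (g : Iso) (S : Submodule F Vec) : g • S = S.map (act g) := rfl

theorem finrank_smul (g : Iso) (S : Submodule F Vec) :
    Module.finrank F ↥(g • S) = Module.finrank F S :=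
  (Submodule.equivMapOfInjective (act g) (act_injective g) S).finrank_eq.symm

theorem fix_conj (g m : Iso) : fixSp (g * m * g⁻¹) = g • fixSp m := by
  ext x
  rw [mem_fixSp, smul_def', Submodule.mem_map, act_mul, act_mul]
  refine ⟨fun h => ⟨act g⁻¹ x, ?_, act_cancel_inv g x⟩, ?_⟩
  · rw [mem_fixSp]
    exact act_injective g (h.trans (act_cancel_inv g x).symm)
  · rintro ⟨y, hy, rfl⟩
    rw [ic, mem_fixSp.1 hy]

/-- elements fixing a vector -/
def Fix (M : Subgroup (Cfsg.isometryGroup F ⇑Q)) (x : ι → F) : Subgroup (Cfsg.isometryGroup F ⇑Q) where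
  carrier := {m | m ∈ M ∧ act m x = x}
  one_mem' := ⟨one_mem M, act_one x⟩
  mul_mem' {a b} ha hb := ⟨mul_mem ha.1 hb.1, by rw [act_mul, hb.2, ha.2]⟩
  inv_mem' {a} ha := ⟨inv_mem ha.1, act_injective a (by rw [act_cancel_inv, ha.2])⟩

theorem mem_Fix {M : Subgroup Iso} {x : Vec} {m : Iso} : m ∈ Fix M x ↔ m ∈ M ∧ act m x = x := Iff.rfl

/-- the line as a subspace over the small field -/
noncomputable def Ls (K : Type*) [Field K] [Algebra F K] [Module K (ι → F)] [IsScalarTower F K (ι → F)]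
    (w : ι → F) : Submodule F (ι → F) := LinearMap.range (line K w)

theorem mem_Ls {w x : Vec} : x ∈ Ls K w ↔ ∃ k : K, k • w = x := Iff.rfl

theorem smul_mem_Ls (w : Vec) (k : K) : k • w ∈ Ls K w := ⟨k, rfl⟩

theorem finrank_Ls {w : Vec} (hw : w ≠ 0) : Module.finrank F ↥(Ls K w) = Module.finrank F K :=
  LinearMap.finrank_range_of_inj (line_injective hw)

theorem Ls_smul {w : Vec} {k : K} (hk : k ≠ 0) : Ls K (k • w) = Ls K w := by
  ext x
  rw [mem_Ls, mem_Ls]
  refine ⟨?_, ?_⟩
  · rintro ⟨a, rfl⟩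
    exact ⟨a * k, mul_smul a k w⟩
  · rintro ⟨a, rfl⟩
    exact ⟨a / k, by rw [smul_smul, div_mul_cancel₀ _ hk]⟩

theorem smul_Ls_le {g : Iso} {w w' : Vec} (h : g • Ls K w = Ls K w') (k : K) :
    ∃ t : K, act g (k • w) = t • w' := by
  obtain ⟨t, ht⟩ := mem_Ls.1 (h ▸ Submodule.mem_map_of_mem (smul_mem_Ls w k) : act g (k • w) ∈ Ls K w')
  exact ⟨t, ht.symm⟩

theorem sect_top_of_smul {g : Iso} {w w' : Vec} (h : g • Ls K w = Ls K w') : sect K g w w' = ⊤ := by
  refine eq_top_iff.2 fun k _ => mem_sect.2 ?_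
  obtain ⟨t, ht⟩ := smul_Ls_le h k
  exact ⟨t, ht.symm⟩

/-- semilinear maps have a field automorphism -/
theorem semi_aut {m : Iso} (h : Semi K m) {w : Vec} (hw0 : w ≠ 0) :
    ∃ θ : K ≃ₐ[F] K, ∀ (k : K) x, act m (k • x) = θ k • act m x := by
  haveI : Finite K := Module.finite_of_finite F
  choose σ hσ using h
  have hne : act m w ≠ 0 := fun e => hw0 (act_injective m (e.trans (map_zero _).symm))
  have key : ∀ {a b : K}, a • act m w = b • act m w → a = b := fun h => smul_left_injective K hne h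
  let f : K →ₐ[F] K :=
    { toFun := σ
      map_one' := key (by rw [← hσ, one_smul, one_smul])
      map_mul' := fun a b => key (by rw [← hσ, mul_smul, mul_smul, hσ, hσ])
      map_zero' := key (by rw [← hσ, zero_smul, zero_smul, map_zero])
      map_add' := fun a b => key (by rw [← hσ, add_smul, add_smul, map_add, hσ, hσ])
      commutes' := fun s => key (by rw [← hσ, algebraMap_smul, algebraMap_smul, map_smul]) }
  have hf : Function.Injective f := f.toRingHom.injective
  exact ⟨AlgEquiv.ofBijective f ⟨hf, Finite.injective_iff_surjective.1 hf⟩, fun k x => hσ k x⟩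

theorem aut_unique {m : Iso} {w : Vec} (hw0 : w ≠ 0) {θ θ' : K ≃ₐ[F] K}
    (h : ∀ (k : K) x, act m (k • x) = θ k • act m x) (h' : ∀ (k : K) x, act m (k • x) = θ' k • act m x) : θ = θ' :=
  AlgEquiv.ext fun k => smul_left_injective K
    (fun e => hw0 (act_injective m (e.trans (map_zero _).symm))) ((h k w).symm.trans (h' k w))

theorem aut_fixed (hr : (Module.finrank F K).Prime) {θ : K ≃ₐ[F] K} (hθ : θ ≠ 1) {k : K} (hk : θ k = k) :
    ∃ s : F, k = algebraMap F K s := by
  have hX : AlgHom.equalizer θ.toAlgHom (AlgHom.id F K) = ⊥ := subalgebra_eq_bot (fun h => hθ (AlgEquiv.ext fun x =>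
    (h ▸ Algebra.mem_top : x ∈ AlgHom.equalizer θ.toAlgHom (AlgHom.id F K)))) hr
  obtain ⟨s, hs⟩ := Algebra.mem_bot.1 (hX ▸ hk : k ∈ (⊥ : Subalgebra F K))
  exact ⟨s, hs.symm⟩

variable (D : Data K Q) {M : Subgroup (Cfsg.isometryGroup F ⇑Q)}

/-- the form under a semilinear isometry -/
theorem exists_nu {m : Iso} {θ : K ≃ₐ[F] K} (h : ∀ (k : K) x, act m (k • x) = θ k • act m x) :
    ∃ ν : K, ∀ x y, β D (act m x) (act m y) = ν * θ (β D x y) := by
  obtain ⟨a, ha⟩ := exists_dual D (D.χ.comp θ.symm.toLinearEquiv.toLinearMap)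
  refine ⟨a, fun x y => chi_ext D fun k => ?_⟩
  rw [spec, show k • act m x = act m (θ.symm k • x) by rw [h, AlgEquiv.apply_symm_apply], act_polar, ← spec D,
    mul_left_comm, ← ha]
  simp

/-- fixed vectors independent over the small field are independent over the big one -/
theorem fix_indep {m : Iso} {θ : K ≃ₐ[F] K} (h : ∀ (k : K) x, act m (k • x) = θ k • act m x) (hθ : θ ≠ 1)
    (hr : (Module.finrank F K).Prime) :
    ∀ n (v : Fin n → Vec), (∀ i, v i ∈ fixSp m) → LinearIndependent F v → LinearIndependent K v := by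
  intro n
  induction n with
  | zero => exact fun v _ _ => linearIndependent_empty_type
  | succ n ih =>
    intro v hv hli
    rw [← Fin.cons_self_tail v, linearIndependent_finCons] at hli ⊢
    have hih := ih _ (fun i => hv _) hli.1
    refine ⟨hih, fun hmem => hli.2 ?_⟩
    obtain ⟨k, hk⟩ := (Submodule.mem_span_range_iff_exists_fun K).1 hmem
    have hk' := congrArg (act m) hk
    simp only [map_sum, h, Fin.tail, mem_fixSp.1 (hv _)] at hk'
    have e : ∀ i, θ (k i) - k i = 0 := by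
      refine Fintype.linearIndependent_iff.1 hih _ ?_
      simp only [sub_smul, Finset.sum_sub_distrib, Fin.tail]
      rw [hk', sub_eq_zero]
      exact hk.symm
    choose s hs using fun i => aut_fixed hr hθ (sub_eq_zero.1 (e i))
    refine (Submodule.mem_span_range_iff_exists_fun F).2 ⟨s, ?_⟩
    rw [← hk]
    exact Finset.sum_congr rfl fun i _ => by rw [hs i, algebraMap_smul]

/-- fixed vectors of a semilinear map which is not linear -/
theorem fix_le {m : Iso} {θ : K ≃ₐ[F] K} (h : ∀ (k : K) x, act m (k • x) = θ k • act m x) (hθ : θ ≠ 1)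
    (hr : (Module.finrank F K).Prime) : Module.finrank F ↥(fixSp m) ≤ Module.finrank K Vec := by
  haveI : FiniteDimensional K Vec := Module.Finite.right F K Vec
  have := fix_indep h hθ hr _ _ (fun i => ((Module.finBasis F ↥(fixSp m)) i).2)
    ((Module.finBasis F ↥(fixSp m)).linearIndependent.map' (fixSp m).subtype (Submodule.ker_subtype _))
  exact le_trans (Fintype.card_fin _).ge this.fintype_card_le_finrank

include D in
/-- a half turn of the fixed vectors of an outer element -/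
theorem exists_half_turn (hM : LinM (K := K) M) (h3 : Module.finrank K Vec = 3) {m : Iso} {θ : K ≃ₐ[F] K}
    (hθ : ∀ (k : K) x, act m (k • x) = θ k • act m x) (h1 : θ ≠ 1) {w : Vec} (hw0 : w ≠ 0) (hw : β D w w = 0)
    (hmw : act m w = w) (hfix : Module.finrank F ↥(fixSp m) = 3) :
    ∃ ρ ∈ M, ρ * m = m * ρ ∧ (∃ v ∈ fixSp m, v ≠ 0 ∧ act ρ v = v) ∧
      ∃ x ∈ fixSp m, act ρ x ≠ x ∧ act ρ (act ρ x) = x := by
  haveI : FiniteDimensional K Vec := Module.Finite.right F K Vec
  obtain ⟨ν, hν⟩ := exists_nu D hθ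
  have hwV : w ∈ fixSp m := mem_fixSp.2 hmw
  have hV : ∀ {a b}, a ∈ fixSp m → b ∈ fixSp m → β D a b = ν * θ (β D a b) := fun {a b} ha hb => by
    have := hν a b
    rwa [mem_fixSp.1 ha, mem_fixSp.1 hb] at this
  -- a partner
  obtain ⟨y, hy, hyw⟩ : ∃ y ∈ fixSp m, β D y w ≠ 0 := by
    by_contra hc
    push Not at hc
    let bV := Module.finBasisOfFinrankEq F ↥(fixSp m) hfix
    have hli := fix_indep hθ h1 D.hr _ _ (fun i => (bV i).2)
      (bV.linearIndependent.map' (fixSp m).subtype (Submodule.ker_subtype _))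
    have hspan := hli.span_eq_top_of_card_eq_finrank (by rw [h3, Fintype.card_fin])
    refine hw0 (β_ext D fun z => ?_)
    have hz : z ∈ Submodule.span K (Set.range (Subtype.val ∘ bV)) := by
      rw [show (Subtype.val ∘ bV) = (fun i => ((bV i : ↥(fixSp m)) : Vec)) from rfl]
      exact hspan ▸ Submodule.mem_top
    exact (Submodule.span_le.2 (Set.range_subset_iff.2 fun i => by
      show β D w (bV i : Vec) = 0
      rw [β_comm]
      exact hc _ (bV i).2) hz : z ∈ LinearMap.ker (β D w))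
  set P := β D y w with hP
  have hν0 : ν ≠ 0 := fun e => hyw (by rw [hP, hV hy hwV, e, zero_mul])
  have hrat : ∀ {a b}, a ∈ fixSp m → b ∈ fixSp m → ∃ t : F, β D a b = t • P := fun {a b} ha hb => by
    obtain ⟨t, ht⟩ := aut_fixed D.hr h1 (k := β D a b / P) (by
      rw [map_div₀]
      conv_rhs => rw [hV ha hb, hP, hV hy hwV]
      rw [mul_div_mul_left _ _ hν0])
    exact ⟨t, by rw [Algebra.smul_def, ← ht, div_mul_cancel₀ _ hyw]⟩
  obtain ⟨t, ht⟩ := hrat hy hy
  set p := y - (t / 2) • w with hp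
  have hpV : p ∈ fixSp m := Submodule.sub_mem _ hy (Submodule.smul_mem _ _ hwV)
  have hpw : β D p w = P := by simp [hp, hw, ← hP]
  have hwp : β D w p = P := by rw [β_comm, hpw]
  have h2F : (2 : F) ≠ 0 := D.h2
  have hpp : β D p p = 0 := by
    simp only [hp, map_sub, LinearMap.sub_apply, LinearMap.map_smul_of_tower, LinearMap.smul_apply, hw, ht, ← hP,
      β_comm D w y, smul_zero, sub_zero, smul_smul, ← sub_smul]
    rw [show t - t / 2 - t / 2 = (0 : F) by field_simp; ring, zero_smul]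
  have hPne : P ≠ 0 := hyw
  -- the third vector
  obtain ⟨c₁, hc₁⟩ := exists_one D
  let lam : K →ₗ[F] F := D.χ.comp (LinearMap.mulLeft F (c₁ / P))
  have hlam : ∀ s : F, lam (s • P) = s := fun s => by
    show D.χ (c₁ / P * (s • P)) = s
    rw [mul_smul_comm, div_mul_cancel₀ _ hPne, map_smul, hc₁, smul_eq_mul, mul_one]
  let φ : ↥(fixSp m) →ₗ[F] F × F :=
    ((lam.comp (((β D).flip w).restrictScalars F)).comp (fixSp m).subtype).prod
      ((lam.comp (((β D).flip p).restrictScalars F)).comp (fixSp m).subtype)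
  obtain ⟨⟨c, hcV⟩, hc0, hcφ⟩ : ∃ c, c ≠ 0 ∧ φ c = 0 := by
    by_contra hc
    push Not at hc
    have := LinearMap.finrank_le_finrank_of_injective (f := φ) ((injective_iff_map_eq_zero φ).2 fun a ha => by
      by_contra hne
      exact hc a hne ha)
    rw [hfix, Module.finrank_prod, Module.finrank_self] at this
    omega
  have hcv : c ≠ 0 := fun e => hc0 (Subtype.ext e)
  have horth : ∀ {b}, b ∈ fixSp m → lam (β D c b) = 0 → β D c b = 0 := fun {b} hb h => by
    obtain ⟨s, hs⟩ := hrat hcV hb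
    rw [hs, hlam] at h
    rw [hs, h, zero_smul]
  have hcw : β D c w = 0 := horth hwV (congrArg Prod.fst hcφ)
  have hcp : β D c p = 0 := horth hpV (congrArg Prod.snd hcφ)
  have hcc : β D c c ≠ 0 := fun e => hcv <| by
    have hpair : HPair D w (P⁻¹ • p) := ⟨hw, by simp [hpp], by simp [hwp, hPne]⟩
    obtain ⟨c₀, hfr⟩ := exists_frame D h3 hpair
    have hx := hfr.perp_coord hcw
    rw [show β D c (P⁻¹ • p) = 0 by simp [hcp], zero_smul, zero_add] at hx
    rw [hx] at e ⊢
    simp [hfr.hc] at e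
    rw [e, zero_div, zero_smul]
  obtain ⟨s, hs⟩ := hrat hcV hcV
  set g₁ := w + (s / 2) • p with hg₁
  set v := w - (s / 2) • p with hv
  set C := β D c c with hC
  have hg₁V : g₁ ∈ fixSp m := Submodule.add_mem _ hwV (Submodule.smul_mem _ _ hpV)
  have hgg : β D g₁ g₁ = C := by
    simp only [hg₁, map_add, LinearMap.add_apply, LinearMap.map_smul_of_tower, LinearMap.smul_apply, hw, hwp, hpw,
      hpp, smul_zero, add_zero, zero_add, ← add_smul, hs]
    congr 1
    field_simp
    ring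
  have hgc : β D g₁ c = 0 := by
    simp [hg₁, β_comm D w c, β_comm D p c, hcw, hcp]
  have hcg : β D c g₁ = 0 := by rw [β_comm, hgc]
  have hvg : β D v g₁ = 0 := by
    simp [hv, hg₁, hw, hwp, hpw, hpp]
  have hvc : β D v c = 0 := by
    simp [hv, β_comm D w c, β_comm D p c, hcw, hcp]
  have hrefl : ∀ e, e ∈ fixSp m → ∀ E : K, E ≠ 0 → β D e e = E → ∃ R : Iso, (∀ x, act R x = (LinearMap.id +
      ((β D).flip e).smulRight ((-2 / E) • e) : Vec →ₗ[K] Vec) x) ∧ (∀ x, act R (act R x) = x) ∧ R * m = m * R := by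
    intro e he E hE0 hE
    obtain ⟨R, hR⟩ := exists_iso_elem D (LinearMap.id + ((β D).flip e).smulRight ((-2 / E) • e)) fun x z => by
      simp only [LinearMap.add_apply, LinearMap.id_apply, LinearMap.smulRight_apply, LinearMap.flip_apply, map_add,
        map_smul, LinearMap.smul_apply, smul_eq_mul, hE, β_comm D e z]
      field_simp
      ring
    have hR' : ∀ x, act R x = x + (-2 / E * β D x e) • e := fun x => by
      rw [hR]
      simp [smul_smul, mul_comm]
    refine ⟨R, hR, fun x => ?_, act_ext fun x => ?_⟩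
    · rw [hR', hR']
      simp only [map_add, map_smul, LinearMap.add_apply, LinearMap.smul_apply, smul_eq_mul, hE]
      match_scalars <;> field_simp <;> ring
    · rw [act_mul, act_mul, hR', hR', map_add, hθ, mem_fixSp.1 he]
      congr 2
      rw [← mem_fixSp.1 he, hν, mem_fixSp.1 he, map_mul, map_div₀, map_neg, map_ofNat]
      have hθE : E = ν * θ E := by rw [← hE]; exact hV he he
      have hθE0 : θ E ≠ 0 := fun e' => hE0 (θ.injective (by rw [e', map_zero]))
      field_simp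
      linear_combination (2 * θ (β D x e)) * hθE
  have hec : β D (g₁ + c) (g₁ + c) = 2 * C := by
    simp only [map_add, LinearMap.add_apply, hgg, hgc, hcg, ← hC]
    ring
  obtain ⟨A, hA, hA2, hAm⟩ := hrefl g₁ hg₁V C hcc hgg
  obtain ⟨B', hB, hB2, hBm⟩ := hrefl (g₁ + c) (Submodule.add_mem _ hg₁V hcV) (2 * C)
    (mul_ne_zero (two_ne D) hcc) hec
  set ρ := A * B' * A⁻¹ * B'⁻¹ with hρ
  have hρM : ρ ∈ M := hM _ (Subgroup.commutator_mem_commutator (Subgroup.mem_top _) (Subgroup.mem_top _))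
    (lin_comm hA hB)
  have hρx : ∀ x, act ρ x = act A (act B' (act A (act B' x))) := fun x => by
    have i1 : ∀ z, act A⁻¹ z = act A z := fun z => act_injective A (by rw [act_cancel_inv, hA2])
    have i2 : ∀ z, act B'⁻¹ z = act B' z := fun z => act_injective B' (by rw [act_cancel_inv, hB2])
    rw [hρ, act_mul, act_mul, act_mul, i1, i2]
  have hcomm : Commute ρ m := by
    have hA' : Commute A m := hAm
    have hB' : Commute B' m := hBm
    exact ((hA'.mul_left hB').mul_left hA'.inv_left).mul_left hB'.inv_left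
  have hvV : v ∈ fixSp m := Submodule.sub_mem _ hwV (Submodule.smul_mem _ _ hpV)
  have hvp : β D v p = P := by simp [hv, hwp, hpp]
  clear_value g₁ v C
  have h2K : (2 : K) ≠ 0 := two_ne D
  have eA : act A g₁ = -g₁ := by
    rw [hA]; simp only [LinearMap.add_apply, LinearMap.id_apply, LinearMap.smulRight_apply, LinearMap.flip_apply, hgg]
    match_scalars; field_simp; ring
  have eAc : act A c = c := by rw [hA]; simp [hcg]
  have eBg : act B' g₁ = -c := by
    rw [hB]; simp only [LinearMap.add_apply, LinearMap.id_apply, LinearMap.smulRight_apply, LinearMap.flip_apply,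
      map_add, hgg, hgc]
    match_scalars <;> field_simp <;> ring
  have eBc : act B' c = -g₁ := by
    rw [hB]; simp only [LinearMap.add_apply, LinearMap.id_apply, LinearMap.smulRight_apply, LinearMap.flip_apply,
      map_add, hcg, ← hC]
    match_scalars <;> field_simp <;> ring
  have eg : act ρ g₁ = -g₁ := by
    rw [hρx, eBg, map_neg, eAc, map_neg, eBc, neg_neg, eA]
  refine ⟨ρ, hρM, hcomm, ⟨v, hvV, fun e => hPne ?_, ?_⟩,
    g₁, hg₁V, fun e => ?_, by rw [eg, map_neg, eg, neg_neg]⟩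
  · have := congrArg (fun z => β D z p) e
    simpa [hvp] using this
  · have e1 : act A v = v := by rw [hA]; simp [hvg]
    have e2 : act B' v = v := by rw [hB]; simp [hvg, hvc]
    rw [hρx, e2, e1, e2, e1]
  · rw [eg] at e
    have h0 := congrArg (fun z => β D z g₁) e
    simp only [map_neg, LinearMap.neg_apply, hgg] at h0
    exact mul_ne_zero (two_ne D) hcc (by linear_combination -h0)

/-- the root group of a line -/
noncomputable def Ug {w p c : ι → F} (h : Frame D w p c) (M : Subgroup (Cfsg.isometryGroup F ⇑Q)) :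
    Subgroup (Cfsg.isometryGroup F ⇑Q) where
  carrier := {g | g ∈ M ∧ ∃ τ : K, ∀ x, act g x = elin D w (τ • c) x}
  one_mem' := ⟨one_mem M, 0, fun x => by rw [act_one, elin_apply]; simp⟩
  mul_mem' {a b} ha hb := by
    obtain ⟨ha', τ, hτ⟩ := ha
    obtain ⟨hb', τ', hτ'⟩ := hb
    exact ⟨mul_mem ha' hb', τ + τ', fun x => by
      rw [act_mul, hτ, hτ', elin_add D h.hp.1 (by simp [h.hwc]) (by simp [h.hwc]), add_smul]⟩
  inv_mem' {a} ha := by
    obtain ⟨ha', τ, hτ⟩ := ha
    refine ⟨inv_mem ha', -τ, fun x => act_injective a ?_⟩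
    rw [act_cancel_inv, hτ, elin_add D h.hp.1 (by simp [h.hwc]) (by simp [h.hwc]), ← add_smul, add_neg_cancel,
      elin_apply]
    simp

variable {D}

theorem mem_Ug {w p c : Vec} {h : Frame D w p c} {g : Iso} :
    g ∈ Ug D h M ↔ g ∈ M ∧ ∃ τ : K, ∀ x, act g x = elin D w (τ • c) x := Iff.rfl

theorem Ug_le {w p c : Vec} (h : Frame D w p c) : Ug D h M ≤ M := fun _ hg => hg.1

theorem tau_unique {w p c : Vec} (h : Frame D w p c) {τ τ' : K}
    (e : ∀ x, elin D w (τ • c) x = elin D w (τ' • c) x) : τ = τ' := by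
  have e1 := congrArg (fun v => β D v p) (e c)
  simp only [elin_apply, β_comm D c w, h.hwc] at e1
  simp [β_comm D c p, h.hpc, h.hp.2.2] at e1
  exact e1.resolve_right h.hc

theorem card_Ug (hM : LinM (K := K) M) {w p c : Vec} (h : Frame D w p c) :
    Nat.card (Ug D h M) = Nat.card K := by
  choose e he hex using exists_elin D hM h
  refine (Nat.card_congr (Equiv.ofBijective (fun τ => (⟨e τ, he τ, τ, hex τ⟩ : Ug D h M)) ⟨fun a b hab => ?_, ?_⟩)).symm
  · refine tau_unique h fun x => ?_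
    rw [← hex, ← hex]
    exact congrArg (fun g : Ug D h M => act (g : Iso) x) hab
  · rintro ⟨g, hg, τ, hτ⟩
    exact ⟨τ, Subtype.ext (act_ext fun x => (hex τ x).trans (hτ x).symm)⟩

theorem Ug_fix {w p c : Vec} (h : Frame D w p c) {g : Iso} (hg : g ∈ Ug D h M) (k : K) :
    act g (k • w) = k • w := by
  obtain ⟨-, τ, hτ⟩ := hg
  rw [hτ, elin_apply]
  simp [h.hp.1, h.hwc]

theorem Ug_smul {w p c : Vec} (h : Frame D w p c) {g : Iso} (hg : g ∈ Ug D h M) : g • Ls K w = Ls K w := by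
  refine Submodule.eq_of_le_of_finrank_le ?_ (finrank_smul g _).ge
  rintro _ ⟨_, ⟨k, rfl⟩, rfl⟩
  exact (Ug_fix h hg k).symm ▸ smul_mem_Ls w k

theorem Ug_fixSp {w p c : Vec} (h : Frame D w p c) {g : Iso} (hg : g ∈ Ug D h M) (hg1 : g ≠ 1) :
    fixSp g = Ls K w := by
  refine le_antisymm ?_ (fun x hx => ?_)
  · intro x hx
    obtain ⟨-, τ, hτ⟩ := hg
    have hτ0 : τ ≠ 0 := fun e => hg1 (act_ext fun y => by rw [hτ, act_one, e, elin_apply]; simp)
    obtain ⟨a, b, k, rfl⟩ : ∃ a b k : K, x = a • w + b • c + k • p := ⟨_, _, _, h.expand x⟩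
    rw [mem_fixSp, hτ, h.elin_coord] at hx
    have h1 := congrArg (fun v => β D v p) hx
    have h2 := congrArg (fun v => β D v c) hx
    simp only [(h.coord _ _ _).1] at h1
    simp only [(h.coord _ _ _).2.1] at h2
    have hk : k = 0 := by
      have := mul_right_cancel₀ h.hc h2
      exact (mul_eq_zero.1 (by linear_combination this : τ * k = 0)).resolve_left hτ0
    rw [hk] at h1
    have hb : b = 0 := (mul_eq_zero.1 (by linear_combination -h1 : (β D c c * τ) * b = 0)).resolve_left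
      (mul_ne_zero h.hc hτ0)
    exact mem_Ls.2 ⟨a, by rw [hk, hb, zero_smul, zero_smul, add_zero, add_zero]⟩
  · obtain ⟨k, rfl⟩ := mem_Ls.1 hx
    exact mem_fixSp.2 (Ug_fix h hg k)

theorem Ug_comm {w p c : Vec} (h : Frame D w p c) {a b : Iso} (ha : a ∈ Ug D h M) (hb : b ∈ Ug D h M) :
    a * b = b * a := by
  obtain ⟨-, τ, hτ⟩ := ha
  obtain ⟨-, τ', hτ'⟩ := hb
  refine act_ext fun x => ?_
  rw [act_mul, act_mul, hτ, hτ', hτ', hτ, elin_add D h.hp.1 (by simp [h.hwc]) (by simp [h.hwc]),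
    elin_add D h.hp.1 (by simp [h.hwc]) (by simp [h.hwc]), add_comm]

theorem Ug_pow {w p c : Vec} (h : Frame D w p c) {q : ℕ} (hq : (q : K) = 0) {g : Iso} (hg : g ∈ Ug D h M) :
    g ^ q = 1 := by
  obtain ⟨-, τ, hτ⟩ := hg
  have key : ∀ n : ℕ, ∀ x, act (g ^ n) x = elin D w (((n : K) * τ) • c) x := fun n => by
    induction n with
    | zero => intro x; rw [pow_zero, act_one, elin_apply]; simp
    | succ n ih =>
      intro x
      rw [pow_succ, act_mul, ih, hτ, elin_add D h.hp.1 (by simp [h.hwc]) (by simp [h.hwc]), ← add_smul, Nat.cast_succ,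
        add_one_mul]
  exact act_ext fun x => by rw [key, hq, act_one, elin_apply]; simp

/-- linear elements fixing the line -/
theorem mem_Ug_of_linear (hM : LinM (K := K) M) (h3 : Module.finrank K Vec = 3) (hr2 : Odd (Module.finrank F K))
    (hMO : M ≤ Cfsg.Omega F ⇑Q) {w p c : Vec} (h : Frame D w p c) (hno : ∀ f : K →ₗ[F] K, InF D M w f → f = 0)
    {m : Iso} (hm : m ∈ M) (hlin : ∀ (k : K) x, act m (k • x) = k • act m x) (hmw : act m w = w) :
    m ∈ Ug D h M := by
  set γ := β D c c with hγ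
  have hβ : ∀ x y, β D (act m x) (act m y) = β D x y := fun x y => chi_ext D fun k => by
    rw [spec, ← hlin, act_polar, spec]
  have hw' : ∀ x, β D (act m x) w = β D x w := fun x => by conv_lhs => rw [← hmw, hβ]
  obtain ⟨a, b, hc⟩ : ∃ a b : K, act m c = a • w + b • c :=
    ⟨_, _, h.perp_coord (by rw [hw', β_comm, h.hwc])⟩
  have hb : b * b = 1 := by
    have := hβ c c
    rw [hc] at this
    simp [h.hp.1, h.hwc, β_comm D c w] at this
    exact mul_right_cancel₀ h.hc (by linear_combination this)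
  rcases mul_self_eq_one_iff.1 hb with rfl | rfl
  · rcases rad D hM h hm (fun k => by rw [hlin, hmw]) (fun x hx => ⟨β D x c / γ * a, by
      conv_lhs => rw [h.perp_coord hx, map_add, hlin, hlin, hmw, hc]
      conv_rhs => arg 1; rw [h.perp_coord hx]
      module⟩) with ⟨f, hf, hff⟩ | ⟨τ, hτ⟩
    · exact absurd (hno f hff) hf
    · exact ⟨hm, τ, hτ⟩
  · exfalso
    obtain ⟨x, y, hp⟩ : ∃ x y : K, act m p = x • w + y • c + (1 : K) • p :=
      ⟨_, _, h.ext rfl (div_mul_cancel₀ _ h.hc).symm (by rw [hw', h.hp.pw D])⟩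
    let L : Vec →ₗ[K] Vec := { toFun := act m, map_add' := map_add _, map_smul' := hlin }
    let e : Vec ≃ₗ[K] (Fin 3 → K) :=
      { toFun := fun v => ![β D v p, β D v c / γ, β D v w]
        invFun := fun u => u 0 • w + u 1 • c + u 2 • p
        map_add' := fun u v => by ext i; fin_cases i <;> simp [add_div]
        map_smul' := fun k v => by ext i; fin_cases i <;> simp [mul_div_assoc]
        left_inv := fun v => (h.expand v).symm
        right_inv := fun u => by
          obtain ⟨e1, e2, e3⟩ := h.coord (u 0) (u 1) (u 2)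
          show ![β D (u 0 • w + u 1 • c + u 2 • p) p, β D (u 0 • w + u 1 • c + u 2 • p) c / γ,
            β D (u 0 • w + u 1 • c + u 2 • p) w] = u
          rw [e1, e2, e3, hγ, mul_div_cancel_right₀ _ h.hc]
          ext i; fin_cases i <;> rfl }
    have hdetK : LinearMap.det L = -1 := by
      have hb : ∀ i, (Module.Basis.ofEquivFun e) i = ![w, c, p] i := fun i => by
        rw [Module.Basis.coe_ofEquivFun]
        show (Pi.single i 1 : Fin 3 → K) 0 • w + (Pi.single i 1 : Fin 3 → K) 1 • c +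
          (Pi.single i 1 : Fin 3 → K) 2 • p = _
        fin_cases i <;> simp
      have he : ∀ v i, (Module.Basis.ofEquivFun e).repr v i = ![β D v p, β D v c / γ, β D v w] i := fun v i => rfl
      have hL : ∀ v, L v = act m v := fun v => rfl
      rw [← LinearMap.det_toMatrix (Module.Basis.ofEquivFun e), Matrix.det_fin_three]
      simp only [LinearMap.toMatrix_apply, hb, he, hL]
      simp [hmw, hc, hp, h.hp.1, h.hp.2.1, h.hp.2.2, h.hp.pw D, h.hwc, h.hpc, β_comm D c w, β_comm D c p, ← hγ,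
        show γ ≠ 0 from h.hc]
    have hdetF : LinearMap.det (act m) = -1 := by
      show LinearMap.det (L.restrictScalars F) = -1
      rw [LinearMap.det_restrictScalars, hdetK, show (-1 : K) = algebraMap F K (-1) by simp, Algebra.norm_algebraMap,
        hr2.neg_one_pow]
    have h1 : Matrix.GeneralLinearGroup.det.comp (Cfsg.isometryGroup F ⇑Q).subtype m = 1 :=
      Abelianization.commutator_subset_ker _ (hMO hm)
    have h2 := congrArg (fun u : Fˣ => (u : F)) h1
    simp only [MonoidHom.comp_apply, Matrix.GeneralLinearGroup.val_det_apply, Subgroup.coe_subtype, Units.val_one]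
      at h2
    rw [act, LinearMap.det_toLin', h2] at hdetF
    exact D.h2 (by linear_combination hdetF)

/-- semilinear elements of the stabiliser with a big fixed space are in the root group -/
theorem mem_Ug_of_fix (hM : LinM (K := K) M) (h3 : Module.finrank K Vec = 3) (hr5 : 3 ≤ Module.finrank F K)
    (hMO : M ≤ Cfsg.Omega F ⇑Q) {w p c : Vec} (h : Frame D w p c) (hno : ∀ f : K →ₗ[F] K, InF D M w f → f = 0)
    {m : Iso} (hm : m ∈ M) (hL : m • Ls K w = Ls K w) (hmw : act m w = w)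
    (hfix : 4 ≤ Module.finrank F ↥(fixSp m)) : m ∈ Ug D h M := by
  obtain ⟨θ, hθ⟩ := semi_aut (semilinear_stab D hM h3 hr5 h.w0 h.hp.1 hno hm (smul_Ls_le hL)) h.w0
  by_cases h1 : θ = 1
  · subst h1
    exact mem_Ug_of_linear hM h3 (D.hr.odd_of_ne_two (by omega)) hMO h hno hm hθ hmw
  · have := fix_le hθ h1 D.hr
    omega

/-- conjugates of the root group in the stabiliser are in it -/
theorem mem_Ug_of_conj (hM : LinM (K := K) M) (h3 : Module.finrank K Vec = 3) (hr5 : 3 ≤ Module.finrank F K)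
    (hMO : M ≤ Cfsg.Omega F ⇑Q) {w p c : Vec} (h : Frame D w p c) (hno : ∀ f : K →ₗ[F] K, InF D M w f → f = 0)
    {n u : Iso} (hn : n ∈ M) (hu : u ∈ Ug D h M) (hu1 : u ≠ 1)
    (hL : (n * u * n⁻¹) • Ls K w = Ls K w) (hmw : act (n * u * n⁻¹) w = w) : n * u * n⁻¹ ∈ Ug D h M := by
  have hm : n * u * n⁻¹ ∈ M := mul_mem (mul_mem hn hu.1) (inv_mem hn)
  have hfu := Ug_fixSp h hu hu1
  have hfm : fixSp (n * u * n⁻¹) = n • Ls K w := by rw [fix_conj, hfu]
  have hdim : Module.finrank F ↥(fixSp (n * u * n⁻¹)) = Module.finrank F K := by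
    rw [hfm, finrank_smul, finrank_Ls h.w0]
  by_cases hr4 : 4 ≤ Module.finrank F K
  · exact mem_Ug_of_fix hM h3 hr5 hMO h hno hm hL hmw (by omega)
  have hr : Module.finrank F K = 3 := by omega
  obtain ⟨θ, hθ⟩ := semi_aut (semilinear_stab D hM h3 hr5 h.w0 h.hp.1 hno hm (smul_Ls_le hL)) h.w0
  by_cases h1 : θ = 1
  · subst h1
    exact mem_Ug_of_linear hM h3 (D.hr.odd_of_ne_two (by omega)) hMO h hno hm hθ hmw
  exfalso
  obtain ⟨ρ, hρ, hρm, ⟨v, hv, hv0, hρv⟩, x, hx, hρx, hρρx⟩ :=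
    exists_half_turn D hM h3 hθ h1 h.w0 h.hp.1 hmw (by omega)
  set σ := n⁻¹ * ρ * n with hσ
  have hσM : σ ∈ M := mul_mem (mul_mem (inv_mem hn) hρ) hn
  have hσu : σ * u * σ⁻¹ = u := by
    have e : ρ * (n * u * n⁻¹) * ρ⁻¹ = n * u * n⁻¹ := mul_inv_eq_iff_eq_mul.2 hρm
    calc σ * u * σ⁻¹ = n⁻¹ * (ρ * (n * u * n⁻¹) * ρ⁻¹) * n := by rw [hσ]; group
      _ = u := by rw [e]; group
  have hσL : σ • Ls K w = Ls K w := by
    conv_lhs => rw [← hfu, ← fix_conj, hσu, hfu]
  obtain ⟨ψ, hψ⟩ := semi_aut (semilinear_stab D hM h3 hr5 h.w0 h.hp.1 hno hσM (smul_Ls_le hσL)) h.w0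
  haveI : Finite K := Module.finite_of_finite F
  have hψ3 : ∀ k, ψ (ψ (ψ k)) = k := fun k => by
    have h3' : ψ ^ 3 = 1 := by rw [← hr, ← IsGalois.card_aut_eq_finrank F K]; exact pow_card_eq_one'
    have := congrArg (fun e : K ≃ₐ[F] K => e k) h3'
    simpa [pow_succ, AlgEquiv.mul_apply] using this
  have hsσ : ∀ z, act σ z = act n⁻¹ (act ρ (act n z)) := fun z => by rw [hσ, act_mul, act_mul]
  have hback : ∀ z ∈ fixSp (n * u * n⁻¹), ∃ k : K, act n⁻¹ z = k • w := fun z hz => by
    obtain ⟨_, ⟨k, rfl⟩, rfl⟩ := (hfm ▸ hz : z ∈ n • Ls K w)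
    exact ⟨k, by rw [ic]; rfl⟩
  obtain ⟨k₀, hk₀⟩ := hback v hv
  have hk₀0 : k₀ ≠ 0 := fun e => hv0 (act_injective n⁻¹ (by rw [hk₀, e, zero_smul, map_zero]))
  have hfix₀ : act σ (k₀ • w) = k₀ • w := by rw [← hk₀, hsσ, act_cancel_inv, hρv]
  have h3fix : ∀ k : K, act σ (act σ (act σ (k • w))) = k • w := fun k => by
    rw [show k • w = (k / k₀) • k₀ • w by rw [smul_smul, div_mul_cancel₀ _ hk₀0], hψ, hψ, hψ, hfix₀, hfix₀, hfix₀,
      hψ3]
  obtain ⟨kx, hkx⟩ := hback x hx
  have e := h3fix kx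
  rw [← hkx, hsσ, hsσ, hsσ, act_cancel_inv, act_cancel_inv, act_cancel_inv, hρρx] at e
  exact hρx (act_injective n⁻¹ e)

/-- the root group is free off its line -/
theorem Ug_free (hM : LinM (K := K) M) (h3 : Module.finrank K Vec = 3) (hr5 : 3 ≤ Module.finrank F K)
    (hMO : M ≤ Cfsg.Omega F ⇑Q) {w p c : Vec} (h : Frame D w p c) (hno : ∀ f : K →ₗ[F] K, InF D M w f → f = 0)
    {m u : Iso} (hm : m ∈ Fix M w) (hu : u ∈ Ug D h M) (hu1 : u ≠ 1) (he : u • m • Ls K w = m • Ls K w) :
    m • Ls K w = Ls K w := by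
  have hfu := Ug_fixSp h hu hu1
  have huw : u ∈ Fix M w := ⟨hu.1, by have := Ug_fix h hu 1; rwa [one_smul] at this⟩
  set m' := m⁻¹ * u * m with hm'
  have hm'w := mul_mem (mul_mem (inv_mem hm) huw) hm
  have e : fixSp m' = m⁻¹ • Ls K w := by
    rw [← hfu, ← fix_conj, inv_inv]
  have hm'e : m' = m⁻¹ * u * (m⁻¹)⁻¹ := by rw [inv_inv]
  have hm'U : m' ∈ Ug D h M := hm'e ▸ mem_Ug_of_conj hM h3 hr5 hMO h hno (inv_mem hm.1) hu hu1
    (by rw [← hm'e, hm', mul_smul, mul_smul, he, inv_smul_smul]) (hm'e ▸ hm'w.2)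
  rw [Ug_fixSp h hm'U fun e1 => hu1 (by
    have := congrArg (fun z => m * z * m⁻¹) e1
    simpa [hm', mul_assoc] using this)] at e
  conv_lhs => rw [e, smul_inv_smul]

/-- two singular lines cannot share two independent vectors -/
theorem sect_top_of_two (hM : LinM (K := K) M) (h3 : Module.finrank K Vec = 3) (hr5 : 3 ≤ Module.finrank F K)
    (hMO : M ≤ Cfsg.Omega F ⇑Q)
    (hno : ∀ w : Vec, w ≠ 0 → β D w w = 0 → ∀ f : K →ₗ[F] K, InF D M w f → f = 0)
    {g : Iso} (hg : g ∈ M) {w w' : Vec} (hw0 : w ≠ 0) (hw : β D w w = 0) (hw'0 : w' ≠ 0) (hw' : β D w' w' = 0)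
    (h2 : 2 ≤ Module.finrank F ↥(sect K g w w')) : sect K g w w' = ⊤ := by
  haveI : Finite K := Module.finite_of_finite F
  haveI hfp : Fact (ringChar F).Prime := ⟨CharP.char_is_prime F _⟩
  obtain ⟨k₀, hk₀, hk₀0⟩ := (Submodule.ne_bot_iff _).1 (fun e : sect K g w w' = ⊥ => by
    rw [e, finrank_bot] at h2; omega)
  obtain ⟨k₁, hk₁, hk₁n⟩ : ∃ k ∈ sect K g w w', k ∉ (F ∙ k₀) := SetLike.exists_of_lt
    (lt_of_le_of_ne ((Submodule.span_singleton_le_iff_mem _ _).2 hk₀) fun e => by
      rw [← e, finrank_span_singleton hk₀0] at h2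
      omega) |>.imp fun _ h => ⟨h.1, h.2⟩
  set w₁ := k₀ • w with hw₁
  set d := k₁ / k₀ with hd
  have hdw : d • w₁ = k₁ • w := by rw [hw₁, smul_smul, hd, div_mul_cancel₀ _ hk₀0]
  have hdF : ∀ s : F, d ≠ algebraMap F K s := fun s e => hk₁n (Submodule.mem_span_singleton.2 ⟨s, by
    rw [Algebra.smul_def, ← e, hd, div_mul_cancel₀ _ hk₀0]⟩)
  have hw₁0 : w₁ ≠ 0 := smul_ne_zero hk₀0 hw0
  have hw₁' : β D w₁ w₁ = 0 := by simp [hw₁, hw]
  obtain ⟨p, c, h⟩ := exists_frame' D h3 hw₁0 hw₁'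
  obtain ⟨p', c', h'⟩ := exists_frame' D h3 hw'0 hw'
  have hN := hno w₁ hw₁0 hw₁'
  set G := Fix M w₁ ⊓ Fix M (d • w₁) with hG
  have hUG : Ug D h M ≤ G := fun u hu =>
    ⟨⟨hu.1, by have := Ug_fix h hu 1; rwa [one_smul] at this⟩, hu.1, Ug_fix h hu d⟩
  have hstab : ∀ m ∈ G, m • Ls K w₁ = Ls K w₁ → m ∈ Ug D h M := by
    intro m hm hL
    obtain ⟨θ, hθ⟩ := semi_aut (semilinear_stab D hM h3 hr5 hw₁0 hw₁' hN hm.1.1 (smul_Ls_le hL)) hw₁0
    by_cases h1 : θ = 1
    · subst h1
      exact mem_Ug_of_linear hM h3 (D.hr.odd_of_ne_two (by omega)) hMO h hN hm.1.1 hθ hm.1.2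
    · have := hθ d w₁
      rw [hm.2.2, hm.1.2] at this
      obtain ⟨s, hs⟩ := aut_fixed D.hr h1 (smul_left_injective K hw₁0 this).symm
      exact absurd hs (hdF s)
  let U₁ := (Ug D h M).subgroupOf G
  haveI : IsMulCommutative U₁ := ⟨⟨fun a b => Subtype.ext (Subtype.ext (Ug_comm h a.2 b.2))⟩⟩
  have hexp : ∀ u ∈ U₁, u ^ ringChar F = 1 := fun u hu => Subtype.ext (by
    rw [SubmonoidClass.coe_pow]
    exact Ug_pow h (by rw [← map_natCast (algebraMap F K), ringChar.Nat.cast_ringChar, map_zero]) hu)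
  have hUc : Nat.card U₁ = Nat.card K := by
    rw [Nat.card_congr (Subgroup.subgroupOfEquivOfLe hUG).toEquiv, card_Ug hM h]
  have hst : MulAction.stabilizer G (Ls K w₁) = U₁ := by
    ext m
    exact ⟨fun hm => hstab m m.2 hm, fun hm => Ug_smul h hm⟩
  obtain ⟨e, he, hex⟩ := exists_elin D hM h' 1
  have heU : e ∈ Ug D h' M := ⟨he, 1, hex⟩
  have he1 : e ≠ 1 := fun e1 => one_ne_zero (tau_unique h' (τ := (1 : K)) (τ' := 0) fun x => by
    rw [← hex, e1, act_one, elin_apply]; simp)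
  have hfixk : ∀ k ∈ sect K g w w', act (g⁻¹ * e * g) (k • w) = k • w := fun k hk => by
    obtain ⟨t, ht⟩ := mem_sect.1 hk
    rw [act_mul, act_mul, ← ht, Ug_fix h' heU, ht, ic]
  have hm : g⁻¹ * e * g ∈ G :=
    ⟨⟨mul_mem (mul_mem (inv_mem hg) he) hg, hfixk _ hk₀⟩, mul_mem (mul_mem (inv_mem hg) he) hg,
      by rw [hdw]; exact hfixk _ hk₁⟩
  have hall := fixed_of_free (ringChar F) U₁ (Ls K w₁) hst
    (fun u => ⟨1, by rw [pow_one]; exact Subtype.ext (hexp u u.2)⟩)
    (not_cyclic_of_exp U₁ hexp hfp.out.pos (by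
      rw [hUc, Module.natCard_eq_pow_finrank (K := F) (V := K), Nat.card_eq_fintype_card]
      calc ringChar F ≤ Fintype.card F := Nat.le_of_dvd Fintype.card_pos
            ((CharP.cast_eq_zero_iff F _ _).1 (FiniteField.cast_card_eq_zero F))
        _ = Fintype.card F ^ 1 := (pow_one _).symm
        _ < _ := Nat.pow_lt_pow_right Fintype.one_lt_card (by omega)))
    (fun u hu hu1 m hum => Ug_free hM h3 hr5 hMO h hN m.2.1 hu (fun e => hu1 (Subtype.ext e)) hum) ⟨_, hm⟩
  have hmU := hstab _ hm hall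
  have e1 := fix_conj g⁻¹ e
  rw [inv_inv, Ug_fixSp h' heU he1, Ug_fixSp h hmU (fun e1 => he1 (by
    simpa [mul_assoc, inv_mul_eq_one] using e1)), Ls_smul hk₀0] at e1
  exact sect_top_of_smul (by rw [e1, smul_inv_smul])

end Cfsg.Agent.Forms.Max.OrthExtField.Rank3
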