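import Mathlib
import Cfsg.Agent.Lib.Forms.Max.OrthExtField.Rank3.Sub
import Cfsg.Agent.Lib.Forms.Max.OrthExtField.Rank3.Rot

/-!
# No wild elements when the radical is trivial
-/

set_option autoImplicit false
set_option linter.unusedSectionVars false

namespace Cfsg.Agent.Forms.Max.OrthExtField.Rank3

open Matrix Cfsg.Agent.Forms.QuadStd Cfsg.Agent.Forms.Reflections Cfsg.Agent.Classical.Orth
open MulAction

variable {F : Type*} [Field F] [Fintype F] {ι : Type} [Fintype ι] [DecidableEq ι]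
variable {K : Type*} [Field K] [Algebra F K] [FiniteDimensional F K]
variable [Module K (ι → F)] [IsScalarTower F K (ι → F)]
variable {Q : QuadraticForm F (ι → F)}

local notation "Vec" => (ι → F)
local notation "B" => QuadraticMap.polar Q
set_option quotPrecheck false in
local notation "Iso" => Cfsg.isometryGroup F ⇑Q

variable {D : Data K Q} {M : Subgroup (Cfsg.isometryGroup F ⇑Q)}

variable (D) in
/-- some singular vector goes to a non-singular one -/
theorem exists_nonsing_image (hM : LinM (K := K) M) (h3 : Module.finrank K Vec = 3) {g : Iso} (hns : ¬ Semi K g) :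
    ∃ w, w ≠ 0 ∧ β D w w = 0 ∧ β D (act g w) (act g w) ≠ 0 := by
  by_contra hc
  push Not at hc
  refine hns fun k => semilinear_of_lines D g (fun w hw0 hw k => ?_) k
  set x := act g (k • w) with hx
  set y := act g w with hy
  have hy0 : y ≠ 0 := fun e => hw0 (act_injective g (e.trans (map_zero _).symm))
  have hyy : β D y y = 0 := hc w hw0 hw
  rcases eq_or_ne k 0 with rfl | hk
  · exact ⟨0, by rw [hx, zero_smul, zero_smul, map_zero]⟩
  have hxx : β D x x = 0 := hc _ (smul_ne_zero hk hw0) (by simp [hw])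
  have hxy : β D x y = 0 := by
    rcases eq_or_ne (k + 1) 0 with h1 | h1
    · rw [hx, eq_neg_of_add_eq_zero_left h1, neg_one_smul, map_neg, ← hy, map_neg, LinearMap.neg_apply, hyy, neg_zero]
    · have h := hc ((k + 1) • w) (smul_ne_zero h1 hw0) (by simp [hw])
      rw [add_smul, one_smul, map_add, ← hx, ← hy] at h
      simp only [map_add, LinearMap.add_apply, hxx, hyy, β_comm D y x, add_zero, zero_add, ← two_mul] at h
      exact (mul_eq_zero.1 h).resolve_left (two_ne D)
  obtain ⟨p, c, hfr⟩ := exists_frame' D h3 hy0 hyy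
  have e := hfr.perp_coord hxy
  rw [e] at hxx
  simp [hfr.hp.1, hfr.hwc, β_comm D c y, hfr.hc] at hxx
  refine ⟨β D x p, ?_⟩
  conv_rhs => rw [e, hxx, zero_div, zero_smul, add_zero]

/-- two lines in an orbit meet in the fixed vector -/
theorem meet_orbit (hM : LinM (K := K) M) (h3 : Module.finrank K Vec = 3) (hr5 : 3 ≤ Module.finrank F K)
    (hMO : M ≤ Cfsg.Omega F ⇑Q)
    (hno : ∀ w : Vec, w ≠ 0 → β D w w = 0 → ∀ f : K →ₗ[F] K, InF D M w f → f = 0)
    {w : Vec} (hw0 : w ≠ 0) (hw : β D w w = 0) {m m' : Iso} (hm : m ∈ Fix M w) (hm' : m' ∈ Fix M w)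
    (hne : m • Ls K w ≠ m' • Ls K w) {x : Vec} (hx : x ∈ m • Ls K w) (hx' : x ∈ m' • Ls K w) : x ∈ (F ∙ w) := by
  set h := m'⁻¹ * m with hh
  have hhF : h ∈ Fix M w := mul_mem (inv_mem hm') hm
  have h1 : (1 : K) ∈ sect K h w w := mem_sect.2 ⟨1, by rw [one_smul, hhF.2]⟩
  have htop : sect K h w w ≠ ⊤ := fun e => hne (by
    refine inv_smul_eq_iff.1 ?_
    rw [← mul_smul, ← hh]
    refine Submodule.eq_of_le_of_finrank_le ?_ (finrank_smul h _).ge
    rintro _ ⟨_, ⟨k, rfl⟩, rfl⟩
    obtain ⟨t, ht⟩ := mem_sect.1 (e ▸ Submodule.mem_top : k ∈ sect K h w w)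
    rw [line_apply, ← ht]
    exact smul_mem_Ls w t)
  obtain ⟨_, ⟨k, rfl⟩, rfl⟩ := hx
  obtain ⟨_, ⟨t, rfl⟩, ht⟩ := hx'
  rw [line_apply, line_apply] at ht
  have hk : k ∈ sect K h w w := mem_sect.2 ⟨t, by rw [hh, act_mul, ← ht, ic]⟩
  have hle : (F ∙ (1 : K)) = sect K h w w := by
    refine Submodule.eq_of_le_of_finrank_le ((Submodule.span_singleton_le_iff_mem _ _).2 h1) ?_
    rw [finrank_span_singleton one_ne_zero]
    by_contra hc
    exact htop (sect_top_of_two hM h3 hr5 hMO hno hhF.1 hw0 hw hw0 hw (by omega))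
  obtain ⟨s, hs⟩ := Submodule.mem_span_singleton.1 (hle.symm ▸ hk : k ∈ (F ∙ (1 : K)))
  refine Submodule.mem_span_singleton.2 ⟨s, ?_⟩
  rw [line_apply, ← hs, smul_assoc, one_smul, map_smul, hm.2]

/-- the orbit is small -/
theorem card_orbit_le (hM : LinM (K := K) M) (h3 : Module.finrank K Vec = 3) (hr5 : 3 ≤ Module.finrank F K)
    (hMO : M ≤ Cfsg.Omega F ⇑Q)
    (hno : ∀ w : Vec, w ≠ 0 → β D w w = 0 → ∀ f : K →ₗ[F] K, InF D M w f → f = 0)
    {w : Vec} (hw0 : w ≠ 0) (hw : β D w w = 0) :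
    Nat.card (orbit (Fix M w) (Ls K w)) * (Nat.card K - Nat.card F) * Nat.card F ≤ Nat.card K ^ 3 := by
  classical
  haveI : Finite K := Module.finite_of_finite F
  haveI : FiniteDimensional K Vec := Module.Finite.right F K Vec
  set Ω := orbit (Fix M w) (Ls K w) with hΩ
  haveI : Finite Ω := (Set.finite_range _).to_subtype
  haveI : Fintype Ω := Fintype.ofFinite Ω
  let φ : Vec →ₗ[F] F := (QuadraticMap.polarBilin Q).flip w
  have hφ : ∀ x, φ x = B x w := fun x => rfl
  obtain ⟨p, hp⟩ := exists_pair D hw0 hw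
  obtain ⟨c, hc⟩ := exists_one D
  have hker : Nat.card (LinearMap.ker φ) * Nat.card F = Nat.card K ^ 3 := by
    have h1 := φ.finrank_range_add_finrank_ker
    have h2 : LinearMap.range φ = ⊤ := by
      refine LinearMap.range_eq_top.2 fun t => ⟨t • c • p, ?_⟩
      rw [map_smul, hφ, B_eq D]
      simp [hp.pw D, hc]
    rw [h2, finrank_top, Module.finrank_self, ← Module.finrank_mul_finrank F K Vec, h3] at h1
    rw [Module.natCard_eq_pow_finrank (K := F) (V := LinearMap.ker φ), Module.natCard_eq_pow_finrank (K := F) (V := K),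
      ← pow_succ, ← pow_mul, ← h1, add_comm]
  have hmem : ∀ S : Ω, ∃ m ∈ Fix M w, (S : Submodule F Vec) = m • Ls K w := fun S => by
    obtain ⟨⟨m, hm⟩, he⟩ := S.2
    exact ⟨m, hm, he.symm⟩
  choose μ hμ hμS using hmem
  let T := Σ S : Ω, {x : (S : Submodule F Vec) // (x : Vec) ∉ (F ∙ w)}
  let f : T → LinearMap.ker φ := fun z => ⟨(z.2.1 : Vec), by
    obtain ⟨_, ⟨k, rfl⟩, e⟩ := (hμS z.1 ▸ z.2.1.2 : (z.2.1 : Vec) ∈ μ z.1 • Ls K w)
    rw [LinearMap.mem_ker, hφ, ← e, line_apply]
    rw [show B (act (μ z.1) (k • w)) w = B (act (μ z.1) (k • w)) (act (μ z.1) w) by rw [(hμ z.1).2], act_polar, B_eq D, map_smul, LinearMap.smul_apply, hw, smul_zero, map_zero]⟩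
  have hf : Function.Injective f := by
    rintro ⟨S, ⟨x, hx⟩, hxn⟩ ⟨S', ⟨x', hx'⟩, hxn'⟩ e
    obtain rfl : x = x' := congrArg Subtype.val e
    obtain rfl : S = S' := by
      by_contra hne
      refine hxn (meet_orbit hM h3 hr5 hMO hno hw0 hw (hμ S) (hμ S') (fun h => hne (Subtype.ext ?_)) (hμS S ▸ hx)
        (hμS S' ▸ hx'))
      rw [hμS S, hμS S', h]
    rfl
  have hT : Nat.card T = Nat.card Ω * (Nat.card K - Nat.card F) := by
    have key : ∀ S : Ω, Nat.card {x : (S : Submodule F Vec) // (x : Vec) ∉ (F ∙ w)} = Nat.card K - Nat.card F := by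
      intro S
      have hwS : w ∈ (S : Submodule F Vec) := by
        rw [hμS S]
        exact ⟨w, ⟨1, one_smul K w⟩, (hμ S).2⟩
      have h1 : Nat.card {x : (S : Submodule F Vec) // (x : Vec) ∈ (F ∙ w)} = Nat.card F := by
        rw [Module.natCard_eq_pow_finrank (K := F) (V := F), Module.finrank_self, ← finrank_span_singleton (K := F) hw0,
          ← Module.natCard_eq_pow_finrank]
        exact Nat.card_congr ⟨fun x => ⟨x.1.1, x.2⟩,
          fun x => ⟨⟨x.1, (Submodule.span_singleton_le_iff_mem _ _).2 hwS x.2⟩, x.2⟩, fun _ => rfl, fun _ => rfl⟩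
      have h2 : Nat.card (S : Submodule F Vec) = Nat.card K := by
        rw [Module.natCard_eq_pow_finrank (K := F) (V := K), Module.natCard_eq_pow_finrank (K := F), hμS S,
          finrank_smul, finrank_Ls hw0]
      rw [← h2, ← Nat.card_congr (Equiv.sumCompl fun x : (S : Submodule F Vec) => (x : Vec) ∈ (F ∙ w)), Nat.card_sum, h1,
        Nat.add_sub_cancel_left]
    show Nat.card (Σ S : Ω, _) = _
    rw [Nat.card_sigma, Finset.sum_congr rfl fun S _ => key S, Finset.sum_const, Finset.card_univ, smul_eq_mul,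
      ← Nat.card_eq_fintype_card]
  rw [← hT, ← hker]
  exact Nat.mul_le_mul_right _ (Nat.card_le_card_of_injective f hf)

/-- fixed points of an outer element on the root group -/
theorem card_centraliser (hM : LinM (K := K) M) (h3 : Module.finrank K Vec = 3) (hr5 : 3 ≤ Module.finrank F K)
    (hMO : M ≤ Cfsg.Omega F ⇑Q) {w p d : Vec} (h : Frame D w p d)
    (hno : ∀ f : K →ₗ[F] K, InF D M w f → f = 0) {m : Iso} (hm : m ∈ Fix M w) {θ : K ≃ₐ[F] K}
    (hθ : ∀ (k : K) x, act m (k • x) = θ k • act m x) (h1 : θ ≠ 1) :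
    Nat.card {u : Ug D h M // m * (u : Iso) = (u : Iso) * m} = Nat.card F := by
  classical
  haveI : Finite K := Module.finite_of_finite F
  set γ := β D d d with hγ
  obtain ⟨ν, hν⟩ := exists_nu D hθ
  have hν0 : ν ≠ 0 := fun e => by
    have := hν p w
    rw [hm.2, e, zero_mul] at this
    have h2 := h.w0
    have h5 : ∀ y, β D w y = 0 := fun y => by
      obtain ⟨z, rfl⟩ : ∃ z, act m z = y := ⟨act m⁻¹ y, act_cancel_inv m y⟩
      nth_rewrite 1 [← hm.2]
      rw [hν, e, zero_mul]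
    exact h2 (β_ext D h5)
  have hw' : ∀ x, β D (act m x) w = ν * θ (β D x w) := fun x => by
    nth_rewrite 1 [← hm.2]
    exact hν x w
  obtain ⟨ρ, μ, hd⟩ : ∃ ρ μ : K, act m d = ρ • w + μ • d :=
    ⟨_, _, h.perp_coord (by rw [hw', β_comm, h.hwc, map_zero, mul_zero])⟩
  have hμ : μ * μ * γ = ν * θ γ := by
    have := hν d d
    rw [hd] at this
    simp [h.hp.1, h.hwc, β_comm D d w, ← hγ] at this
    linear_combination this
  have hμ0 : μ ≠ 0 := fun e => by
    rw [e, zero_mul, zero_mul, eq_comm, mul_eq_zero, map_eq_zero] at hμ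
    exact hμ.elim hν0 h.hc
  have hd' : ∀ x, β D (act m x) d = ν * θ (β D x d) / μ - ρ * (ν * θ (β D x w)) / μ := fun x => by
    have := hν x d
    rw [hd, map_add, map_smul, map_smul, smul_eq_mul, smul_eq_mul, hw'] at this
    field_simp
    linear_combination this
  have hγθ : θ γ = μ * μ * γ / ν := by
    field_simp
    linear_combination -hμ
  set σ : K → K := fun τ => μ / ν * θ τ with hσ
  have hσc : ∀ τ x, act m (elin D w (τ • d) x) = elin D w (σ τ • d) (act m x) := fun τ x => by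
    simp only [elin_apply, map_sub, map_add, hθ, hm.2, hd]
    simp only [map_smul, LinearMap.smul_apply, smul_eq_mul, hw', hd', ← hγ, map_mul, map_div₀, map_ofNat, hσ, hγθ]
    match_scalars <;> field_simp [two_ne D] <;> ring
  choose e he hex using exists_elin D hM h
  have heU : ∀ τ, e τ ∈ Ug D h M := fun τ => ⟨he τ, τ, hex τ⟩
  have hme : ∀ τ, m * e τ = e (σ τ) * m := fun τ => act_ext fun x => by rw [act_mul, act_mul, hex, hex, hσc]
  have heinj : ∀ {a b}, e a = e b → a = b := fun {a b} e' => tau_unique h fun x => by rw [← hex, ← hex, e']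
  have hcomm : ∀ τ, (m * e τ = e τ * m) ↔ σ τ = τ := fun τ =>
    ⟨fun h' => heinj (mul_right_cancel ((hme τ).symm.trans h')), fun h' => by rw [hme, h']⟩
  -- the order
  set r := Module.finrank F K with hr
  have hθr : θ ^ r = 1 := by
    rw [hr, ← IsGalois.card_aut_eq_finrank F K]
    exact pow_card_eq_one'
  haveI : Fact r.Prime := ⟨D.hr⟩
  have hord : orderOf θ = r := orderOf_eq_prime hθr h1
  have hpow : ∀ i : ℕ, ∀ (k : K) x, act (m ^ i) (k • x) = (θ ^ i) k • act (m ^ i) x := fun i => by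
    induction i with
    | zero => intro k x; simp [act_one]
    | succ i ih => intro k x; rw [pow_succ, pow_succ, act_mul, act_mul, hθ, ih, AlgEquiv.mul_apply]
  have hmr : m ^ r ∈ Ug D h M := mem_Ug_of_linear hM h3 (D.hr.odd_of_ne_two (by omega)) hMO h hno
    (pow_mem hm r).1 (fun k x => by rw [hpow, hθr, AlgEquiv.one_apply]) (pow_mem hm r).2
  have hiter : ∀ i : ℕ, ∀ τ, m ^ i * e τ = e (σ^[i] τ) * m ^ i := fun i => by
    induction i with
    | zero => intro τ; simp
    | succ i ih =>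
      intro τ
      rw [pow_succ, mul_assoc, hme, ← mul_assoc, ih, mul_assoc, Function.iterate_succ_apply]
  have hσr : ∀ τ, σ^[r] τ = τ := fun τ => heinj (mul_right_cancel ((hiter r τ).symm.trans
    (Ug_comm h hmr (heU τ))))
  -- a fixed vector
  obtain ⟨κ, hκ0, hκ⟩ : ∃ κ : ℕ → K, (∀ i, κ i ≠ 0) ∧ ∀ i τ, σ^[i] τ = κ i * (θ ^ i) τ := by
    have hex' : ∀ i, ∃ k : K, k ≠ 0 ∧ ∀ τ, σ^[i] τ = k * (θ ^ i) τ := fun i => by
      induction i with
      | zero => exact ⟨1, one_ne_zero, fun τ => by simp⟩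
      | succ i ih =>
        obtain ⟨k, hk0, hk⟩ := ih
        refine ⟨μ / ν * θ k, mul_ne_zero (div_ne_zero hμ0 hν0) (fun e => hk0 (θ.injective (by rw [e, map_zero]))),
          fun τ => ?_⟩
        rw [Function.iterate_succ_apply', hk]
        simp only [hσ, map_mul, pow_succ', AlgEquiv.mul_apply]
        ring
    choose κ h1' h2' using hex'
    exact ⟨κ, h1', h2'⟩
  let S : K → K := fun τ => ∑ i : Fin r, σ^[(i : ℕ)] τ
  obtain ⟨τ₀, hτ₀⟩ : ∃ τ, S τ ≠ 0 := by
    by_contra hc
    push Not at hc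
    have hinj : Function.Injective fun i : Fin r => ((θ ^ (i : ℕ) : K ≃ₐ[F] K) : K →* K) := fun i j hij => by
      refine Fin.ext (pow_injOn_Iio_orderOf (x := θ) (hord.symm ▸ i.2) (hord.symm ▸ j.2) ?_)
      exact AlgEquiv.ext fun k => DFunLike.congr_fun hij k
    have hli := (linearIndependent_monoidHom K K).comp _ hinj
    refine hκ0 0 (Fintype.linearIndependent_iff.1 hli (fun i => κ (i : ℕ)) (funext fun τ => ?_) ⟨0, D.hr.pos⟩)
    rw [Finset.sum_apply, Pi.zero_apply, ← hc τ]
    exact Finset.sum_congr rfl fun i _ => by rw [hκ]; rfl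
  set f₀ := S τ₀ with hf₀
  have hσadd : ∀ (s : Finset (Fin r)) (g : Fin r → K), σ (∑ i ∈ s, g i) = ∑ i ∈ s, σ (g i) := fun s g => by
    simp only [hσ, map_sum, Finset.mul_sum]
  have hfix : σ f₀ = f₀ := by
    have hs : S τ₀ = ∑ i ∈ Finset.range r, σ^[i] τ₀ := Fin.sum_univ_eq_sum_range (fun i => σ^[i] τ₀) r
    have h2 : σ (S τ₀) = ∑ i ∈ Finset.range r, σ^[i + 1] τ₀ := by
      rw [hσadd, ← Fin.sum_univ_eq_sum_range (fun i => σ^[i + 1] τ₀) r]
      simp only [Function.iterate_succ_apply']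
    have h4 := Finset.sum_range_succ' (fun i => σ^[i] τ₀) r
    rw [Finset.sum_range_succ, hσr, Function.iterate_zero_apply] at h4
    rw [hf₀, h2, hs]
    linear_combination -h4
  refine (Nat.card_congr (Equiv.ofBijective (fun s : F => (⟨⟨e (s • f₀), heU _⟩, (hcomm _).2 (by
    simp only [hσ, map_smul, mul_smul_comm] at hfix ⊢
    rw [hfix])⟩ : {u : Ug D h M // m * (u : Iso) = (u : Iso) * m})) ⟨fun a b hab => ?_, ?_⟩)).symm
  · exact smul_left_injective F hτ₀ (heinj (congrArg (fun u : {u : Ug D h M // m * (u : Iso) = (u : Iso) * m} =>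
      ((u : Ug D h M) : Iso)) hab))
  · rintro ⟨⟨u, hu, τ, hτ⟩, hu'⟩
    obtain rfl : u = e τ := act_ext fun x => (hτ x).trans (hex τ x).symm
    have h5 : σ τ = τ := (hcomm τ).1 hu'
    have h6 : θ (τ / f₀) = τ / f₀ := by
      have e1 : σ τ * f₀ = τ * σ f₀ := by rw [h5, hfix]
      simp only [hσ] at e1
      rw [map_div₀, div_eq_div_iff (fun e => hτ₀ (θ.injective (by rw [e, map_zero]))) hτ₀]
      exact mul_left_cancel₀ (div_ne_zero hμ0 hν0) (by linear_combination e1)
    obtain ⟨s, hs⟩ := aut_fixed D.hr h1 h6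
    refine ⟨s, Subtype.ext (Subtype.ext ?_)⟩
    show e (s • f₀) = e τ
    rw [Algebra.smul_def, ← hs, div_mul_cancel₀ _ hτ₀]

theorem orbit_bound {q a N : ℕ} (hq : 3 ≤ q) (hA9 : 9 ≤ a)
    (hb : (1 + N * (q * a)) * (q * a - q) * q ≤ (q * a) ^ 3) : N ≤ a + 1 := by
  by_contra hc
  obtain ⟨n, rfl⟩ : ∃ n, N = a + 2 + n := ⟨N - (a + 2), by omega⟩
  obtain ⟨b, hb'⟩ : ∃ b, q * a = q + b := ⟨q * a - q, by
    have : q ≤ q * a := Nat.le_mul_of_pos_right q (by omega)
    omega⟩
  rw [hb', Nat.add_sub_cancel_left, ← hb'] at hb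
  have h9 : q * 9 ≤ q * a := Nat.mul_le_mul_left q hA9
  have hX : q * a * (q * a) < (1 + 2 * (q * a)) * b := by nlinarith [Nat.mul_le_mul_right (q * a) h9]
  have h1 : (1 + (a + 2) * (q * a)) * b * q ≤ (q * a) ^ 3 :=
    le_trans (Nat.mul_le_mul_right _ (Nat.mul_le_mul_right _
      (Nat.add_le_add_left (Nat.mul_le_mul_right _ (Nat.le_add_right _ n)) 1))) hb
  have h2 : (1 + (a + 2) * (q * a)) * b * q = q * a * (q * a) * b + q * ((1 + 2 * (q * a)) * b) := by ring
  have h3' : q * (q * a * (q * a)) < q * ((1 + 2 * (q * a)) * b) := Nat.mul_lt_mul_of_pos_left hX (by omega)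
  have h4 : (q * a) ^ 3 = q * a * (q * a) * b + q * (q * a * (q * a)) := by
    conv_lhs => rw [pow_succ, pow_two]; arg 2; rw [hb']
    ring
  omega

/-- the cubic case, where a point may be fixed by an element of order three -/
theorem arith_three {q N t : ℕ} (hq : 3 ≤ q) (hodd : Odd q)
    (hb : (1 + N * q ^ 3) * (q ^ 3 - q) * q ≤ (q ^ 3) ^ 3) (ht : 2 * t = q ^ 3 + 1 ∨ 2 * t + 1 = q ^ 3)
    (hd : t ∣ 3 * (1 + N * q ^ 3)) (hex : ¬ (q = 5 ∧ N = 22)) : 2 * t = q ^ 3 + 1 ∧ N = 1 := by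
  have hA : q ^ 3 = q * q ^ 2 := by ring
  have hN : N ≤ q ^ 2 + 1 := orbit_bound hq (by nlinarith) (by rw [← hA]; exact hb)
  have hN0 : 1 ≤ N := by
    rcases Nat.eq_zero_or_pos N with rfl | h
    · rw [zero_mul, add_zero, mul_one] at hd
      have := Nat.le_of_dvd (by norm_num) hd
      have : 27 ≤ q ^ 3 := by nlinarith [Nat.pow_le_pow_left hq 3]
      omega
    · exact h
  rcases Nat.lt_or_ge q 7 with h7 | h7
  · obtain ⟨i, hi⟩ := hodd
    obtain rfl | rfl : q = 3 ∨ q = 5 := by omega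
    · rcases ht with ht | ht
      · obtain rfl : t = 14 := by omega
        refine ⟨by norm_num, ?_⟩
        revert hd
        interval_cases N <;> norm_num
      · obtain rfl : t = 13 := by omega
        exfalso
        revert hd
        interval_cases N <;> norm_num
    · rcases ht with ht | ht
      · obtain rfl : t = 63 := by omega
        refine ⟨by norm_num, ?_⟩
        revert hd hex
        interval_cases N <;> norm_num
      · obtain rfl : t = 62 := by omega
        exfalso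
        revert hd
        interval_cases N <;> norm_num
  have hq2 : 7 * q ^ 2 ≤ q ^ 3 := by rw [hA]; exact Nat.mul_le_mul_right _ h7
  have h49 : 49 ≤ q ^ 2 := by nlinarith
  rcases ht with ht | ht
  · refine ⟨ht, ?_⟩
    have h1 : t ∣ 3 * (1 + N * q ^ 3) + 3 * (N - 1) := by
      have : 3 * (1 + N * q ^ 3) + 3 * (N - 1) = 3 * (N * (2 * t)) := by
        rw [ht, mul_add N, mul_one]
        omega
      rw [this]
      exact Dvd.dvd.mul_left (Dvd.dvd.mul_left (Dvd.intro_left 2 rfl) _) _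
    have h2 := (Nat.dvd_add_right hd).1 h1
    by_contra hne
    have := Nat.le_of_dvd (by omega) h2
    omega
  · exfalso
    have h1 : t ∣ 3 * (N + 1) := by
      have : 3 * (1 + N * q ^ 3) = 6 * N * t + 3 * (N + 1) := by rw [← ht]; ring
      rw [this] at hd
      exact (Nat.dvd_add_right (Dvd.intro_left _ rfl)).1 hd
    have := Nat.le_of_dvd (by omega) h1
    omega

/-- a prime which does not divide the order of the group -/
theorem not_dvd_131 (h5 : Nat.card F = 5) (h9 : Fintype.card ι = 9) (H : Subgroup (GL ι F)) :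
    ¬ 131 ∣ Nat.card H := by
  intro h
  have h1 := h.trans H.card_subgroup_dvd_card
  rw [Nat.card_congr (Cfsg.Geo.glReindex (Fintype.equivFinOfCardEq h9) : GL ι F ≃* GL (Fin 9) F).toEquiv,
    Matrix.card_GL_field, ← Nat.card_eq_fintype_card (α := F), h5] at h1
  norm_num [Fin.prod_univ_succ] at h1

theorem arith {q r N t : ℕ} (hq : 3 ≤ q) (hr : 3 ≤ r) (hb : (1 + N * q ^ r) * (q ^ r - q) * q ≤ (q ^ r) ^ 3)
    (ht : 2 * t = q ^ r + 1 ∨ 2 * t + 1 = q ^ r) (hd : t ∣ 1 + N * q ^ r) :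
    2 * t = q ^ r + 1 ∧ N = 1 := by
  obtain ⟨s, rfl⟩ : ∃ s, r = s + 1 := ⟨r - 1, by omega⟩
  have hA : q ^ (s + 1) = q * q ^ s := by rw [pow_succ']
  have hA9 : 9 ≤ q ^ s := calc
    9 ≤ q ^ 2 := by nlinarith
    _ ≤ q ^ s := Nat.pow_le_pow_right (by omega) (by omega)
  rw [hA] at hb ht hd
  generalize q ^ s = a at hb ht hd hA9 hA ⊢
  have h3a : 3 * a ≤ q * a := Nat.mul_le_mul_right a hq
  have hN : N ≤ a + 1 := orbit_bound hq hA9 hb
  have hN0 : 1 ≤ N := by
    rcases Nat.eq_zero_or_pos N with rfl | h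
    · rw [zero_mul, add_zero] at hd
      have := Nat.le_of_dvd one_pos hd
      omega
    · exact h
  rcases ht with ht | ht
  · refine ⟨by rw [hA]; exact ht, ?_⟩
    have h1 : t ∣ (1 + N * (q * a)) + (N - 1) := by
      have : (1 + N * (q * a)) + (N - 1) = N * (q * a + 1) := by rw [mul_add, mul_one]; omega
      rw [this, ← ht]
      exact Dvd.dvd.mul_left (Dvd.intro_left 2 rfl) _
    have h2 := (Nat.dvd_add_right hd).1 h1
    by_contra hne
    have := Nat.le_of_dvd (by omega) h2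
    omega
  · exfalso
    have h1 : t ∣ N + 1 := by
      have : 1 + N * (q * a) = 2 * N * t + (N + 1) := by rw [← ht]; ring
      rw [this] at hd
      exact (Nat.dvd_add_right (Dvd.intro_left _ rfl)).1 hd
    have := Nat.le_of_dvd (by omega) h1
    omega

variable (D) in
/-- the counting case is impossible -/
theorem no_wild (hM : LinM (K := K) M) (h3 : Module.finrank K Vec = 3) (hr5 : 3 ≤ Module.finrank F K)
    (hMO : M ≤ Cfsg.Omega F ⇑Q)
    (hno : ∀ w : Vec, w ≠ 0 → β D w w = 0 → ∀ f : K →ₗ[F] K, InF D M w f → f = 0)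
    {g : Iso} (hg : g ∈ M) (hns : ¬ Semi K g) : False := by
  classical
  haveI : Finite K := Module.finite_of_finite F
  haveI : FiniteDimensional K Vec := Module.Finite.right F K Vec
  set p₀ := ringChar F with hp₀
  haveI hfp : Fact p₀.Prime := ⟨CharP.char_is_prime F _⟩
  obtain ⟨w, hw0, hw, hgw⟩ := exists_nonsing_image D hM h3 hns
  obtain ⟨p, c, h⟩ := exists_frame' D h3 hw0 hw
  have hN := hno w hw0 hw
  set r := Module.finrank F K with hr
  set q := Nat.card F with hq
  have hKq : Nat.card K = q ^ r := Module.natCard_eq_pow_finrank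
  have hq3 : 3 ≤ q := by
    have h1 : Odd (Fintype.card F) := Nat.odd_iff.2
      (FiniteField.odd_card_of_char_ne_two fun hc => D.h2 (by
        have : CharP F 2 := hc ▸ ringChar.charP F
        exact CharTwo.two_eq_zero))
    have h2 := Fintype.one_lt_card (α := F)
    obtain ⟨i, hi⟩ := h1
    rw [hq, Nat.card_eq_fintype_card]
    omega
  have hqodd : Odd q := by
    rw [hq, Nat.card_eq_fintype_card]
    exact Nat.odd_iff.2 (FiniteField.odd_card_of_char_ne_two fun hc => D.h2 (by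
      have : CharP F 2 := hc ▸ ringChar.charP F
      exact CharTwo.two_eq_zero))
  have hpq : p₀ ∣ q := by
    rw [hq, Nat.card_eq_fintype_card]
    exact (CharP.cast_eq_zero_iff F _ _).1 (FiniteField.cast_card_eq_zero F)
  set G := Fix M w with hG
  set Ω := orbit G (Ls K w) with hΩ
  haveI : Finite Ω := (Set.finite_range _).to_subtype
  let a : Ω := ⟨Ls K w, mem_orbit_self _⟩
  have hUG : Ug D h M ≤ G := fun u hu => ⟨hu.1, by have := Ug_fix h hu 1; rwa [one_smul] at this⟩
  let U₁ := (Ug D h M).subgroupOf G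
  haveI : IsMulCommutative U₁ := ⟨⟨fun a b => Subtype.ext (Subtype.ext (Ug_comm h a.2 b.2))⟩⟩
  have hUc : Nat.card U₁ = q ^ r := by
    rw [Nat.card_congr (Subgroup.subgroupOfEquivOfLe hUG).toEquiv, card_Ug hM h, hKq]
  have hexp : ∀ u ∈ U₁, u ^ p₀ = 1 := fun u hu => Subtype.ext (by
    rw [SubmonoidClass.coe_pow]
    exact Ug_pow h (by rw [← map_natCast (algebraMap F K), hp₀, ringChar.Nat.cast_ringChar, map_zero]) hu)
  have hUa : U₁ ≤ stabilizer G a := fun u hu => Subtype.ext (Ug_smul h hu)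
  have hst : ∀ m : G, m ∈ stabilizer G a → (m : Iso) • Ls K w = Ls K w := fun m hm =>
    congrArg Subtype.val (mem_stabilizer_iff.1 hm)
  have hfree : ∀ u ∈ U₁, u ≠ 1 → ∀ x : Ω, u • x = x → x = a := fun u hu hu1 x hx => by
    obtain ⟨m, hm⟩ := x.2
    refine Subtype.ext ?_
    show (x : Submodule F Vec) = Ls K w
    rw [← hm]
    exact Ug_free hM h3 hr5 hMO h hN m.2 hu (fun e => hu1 (Subtype.ext e)) (by
      have := congrArg Subtype.val hx
      rw [orbit.coe_smul, ← hm] at this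
      exact this)
  have hchar : ∀ m : G, ∀ u ∈ U₁, m * u * m⁻¹ ∈ stabilizer G a → m * u * m⁻¹ ∈ U₁ := fun m u hu hmu => by
    rcases eq_or_ne u 1 with rfl | hu1
    · rw [mul_one, mul_inv_cancel]; exact one_mem _
    exact mem_Ug_of_conj hM h3 hr5 hMO h hN m.2.1 (u := (u : Iso)) hu (fun e => hu1 (Subtype.ext e)) (hst _ hmu)
      (m * u * m⁻¹).2.2
  -- the torus
  obtain ⟨T₀, hT₀M, hT₀x, hT₀c, hT₀2⟩ := exists_rot D hM h3 hgw
  let ψ : T₀ →* G :=
    { toFun := fun t => ⟨g⁻¹ * (t : Iso) * g, mul_mem (mul_mem (inv_mem hg) (hT₀M t.2)) hg, by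
        have := hT₀x _ t.2 1
        rw [one_smul] at this
        rw [act_mul, act_mul, this, ic]⟩
      map_one' := Subtype.ext (by simp)
      map_mul' := fun s t => Subtype.ext (by
        show g⁻¹ * ((s : Iso) * t) * g = g⁻¹ * s * g * (g⁻¹ * t * g)
        group) }
  have hψ : Function.Injective ψ := fun s t e => Subtype.ext (by
    have h1 : g⁻¹ * (s : Iso) * g = g⁻¹ * t * g := congrArg Subtype.val e
    exact mul_left_cancel (mul_right_cancel h1))
  let T := ψ.range
  have hTc : Nat.card T = Nat.card T₀ := (Nat.card_congr (MonoidHom.ofInjective hψ).toEquiv).symm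
  have hlinone : ∀ (m : G) (t : T₀), ((m⁻¹ * ψ t * m : G) : Iso) ∈ Ug D h M → t = 1 := fun m t hU => by
    set t' := m⁻¹ * ψ t * m with ht''
    have e2 : t' ^ p₀ = 1 := hexp t' hU
    have e3 : ψ t ^ p₀ = 1 := by
      rw [ht''] at e2
      have := congrArg (fun z => m * z * m⁻¹) e2
      simp only [mul_one, mul_inv_cancel] at this
      rw [← this]
      rw [show m⁻¹ * ψ t * m = m⁻¹ * ψ t * (m⁻¹)⁻¹ by rw [inv_inv], conj_pow]
      group
    have e4 : t ^ p₀ = 1 := hψ (by rw [map_pow, e3, map_one])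
    have hcop : Nat.Coprime p₀ (Nat.card T₀) := by
      refine (Nat.Prime.coprime_iff_not_dvd hfp.out).2 fun hd => ?_
      obtain ⟨i, hi⟩ : p₀ ∣ q ^ r := dvd_pow hpq D.hr.ne_zero
      obtain ⟨j, hj⟩ := hd
      have hp2 := hfp.out.two_le
      rw [hKq, hj, hi] at hT₀c
      rcases hT₀c with h' | h'
      · have h5 : p₀ ∣ 1 := (Nat.dvd_add_right (Dvd.intro i rfl)).1 ⟨2 * j, by rw [← h']; ring⟩
        exact absurd (Nat.le_of_dvd one_pos h5) (by omega)
      · have h5 : p₀ ∣ 1 := (Nat.dvd_add_right (Dvd.intro (2 * j) rfl)).1 ⟨i, by rw [← h']; ring⟩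
        exact absurd (Nat.le_of_dvd one_pos h5) (by omega)
    have e5 : t = 1 := by
      have := pow_gcd_eq_one.2 ⟨e4, pow_card_eq_one' (x := t)⟩
      rwa [hcop, pow_one] at this
    exact e5
  have hTstab : ∀ x : Ω, Nat.card (stabilizer T x) ∣ if r = 3 then 3 else 1 := fun x => by
    obtain ⟨m, hm⟩ := x.2
    let back : T →* T₀ := (MonoidHom.ofInjective hψ).symm.toMonoidHom
    have hback : ∀ s : T, (s : G) = ψ (back s) := fun s =>
      (congrArg Subtype.val ((MonoidHom.ofInjective hψ).apply_symm_apply s)).symm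
    have hmove : ∀ s : stabilizer T x, ((m⁻¹ * (s : T) * m : G) : Iso) • Ls K w = Ls K w := fun s => by
      have h' : ((s : T) : G) • (x : Ω) = x := mem_stabilizer_iff.1 s.2
      have h'' : (((s : T) : G) : Iso) • (x : Submodule F Vec) = x := congrArg Subtype.val h'
      rw [← hm] at h''
      change (((s : T) : G) : Iso) • ((m : Iso) • Ls K w) = (m : Iso) • Ls K w at h''
      show ((m : Iso)⁻¹ * ((s : T) : G) * m) • Ls K w = _
      rw [mul_smul, mul_smul, h'', inv_smul_smul]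
    have hΘ : ∀ s : stabilizer T x, ∃ θ : K ≃ₐ[F] K,
        ∀ (k : K) v, act ((m⁻¹ * (s : T) * m : G) : Iso) (k • v) = θ k • act ((m⁻¹ * (s : T) * m : G) : Iso) v :=
      fun s => semi_aut (semilinear_stab D hM h3 hr5 hw0 hw hN (m⁻¹ * (s : T) * m : G).2.1 (smul_Ls_le (hmove s))) hw0
    choose θ hθ using hΘ
    let Θ : stabilizer T x →* (K ≃ₐ[F] K) := MonoidHom.mk' θ fun s u => aut_unique hw0 (hθ _) fun k v => by
      have e : ((m⁻¹ * ((s * u : stabilizer T x) : T) * m : G) : Iso) =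
          ((m⁻¹ * (s : T) * m : G) : Iso) * ((m⁻¹ * (u : T) * m : G) : Iso) := by
        rw [← Subgroup.coe_mul]
        refine congrArg Subtype.val ?_
        rw [Subgroup.coe_mul, Subgroup.coe_mul]
        group
      rw [e, act_mul, act_mul, hθ, hθ, AlgEquiv.mul_apply]
    have hker : Θ.ker = ⊥ := by
      rw [Subgroup.eq_bot_iff_forall]
      intro s hs
      have h' := mem_Ug_of_linear hM h3 (D.hr.odd_of_ne_two (by omega)) hMO h hN (m⁻¹ * (s : T) * m : G).2.1
        (fun k v => (hθ s k v).trans (by rw [show θ s = 1 from hs]; rfl)) (m⁻¹ * (s : T) * m : G).2.2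
      rw [hback (s : T)] at h'
      refine Subtype.ext (Subtype.ext ?_)
      rw [hback (s : T), hlinone m _ h', map_one]
      rfl
    split_ifs with hr3
    · have := Subgroup.card_dvd_of_injective Θ ((MonoidHom.ker_eq_bot_iff Θ).1 hker)
      rwa [IsGalois.card_aut_eq_finrank, ← hr, hr3] at this
    · rw [Nat.dvd_one, Subgroup.card_eq_one, Subgroup.eq_bot_iff_forall]
      intro s hs
      set t := back s
      have hfix : 4 ≤ Module.finrank F ↥(fixSp ((m⁻¹ * ψ t * m : G) : Iso)) := by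
        have h1 : Ls K (act g w) ≤ fixSp (t : Iso) := by
          rintro _ ⟨k, rfl⟩
          exact mem_fixSp.2 (hT₀x _ t.2 k)
        have h2 := Submodule.finrank_mono h1
        rw [finrank_Ls (fun e => hw0 (act_injective g (e.trans (map_zero _).symm)))] at h2
        have e1 : ((m⁻¹ * ψ t * m : G) : Iso) = ((m : Iso)⁻¹ * g⁻¹) * t * ((m : Iso)⁻¹ * g⁻¹)⁻¹ := by
          show (m : Iso)⁻¹ * (g⁻¹ * t * g) * m = _
          group
        rw [e1, fix_conj, finrank_smul]
        have hr4 : r ≠ 4 := fun e4 => by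
          have := D.hr
          rw [← hr, e4] at this
          norm_num at this
        omega
      have hL := hmove ⟨s, hs⟩
      rw [hback s] at hL
      have hU := mem_Ug_of_fix hM h3 hr5 hMO h hN (m⁻¹ * ψ t * m : G).2.1 hL (m⁻¹ * ψ t * m : G).2.2 hfix
      refine Subtype.ext ?_
      rw [hback s, show back s = 1 from hlinone m t hU, map_one]
      rfl
  have hTdvd : Nat.card T₀ ∣ (if r = 3 then 3 else 1) * Nat.card Ω := by
    haveI : Fintype Ω := Fintype.ofFinite Ω
    haveI : Fintype (Quotient (orbitRel T Ω)) := Fintype.ofFinite _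
    rw [← hTc, Nat.card_congr (selfEquivSigmaOrbitsQuotientStabilizer T Ω), Nat.card_sigma, Finset.mul_sum]
    refine Finset.dvd_sum fun o _ => ?_
    rw [← Subgroup.index_eq_card, ← Subgroup.card_mul_index (stabilizer T o.out)]
    exact mul_dvd_mul_right (hTstab _) _
  obtain ⟨N, hNΩ⟩ : ∃ N, Nat.card Ω = 1 + N * q ^ r := by
    letI : MulAction U₁ {x : Ω // x ≠ a} :=
      { smul := fun u x => ⟨(u : G) • x.1, fun e => x.2 ((smul_left_cancel (u : G)) (e.trans
          (mem_stabilizer_iff.1 (hUa u.2)).symm))⟩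
        one_smul := fun x => Subtype.ext (one_smul G x.1)
        mul_smul := fun u v x => Subtype.ext (mul_smul (u : G) v x.1) }
    have hf' : ∀ x : {x : Ω // x ≠ a}, stabilizer U₁ x = ⊥ := fun x => by
      rw [Subgroup.eq_bot_iff_forall]
      intro u hu
      by_contra hne
      exact x.2 (hfree u u.2 (fun e => hne (Subtype.ext e)) x.1 (congrArg Subtype.val (mem_stabilizer_iff.1 hu)))
    refine ⟨Nat.card (Quotient (orbitRel U₁ {x : Ω // x ≠ a})), ?_⟩
    rw [← Nat.card_congr (Equiv.sumCompl fun x : Ω => x = a), Nat.card_sum, Nat.card_unique,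
      Nat.card_congr (selfEquivOrbitsQuotientProd hf'), Nat.card_prod, hUc]
  have hb := card_orbit_le hM h3 hr5 hMO hno hw0 hw
  rw [← hG, ← hΩ, hNΩ, hKq, ← hq] at hb
  rw [hNΩ] at hTdvd
  rw [hKq] at hT₀c
  obtain ⟨hT', rfl⟩ : 2 * Nat.card T₀ = q ^ r + 1 ∧ N = 1 := by
    by_cases hr3 : r = 3
    · rw [if_pos hr3, hr3] at hTdvd
      rw [hr3] at hb hT₀c ⊢
      refine arith_three hq3 hqodd hb hT₀c hTdvd fun hex => ?_
      have hι : Fintype.card ι = 9 := by
        have e := Module.finrank_mul_finrank F K Vec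
        rw [h3, ← hr, hr3, Module.finrank_fintype_fun_eq_card] at e
        omega
      refine not_dvd_131 (F := F) hex.1 hι (G.map (Cfsg.isometryGroup F ⇑Q).subtype) ?_
      rw [Subgroup.card_map_of_injective (Subgroup.subtype_injective _)]
      have hd2 : Nat.card Ω ∣ Nat.card G := by
        have e := MulAction.index_stabilizer_of_transitive G a
        rw [← e]
        exact Subgroup.index_dvd_card _
      refine dvd_trans ?_ hd2
      rw [hNΩ, hex.1, hex.2, hr3]
      norm_num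
    · rw [if_neg hr3, one_mul] at hTdvd
      exact arith hq3 hr5 hb hT₀c hTdvd
  -- the stabiliser
  have hΘ : ∀ m : stabilizer G a, ∃ θ : K ≃ₐ[F] K, ∀ (k : K) x, act ((m : G) : Iso) (k • x) = θ k • act ((m : G) : Iso) x :=
    fun m => semi_aut (semilinear_stab D hM h3 hr5 hw0 hw hN (m : G).2.1 (smul_Ls_le (hst _ m.2))) hw0
  choose θ hθ using hΘ
  let Θ : stabilizer G a →* (K ≃ₐ[F] K) := MonoidHom.mk' θ fun m n => aut_unique hw0 (hθ _) fun k x => by
    rw [Subgroup.coe_mul, Subgroup.coe_mul, act_mul, act_mul, hθ, hθ, AlgEquiv.mul_apply]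
  have hker : Θ.ker = U₁.subgroupOf (stabilizer G a) := by
    ext m
    refine ⟨fun hm => mem_Ug_of_linear hM h3 (D.hr.odd_of_ne_two (by omega)) hMO h hN (m : G).2.1
      (fun k x => (hθ m k x).trans (by rw [show θ m = 1 from hm]; rfl)) (m : G).2.2, fun hm => ?_⟩
    obtain ⟨-, τ, hτ⟩ := (hm : ((m : G) : Iso) ∈ Ug D h M)
    exact aut_unique hw0 (hθ m) fun k x =>
      ((hτ (k • x)).trans (map_smul _ k x)).trans (congrArg (k • ·) (hτ x).symm)
  have hkerc : Nat.card Θ.ker = q ^ r := by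
    rw [hker, Nat.card_congr (Subgroup.subgroupOfEquivOfLe hUa).toEquiv, hUc]
  haveI : Fact (Nat.card (K ≃ₐ[F] K)).Prime := ⟨by rw [IsGalois.card_aut_eq_finrank]; exact D.hr⟩
  refine no_group D.hr hr5 hq3 hqodd hpq a U₁ hUa hexp hUc hchar hfree (by rw [hNΩ]; ring) ?_ T
    (by rw [hTc]; exact hT') ?_
  · rcases Θ.range.eq_bot_or_eq_top_of_prime_card with h' | h'
    · left
      refine le_antisymm (fun m hm => ?_) hUa
      have : (⟨m, hm⟩ : stabilizer G a) ∈ Θ.ker := by
        rw [MonoidHom.range_eq_bot_iff.1 h']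
        exact MonoidHom.mem_ker.2 rfl
      rw [hker] at this
      exact this
    · right
      refine ⟨?_, fun m hm hmU => ?_⟩
      · have := Subgroup.card_eq_card_quotient_mul_card_subgroup Θ.ker
        rw [Nat.card_congr (QuotientGroup.quotientKerEquivRange Θ).toEquiv, h', Subgroup.card_top,
          IsGalois.card_aut_eq_finrank, hkerc, mul_comm] at this
        exact this
      · have hθ1 : θ ⟨m, hm⟩ ≠ 1 := fun e => hmU (by
          have : (⟨m, hm⟩ : stabilizer G a) ∈ Θ.ker := e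
          rw [hker] at this
          exact this)
        refine ((Nat.card_congr ?_).trans (card_centraliser hM h3 hr5 hMO h hN m.2 (hθ ⟨m, hm⟩) hθ1)).trans rfl
        exact
          { toFun := fun u => ⟨⟨((u.1 : G) : Iso), u.1.2⟩, congrArg Subtype.val u.2⟩
            invFun := fun u => ⟨⟨⟨(u.1 : Iso), hUG u.1.2⟩, u.1.2⟩, Subtype.ext u.2⟩
            left_inv := fun _ => rfl
            right_inv := fun _ => rfl }
  · rintro _ ⟨s, rfl⟩ _ ⟨t, rfl⟩ hs ht hs1 ht1
    have key : ∀ s : T₀, ψ s * ψ s = 1 → ψ s ≠ 1 → ((s : Iso) * s = 1 ∧ (s : Iso) ≠ 1) := fun s hs hs1 =>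
      ⟨by rw [← Subgroup.coe_mul, show s * s = 1 from hψ (by rw [map_mul, hs, map_one])]; rfl,
        fun e => hs1 (by rw [show s = 1 from Subtype.ext e, map_one])⟩
    obtain ⟨a1, a2⟩ := key s hs hs1
    obtain ⟨b1, b2⟩ := key t ht ht1
    rw [show s = t from Subtype.ext (hT₀2 _ s.2 _ t.2 a1 b1 a2 b2)]

end Cfsg.Agent.Forms.Max.OrthExtField.Rank3
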