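import Mathlib
import Cfsg.Agent.Lib.Forms.Max.OrthExtField.Rank3.Stab

/-!
# The radical of a line meets `M` in a space over the small field, closed under symmetric scaling
-/

set_option autoImplicit false
set_option linter.unusedSectionVars false

namespace Cfsg.Agent.Forms.Max.OrthExtField.Rank3

open Matrix Cfsg.Agent.Forms.QuadStd Cfsg.Agent.Forms.Reflections Cfsg.Agent.Classical.Orth

variable {F : Type*} [Field F] [Fintype F] {ι : Type} [Fintype ι] [DecidableEq ι]
variable {K : Type*} [Field K] [Algebra F K] [FiniteDimensional F K]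
variable [Module K (ι → F)] [IsScalarTower F K (ι → F)]
variable {Q : QuadraticForm F (ι → F)}

local notation "Vec" => (ι → F)
local notation "B" => QuadraticMap.polar Q
set_option quotPrecheck false in
local notation "Iso" => Cfsg.isometryGroup F ⇑Q

variable (D : Data K Q) {M : Subgroup (Cfsg.isometryGroup F ⇑Q)}

/-- symmetric scaling -/
noncomputable def sym (x z : K) : (K →ₗ[F] K) →ₗ[F] (K →ₗ[F] K) where
  toFun f := (LinearMap.mulLeft F x).comp (f.comp (LinearMap.mulLeft F z)) +
    (LinearMap.mulLeft F z).comp (f.comp (LinearMap.mulLeft F x))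
  map_add' f g := by ext k; simp [mul_add]; ring
  map_smul' s f := by ext k; simp

/-- scaling on both sides -/
noncomputable def both (x : K) : (K →ₗ[F] K) →ₗ[F] (K →ₗ[F] K) where
  toFun f := (LinearMap.mulLeft F x).comp (f.comp (LinearMap.mulLeft F x))
  map_add' f g := by ext k; simp [mul_add]
  map_smul' s f := by ext k; simp

theorem both_apply (x : K) (f : K →ₗ[F] K) (k : K) : both x f k = x * f (x * k) := rfl

theorem sym_apply (x z : K) (f : K →ₗ[F] K) (k : K) : sym x z f k = x * f (z * k) + z * f (x * k) := rfl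

theorem InF.zero (w : Vec) : InF D M w 0 := ⟨1, one_mem M, fun x => by simp [act_one]⟩

theorem InF.add {w : Vec} (hw : β D w w = 0) {f g : K →ₗ[F] K} (hf : InF D M w f) (hg : InF D M w g) :
    InF D M w (f + g) := by
  obtain ⟨m, hm, hmx⟩ := hf
  obtain ⟨n, hn, hnx⟩ := hg
  refine ⟨m * n, mul_mem hm hn, fun x => ?_⟩
  rw [act_mul, hnx, hmx, map_add, map_smul, LinearMap.add_apply, LinearMap.smul_apply, hw, smul_zero, add_zero,
    LinearMap.add_apply, add_smul]
  abel

theorem InF.neg {w : Vec} (hw : β D w w = 0) {f : K →ₗ[F] K} (hf : InF D M w f) : InF D M w (-f) := by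
  obtain ⟨m, hm, hmx⟩ := hf
  refine ⟨m⁻¹, inv_mem hm, fun x => act_injective m ?_⟩
  rw [act_cancel_inv, hmx]
  simp [hw]

theorem InF.map {w v : Vec} (hv : β D v v = 0) {g : Iso} (hg : g ∈ M) {c : K} (hgw : act g w = c • v)
    (hlin : ∀ (k : K) x, act g (k • x) = k • act g x) {f : K →ₗ[F] K} (hf : InF D M w f) :
    InF D M v (both c f) := by
  obtain ⟨m, hm, hmx⟩ := hf
  refine ⟨g * m * g⁻¹, mul_mem (mul_mem hg hm) (inv_mem hg), fun x => ?_⟩
  have hβ : β D (act g⁻¹ x) w = c * β D x v := chi_ext D fun i => by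
    rw [spec', ← act_polar g, act_cancel_inv, hlin, hgw, smul_smul, ← spec' D, mul_assoc]
  rw [act_mul, act_mul, hmx, map_add, act_cancel_inv, hlin, hgw, smul_smul, hβ, both_apply, mul_comm (f _) c]

theorem InF.both_sq (hM : LinM (K := K) M) {w : Vec} (hw0 : w ≠ 0) (hw : β D w w = 0) {f : K →ₗ[F] K}
    (hf : InF D M w f) (a : K) : InF D M w (both (a * a) f) := by
  rcases eq_or_ne a 0 with rfl | ha
  · convert InF.zero D (M := M) w
    ext k
    simp [both_apply]
  obtain ⟨p, hp⟩ := exists_pair D hw0 hw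
  obtain ⟨g, hg, hgw, -, -, hgl⟩ := exists_torus D hM hp ha
  refine InF.map D hw hg ?_ hgl hf
  have := hgw 1
  rwa [one_smul, mul_one] at this

theorem exists_half : ∀ _ : Data K Q, ∃ N : ℕ, ((N : F) * 4 = 1) := fun D => by
  obtain ⟨m, hm⟩ : Odd (Fintype.card F) := Nat.odd_iff.2
    (FiniteField.odd_card_of_char_ne_two fun hc => D.h2 (by
      have : CharP F 2 := hc ▸ ringChar.charP F
      exact CharTwo.two_eq_zero))
  have h0 : ((Fintype.card F : ℕ) : F) = 0 := FiniteField.cast_card_eq_zero F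
  rw [hm] at h0
  push_cast at h0
  exact ⟨(m + 1) * (m + 1), by push_cast; linear_combination (2 * (m : F) + 3) * h0⟩

/-- the odd part of the scaling by the square of `1 + t y` -/
theorem InF.quartic (hM : LinM (K := K) M) {w : Vec} (hw0 : w ≠ 0) (hw : β D w w = 0) {f : K →ₗ[F] K}
    (hf : InF D M w f) (t : F) (y : K) :
    InF D M w (t • sym 1 y f + (t * t * t) • both y (sym 1 y f)) := by
  set T : K := algebraMap F K t with hT
  have h1 := InF.both_sq D hM hw0 hw hf (1 + T * y)
  have h2 := (InF.both_sq D hM hw0 hw hf (1 - T * y)).neg D hw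
  obtain ⟨N, hN⟩ := exists_half D
  have h3 := InF.add D hw h1 h2
  have hsum : ∀ n : ℕ, InF D M w (n • (both ((1 + T * y) * (1 + T * y)) f + -both ((1 - T * y) * (1 - T * y)) f)) := by
    intro n
    induction n with
    | zero => rw [zero_nsmul]; exact InF.zero D w
    | succ n ih => rw [succ_nsmul]; exact InF.add D hw ih h3
  convert hsum N using 1
  refine LinearMap.ext fun k => ?_
  have hexp : ∀ u : F, ∀ k, f ((1 + algebraMap F K u * y) * (1 + algebraMap F K u * y) * k) =
      f k + (2 * algebraMap F K u) * f (y * k) + algebraMap F K u * algebraMap F K u * f (y * y * k) := by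
    intro u k
    have e : (1 + algebraMap F K u * y) * (1 + algebraMap F K u * y) * k =
        k + (u + u) • (y * k) + (u * u) • (y * y * k) := by
      simp only [Algebra.smul_def, map_add, map_mul]; ring
    rw [e, map_add, map_add, map_smul, map_smul]
    simp only [Algebra.smul_def, map_add, map_mul]
    ring
  have e1 := hexp t k
  have e2 := hexp (-t) k
  rw [map_neg, neg_mul, ← sub_eq_add_neg] at e2
  rw [← Nat.cast_smul_eq_nsmul F]
  simp only [LinearMap.add_apply, LinearMap.smul_apply, LinearMap.neg_apply, both_apply, sym_apply]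
  simp only [e1, e2, one_mul, Algebra.smul_def, map_mul, hT, mul_assoc y y k]
  have hN' : algebraMap F K (N : F) * 4 = 1 := by
    rw [← map_ofNat (algebraMap F K) 4, ← map_mul, hN, map_one]
  linear_combination (-(algebraMap F K t * (f (y * k) + y * f k) + algebraMap F K t * algebraMap F K t *
    algebraMap F K t * (y * f (y * (y * k)) + y * (y * f (y * k))))) * hN'

include D in
/-- the scalings used are injective -/
theorem ops_injective (hr3 : Module.finrank F K ≠ 2) {y : K} (hy : y ≠ 0) (h1 : y * y ≠ 1) (hm1 : y * y ≠ -1) :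
    (∀ f : K →ₗ[F] K, sym 1 y f = 0 → f = 0) ∧ (∀ f : K →ₗ[F] K, f + both y f = 0 → f = 0) ∧
      ∀ f : K →ₗ[F] K, both y f - both (y * y) f = 0 → f = 0 := by
  have key : ∀ {f : K →ₗ[F] K} {d : K}, (∀ k, f (y * k) = d * f k) → (∀ e : K ≃ₐ[F] K, e y = d → e d = y) →
      d ≠ y → f = 0 := by
    intro f d h he hne
    by_contra hf
    obtain ⟨e, hey⟩ := exists_aut hf h
    exact hne (hey.symm.trans (aut_inv D hr3 e (by rw [hey]; exact he e hey)))
  refine ⟨fun f hf => key (d := -y) (fun k => ?_) (fun e h => by rw [map_neg, h, neg_neg]) ?_,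
    fun f hf => key (d := -y⁻¹) (fun k => ?_) (fun e h => by rw [map_neg, map_inv₀, h]; field_simp) ?_,
    fun f hf => key (d := y⁻¹) (fun k => ?_) (fun e h => by rw [map_inv₀, h, inv_inv]) ?_⟩
  · have := LinearMap.congr_fun hf k
    simp only [sym_apply, one_mul, LinearMap.zero_apply] at this
    linear_combination this
  · intro e
    exact hy (by
      have : (2 : K) * y = 0 := by linear_combination -e
      exact (mul_eq_zero.1 this).resolve_left (two_ne D))
  · have := LinearMap.congr_fun hf k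
    simp only [LinearMap.add_apply, both_apply, LinearMap.zero_apply] at this
    field_simp
    linear_combination this
  · intro e
    refine hm1 ?_
    field_simp at e
    linear_combination -e
  · have := LinearMap.congr_fun hf (k / y)
    simp only [LinearMap.sub_apply, both_apply, LinearMap.zero_apply, mul_div_cancel₀ _ hy, mul_assoc y y,
      sub_eq_zero] at this
    field_simp
    have := mul_left_cancel₀ hy this
    linear_combination -this
  · intro e
    refine h1 ?_
    field_simp at e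
    linear_combination -e

include D in
theorem exists_generic (hr5 : 3 ≤ Module.finrank F K) :
    ∃ a : K, a ≠ 0 ∧ a * a * (a * a) ≠ 1 ∧ a * a * (a * a) ≠ -1 ∧ a * a * (a * a) * (a * a * (a * a)) ≠ 1 ∧
      a * a * (a * a) * (a * a * (a * a)) ≠ -1 := by
  obtain ⟨a, ha⟩ := exists_avoid D hr5 (Polynomial.X ^ 17 - Polynomial.X)
    (fun h => by simpa [Polynomial.coeff_X] using congrArg (Polynomial.coeff · 17) h) (lt_of_le_of_lt (b := 17) (by compute_degree) (by norm_num))
  simp only [Polynomial.eval_sub, Polynomial.eval_pow, Polynomial.eval_X] at ha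
  have h16 : a ^ 16 ≠ 1 := fun e => ha (by rw [pow_succ, e, one_mul, sub_self])
  refine ⟨a, fun e => ha (by rw [e]; simp), fun e => h16 ?_, fun e => h16 ?_, fun e => h16 ?_, fun e => h16 ?_⟩
  · calc a ^ 16 = (a * a * (a * a)) ^ 4 := by ring
      _ = 1 := by rw [e, one_pow]
  · calc a ^ 16 = (a * a * (a * a)) ^ 4 := by ring
      _ = 1 := by rw [e]; ring
  · calc a ^ 16 = (a * a * (a * a) * (a * a * (a * a))) ^ 2 := by ring
      _ = 1 := by rw [e, one_pow]
  · calc a ^ 16 = (a * a * (a * a) * (a * a * (a * a))) ^ 2 := by ring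
      _ = 1 := by rw [e]; ring

/-- scalars of the small field act -/
theorem InF.smul (hM : LinM (K := K) M) (hr5 : 3 ≤ Module.finrank F K) {w : Vec} (hw0 : w ≠ 0) (hw : β D w w = 0)
    {f : K →ₗ[F] K} (hf : InF D M w f) (t : F) : InF D M w (t • f) := by
  haveI : Finite K := Module.finite_of_finite F
  haveI : Finite (K →ₗ[F] K) := Finite.of_injective (fun g : K →ₗ[F] K => (g : K → K)) DFunLike.coe_injective
  have hr3 : Module.finrank F K ≠ 2 := by omega
  have hadd : ∀ {g h}, InF D M w g → InF D M w h → InF D M w (g + h) := fun hg hh => InF.add D hw hg hh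
  have hsub : ∀ {g h}, InF D M w g → InF D M w h → InF D M w (g - h) := fun hg hh => by
    rw [sub_eq_add_neg]; exact hadd hg (InF.neg D hw hh)
  have surj : ∀ Ψ : (K →ₗ[F] K) →ₗ[F] (K →ₗ[F] K), (∀ g, InF D M w g → InF D M w (Ψ g)) →
      (∀ g, Ψ g = 0 → g = 0) → ∀ g, InF D M w g → ∃ g', InF D M w g' ∧ Ψ g' = g := by
    intro Ψ hmem hinj g hg
    have hi : Function.Injective fun x : {g // InF D M w g} => (⟨Ψ x.1, hmem _ x.2⟩ : {g // InF D M w g}) :=
      fun x y e => Subtype.ext (sub_eq_zero.1 (hinj _ (by rw [map_sub, sub_eq_zero]; exact congrArg Subtype.val e)))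
    obtain ⟨x, hx⟩ := Finite.injective_iff_surjective.1 hi ⟨g, hg⟩
    exact ⟨x.1, x.2, congrArg Subtype.val hx⟩
  -- for a square both terms separate
  have hV : ∀ y : K, (∃ a, y = a * a) → y ≠ 0 → y * y ≠ 1 → y * y ≠ -1 → ∀ g, InF D M w g → ∀ t : F,
      InF D M w (t • g + (t * t * t) • both y g) := by
    rintro y ⟨a, hya⟩ hy h1 hm1 g hg t
    obtain ⟨iU, iJ, -⟩ := ops_injective D hr3 hy h1 hm1
    have hY : ∀ g, InF D M w g → InF D M w (both y g) := fun g hg => hya ▸ InF.both_sq D hM hw0 hw hg a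
    have hU : ∀ g, InF D M w g → InF D M w (sym 1 y g) := fun g hg => by
      obtain ⟨g', hg', e⟩ := surj (LinearMap.id + both y) (fun g hg => hadd hg (hY g hg)) iJ _
        (InF.quartic D hM hw0 hw hg 1 y)
      simp only [one_smul, mul_one, LinearMap.add_apply, LinearMap.id_apply] at e
      have : g' - sym 1 y g = 0 := iJ _ (by rw [map_sub, ← sub_eq_zero.2 e]; abel)
      exact sub_eq_zero.1 this ▸ hg'
    obtain ⟨g', hg', rfl⟩ := surj (sym 1 y) hU iU g hg
    exact InF.quartic D hM hw0 hw hg' t y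
  obtain ⟨a, ha, ha1, ha1', ha2, ha2'⟩ := exists_generic D hr5
  obtain ⟨iU, iJ, iY⟩ := ops_injective D hr3 (mul_ne_zero ha ha) ha1 ha1'
  have hY : ∀ x : K, ∀ g, InF D M w g → InF D M w (both (x * x) g) := fun x g hg => InF.both_sq D hM hw0 hw hg x
  obtain ⟨g', hg', e⟩ := surj (both (a * a) - both (a * a * (a * a)))
    (fun g hg => by rw [LinearMap.sub_apply]; exact hsub (hY a g hg) (hY (a * a) g hg)) iY f hf
  have h3 : InF D M w ((t * t * t) • f) := by
    have := hsub (hV _ ⟨a, rfl⟩ (mul_ne_zero ha ha) ha1 ha1' g' hg' t)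
      (hV _ ⟨a * a, rfl⟩ (mul_ne_zero (mul_ne_zero ha ha) (mul_ne_zero ha ha)) ha2 ha2' g' hg' t)
    rw [← e, LinearMap.sub_apply, smul_sub]
    rwa [add_sub_add_left_eq_sub] at this
  have h1 := hV _ ⟨a, rfl⟩ (mul_ne_zero ha ha) ha1 ha1' f hf t
  have h4 := hY a _ h3
  rw [map_smul] at h4
  have := hsub h1 h4
  rwa [add_sub_cancel_right] at this

theorem InF.both_any (hM : LinM (K := K) M) (hr5 : 3 ≤ Module.finrank F K) {w : Vec} (hw0 : w ≠ 0)
    (hw : β D w w = 0) {f : K →ₗ[F] K} (hf : InF D M w f) (x : K) : InF D M w (both x f) := by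
  obtain ⟨s, hs, y, hy⟩ := exists_square_scaled D (by omega) x
  convert InF.smul D hM hr5 hw0 hw (InF.both_sq D hM hw0 hw hf y) (s⁻¹ * s⁻¹) using 1
  ext k
  rw [LinearMap.smul_apply, both_apply, both_apply, ← hy, smul_mul_assoc, smul_mul_assoc, map_smul, mul_smul_comm,
    smul_smul, smul_smul, show s⁻¹ * s⁻¹ * s * s = 1 by field_simp, one_smul]

theorem InF.sym (hM : LinM (K := K) M) (hr5 : 3 ≤ Module.finrank F K) {w : Vec} (hw0 : w ≠ 0) (hw : β D w w = 0)
    {f : K →ₗ[F] K} (hf : InF D M w f) (x z : K) : InF D M w (Rank3.sym x z f) := by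
  convert InF.add D hw (InF.both_any D hM hr5 hw0 hw hf (x + z))
    (InF.neg D hw (InF.add D hw (InF.both_any D hM hr5 hw0 hw hf x) (InF.both_any D hM hr5 hw0 hw hf z))) using 1
  ext k
  simp [both_apply, sym_apply, add_mul]
  ring

/-- the values at one scalar fill its orthogonal -/
theorem exists_apply_eq (hM : LinM (K := K) M) (hr5 : 3 ≤ Module.finrank F K) {w : Vec} (hw0 : w ≠ 0)
    (hw : β D w w = 0) {f : K →ₗ[F] K} (hf : InF D M w f) (hf0 : f ≠ 0) {a : K} (ha : a ≠ 0) {u : K}
    (hu : D.χ (a * u) = 0) : ∃ g, InF D M w g ∧ g a = u := by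
  let V : Submodule F K :=
    { carrier := {u | ∃ g, InF D M w g ∧ g a = u}
      zero_mem' := ⟨0, InF.zero D w, rfl⟩
      add_mem' := by
        rintro _ _ ⟨g, hg, rfl⟩ ⟨g', hg', rfl⟩
        exact ⟨g + g', InF.add D hw hg hg', rfl⟩
      smul_mem' := by
        rintro s _ ⟨g, hg, rfl⟩
        exact ⟨s • g, InF.smul D hM hr5 hw0 hw hg s, rfl⟩ }
  by_contra hc
  have hVu : u ∉ V := hc
  obtain ⟨ψ, hψu, hψV⟩ := Submodule.exists_dual_map_eq_bot_of_notMem hVu inferInstance
  obtain ⟨b, hb⟩ := exists_dual D ψ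
  have hb0 : ∀ g, InF D M w g → D.χ (b * g a) = 0 := fun g hg => by
    have : ψ (g a) ∈ V.map ψ := Submodule.mem_map_of_mem ⟨g, hg, rfl⟩
    rw [hψV, Submodule.mem_bot, hb] at this
    exact this
  have hcomm : ∀ z, b * f (z * a) = a * f (b * z) := fun z => chi_ext D fun x => by
    have h1 := hb0 _ (InF.sym D hM hr5 hw0 hw hf x z)
    rw [sym_apply, mul_add, map_add] at h1
    have h2 := InF.skew D hw0 hw hf (x * a) (b * z)
    rw [show b * (x * f (z * a)) = x * (b * f (z * a)) by ring,
      show b * (z * f (x * a)) = f (x * a) * (b * z) by ring] at h1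
    rw [show x * a * f (b * z) = x * (a * f (b * z)) by ring] at h2
    linear_combination h1 - h2
  have hlin : ∀ k, f (b / a * k) = b / a * f k := fun k => by
    have := hcomm (k / a)
    rw [div_mul_cancel₀ _ ha, show b * (k / a) = b / a * k by ring] at this
    field_simp at this ⊢
    linear_combination -this
  by_cases hs : ∃ s : F, b / a = algebraMap F K s
  · obtain ⟨s, hs⟩ := hs
    apply hψu
    rw [hb, show b = algebraMap F K s * a by rw [← hs, div_mul_cancel₀ _ ha], mul_assoc, ← Algebra.smul_def, map_smul,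
      hu, smul_zero]
  · push Not at hs
    have hlin' := linear_of_commute D.hr hs hlin
    refine hf0 (LinearMap.ext fun k => ?_)
    rw [hlin' k, LinearMap.zero_apply]
    have : f 1 = 0 := chi_ext D fun l => by
      have h := InF.skew D hw0 hw hf 1 l
      rw [hlin' l, one_mul, mul_comm (f 1) l, ← two_mul] at h
      rw [mul_zero, map_zero]
      exact (mul_eq_zero.1 h).resolve_left D.h2
    rw [this, mul_zero]

end Cfsg.Agent.Forms.Max.OrthExtField.Rank3
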