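import Mathlib
import Cfsg.Agent.Lib.Forms.Max.OrthExtField.Rank3.Closure

/-!
# With a non-trivial radical element, a maximal pair has a good image and gives a root element
-/

set_option autoImplicit false
set_option linter.unusedSectionVars false

namespace Cfsg.Agent.Forms.Max.OrthExtField.Rank3

open Matrix Cfsg.Agent.Forms.QuadStd Cfsg.Agent.Forms.Reflections Cfsg.Agent.Classical.Orth
open Cfsg.Agent.Forms.Max.OrthBlocks (Dir)

variable {F : Type*} [Field F] [Fintype F] {ι : Type} [Fintype ι] [DecidableEq ι]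
variable {K : Type*} [Field K] [Algebra F K] [FiniteDimensional F K]
variable [Module K (ι → F)] [IsScalarTower F K (ι → F)]
variable {Q : QuadraticForm F (ι → F)}

local notation "Vec" => (ι → F)
local notation "B" => QuadraticMap.polar Q
set_option quotPrecheck false in
local notation "Iso" => Cfsg.isometryGroup F ⇑Q

variable (D : Data K Q) {M : Subgroup (Cfsg.isometryGroup F ⇑Q)}

theorem inF_everywhere (hM : LinM (K := K) M) {w : Vec} (hw0 : w ≠ 0) (hw : β D w w = 0) {f : K →ₗ[F] K}
    (hf : InF D M w f) (hf0 : f ≠ 0) {v : Vec} (hv0 : v ≠ 0) (hv : β D v v = 0) : ∃ g, g ≠ 0 ∧ InF D M v g := by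
  obtain ⟨g, hg, c, hc, hgw, hgl⟩ := exists_move D hM hw0 hw hv0 hv
  refine ⟨both c f, fun e => hf0 (LinearMap.ext fun k => ?_), InF.map D hv hg hgw hgl hf⟩
  have := LinearMap.congr_fun e (k / c)
  rw [both_apply, mul_div_cancel₀ _ hc, LinearMap.zero_apply] at this
  exact (mul_eq_zero.1 this).resolve_left hc

theorem exists_maxPair (hM : LinM (K := K) M) (hr3 : Module.finrank F K ≠ 2) {w : Vec} (hw0 : w ≠ 0)
    (hw : β D w w = 0) {f : K →ₗ[F] K} (hf : InF D M w f) (hf0 : f ≠ 0) : ∃ g v v', MaxPair D M g v v' := by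
  classical
  obtain ⟨p, hp⟩ := exists_pair D hw0 hw
  obtain ⟨m, hm, hmx⟩ := id hf
  have hp0 : p ≠ 0 := (HPair.symm D hp).ne D
  have hmp : ∀ k : K, act m (k • p) = k • p + f k • w := fun k => by rw [hmx]; simp [hp.pw D]
  have hker : LinearMap.ker f ≠ ⊥ := by
    intro hk
    have hdet : LinearMap.det f = 0 := by
      set e := dual D
      have h1 : f.dualMap = (-1 : F) • ((e : K →ₗ[F] Module.Dual F K).comp (f.comp (e.symm : Module.Dual F K →ₗ[F] K))) := by
        refine LinearMap.ext fun φ => LinearMap.ext fun l => ?_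
        obtain ⟨k, rfl⟩ := e.surjective φ
        simp only [LinearMap.dualMap_apply, LinearMap.smul_apply, LinearMap.comp_apply, LinearEquiv.coe_coe,
          LinearEquiv.symm_apply_apply, e, dual_apply, smul_eq_mul]
        linear_combination InF.skew D hw0 hw hf k l
      have h2 := congrArg LinearMap.det h1
      rw [LinearMap.det_smul, LinearMap.det_conj, Subspace.dual_finrank_eq, LinearMap.det_dualMap] at h2
      obtain ⟨n, hn⟩ := D.hr.odd_of_ne_two hr3
      rw [hn, pow_succ, pow_mul] at h2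
      norm_num at h2
      have : (2 : F) * LinearMap.det f = 0 := by linear_combination h2
      exact (mul_eq_zero.1 this).resolve_left D.h2
    exact LinearMap.bot_lt_ker_of_det_eq_zero hdet |>.ne' hk
  have hle : LinearMap.ker f ≤ sect K m p p := fun k hk =>
    mem_sect.2 ⟨k, by rw [hmp, show f k = 0 from hk, zero_smul, add_zero]⟩
  have hpair : Pair D M m p p := ⟨hm, hp0, hp.2.1, hp0, hp.2.1, fun e => hf0 (LinearMap.ext fun k => by
    obtain ⟨t, ht⟩ := mem_sect.1 (e ▸ Submodule.mem_top : k ∈ sect K m p p)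
    have := congrArg (fun x => β D p x) ht
    simpa [hmp, hp.2.1, hp.pw D] using this.symm)⟩
  let P : ℕ → Prop := fun n => ∃ g' v v', Pair D M g' v v' ∧ Module.finrank F (sect K g' v v') = n
  obtain ⟨g₁, v, v', hp', he⟩ := Nat.findGreatest_spec (P := P) (Submodule.finrank_le (sect K m p p))
    ⟨m, p, p, hpair, rfl⟩
  have hmax : ∀ g'' u u', Pair D M g'' u u' →
      Module.finrank F (sect K g'' u u') ≤ Module.finrank F (sect K g₁ v v') :=
    fun g'' u u' h => he ▸ Nat.le_findGreatest (Submodule.finrank_le _) ⟨g'', u, u', h, rfl⟩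
  refine ⟨g₁, v, v', hp', fun h0 => ?_, hmax⟩
  have h1 := hmax _ _ _ hpair
  rw [h0, finrank_bot, Nat.le_zero, Submodule.finrank_eq_zero] at h1
  exact hker (le_bot_iff.1 (h1 ▸ hle))

/-- one orthogonal image vector makes all of them orthogonal -/
theorem image_perp_three (hM : LinM (K := K) M) (h3 : Module.finrank K Vec = 3) (hr5 : 5 ≤ Module.finrank F K)
    {g : Iso} {w w' : Vec} (hp : MaxPair D M g w w') {j : K} (hj : j ∉ sect K g w w')
    (hjw : β D (act g (j • w)) w' = 0) (i : K) : β D (act g (i • w)) w' = 0 := by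
  by_contra hai
  obtain ⟨hg, hw0, hw, hw'0, hw', htop⟩ := hp.1
  obtain ⟨p, c, hfr⟩ := exists_frame' D h3 hw'0 hw'
  set cs := cov K g w w' with hcs
  let ηm : K →ₗ[F] K := (((β D).flip c).restrictScalars F).comp (mv K g w)
  let cm : K →ₗ[F] K := (((β D).flip w').restrictScalars F).comp (mv K g w)
  have hci0 : cm i ≠ 0 := hai
  -- the basic relation
  have rel : ∀ (i : K) (j' : K), j' ∉ sect K g w w' → cm j' = 0 → ηm j' ≠ 0 ∧
      ∀ t, t * ηm j' ∈ cs → ∃ s : F, β D c c * t * cm i / ηm j' = algebraMap F K s := by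
    intro i j' hj' hjw'
    have hη : ηm j' ≠ 0 := fun e => hj' (mem_sect.2 ⟨β D (act g (j' • w)) p, by
      conv_rhs => rw [hfr.perp_coord (x := act g (j' • w)) hjw', show β D (act g (j' • w)) c = 0 from e, zero_div, zero_smul, add_zero]⟩)
    refine ⟨hη, fun t₀ ht₀ => ?_⟩
    -- squares of the admissible multipliers
    have hsq : ∀ t, t * ηm j' ∈ cs → β D c c * t * t * cm i ∈ cs := by
      intro t ht
      have hv : β D w' (t • c) = 0 := by simp [hfr.hwc]
      have hv' : β D w' ((-t) • c) = 0 := by simp [hfr.hwc]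
      obtain ⟨s₁, hs₁⟩ := preserves D hM hp hj' hjw' hv (by rw [map_smul]; exact ht) i
      obtain ⟨s₂, hs₂⟩ := preserves D hM hp hj' hjw' hv' (by
        rw [map_smul, smul_eq_mul, neg_mul]; exact neg_mem ht) i
      refine mem_cov.2 ⟨-(s₁ + s₂), ?_⟩
      rw [neg_smul, map_neg, add_smul, map_add, ← hs₁, ← hs₂, elin_apply, elin_apply]
      simp only [map_smul, map_neg, LinearMap.smul_apply, LinearMap.neg_apply, smul_eq_mul, neg_smul, neg_mul,
        mul_neg, neg_neg]
      rw [show β D (act g (i • w)) w' = cm i from rfl]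
      match_scalars
      all_goals first | (field_simp [two_ne D]; done) | (field_simp [two_ne D]; ring_nf; done) | (ring_nf; field_simp [two_ne D]; done)
    let X : Subalgebra F K :=
      { carrier := {x | ∀ t ∈ cs, x * t ∈ cs}
        mul_mem' := fun {x y} hx hy t ht => by rw [mul_assoc]; exact hx _ (hy t ht)
        one_mem' := fun t ht => by rwa [one_mul]
        add_mem' := fun {x y} hx hy t ht => by rw [add_mul]; exact add_mem (hx t ht) (hy t ht)
        zero_mem' := fun t _ => by rw [zero_mul]; exact zero_mem _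
        algebraMap_mem' := fun s t ht => by rw [← Algebra.smul_def]; exact Submodule.smul_mem _ s ht }
    have hX : X = ⊥ := by
      refine subalgebra_eq_bot (fun h => cov_ne_top D hp.1 (eq_top_iff.2 fun s _ => ?_)) D.hr
      obtain ⟨e, he, he0⟩ := (Submodule.ne_bot_iff _).1 (cov_ne_bot D hp)
      have := (h ▸ Algebra.mem_top : s / e ∈ X) e he
      rwa [div_mul_cancel₀ _ he0] at this
    have hmem : β D c c * t₀ * cm i / ηm j' ∈ X := fun u hu => by
      obtain ⟨t, rfl⟩ : ∃ t, u = t * ηm j' := ⟨u / ηm j', (div_mul_cancel₀ _ hη).symm⟩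
      have h1 := hsq (t₀ + t) (by rw [add_mul]; exact add_mem ht₀ hu)
      have h2 := sub_mem (sub_mem h1 (hsq t₀ ht₀)) (hsq t hu)
      have e : β D c c * (t₀ + t) * (t₀ + t) * cm i - β D c c * t₀ * t₀ * cm i - β D c c * t * t * cm i =
          (2 : F) • (β D c c * t₀ * cm i / ηm j' * (t * ηm j')) := by
        rw [Algebra.smul_def, map_ofNat]
        field_simp
        ring
      rw [e] at h2
      exact (Submodule.smul_mem_iff _ D.h2).1 h2
    rw [hX, Algebra.mem_bot] at hmem
    obtain ⟨s, hs⟩ := hmem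
    exact ⟨s, hs.symm⟩
  obtain ⟨hη, hrel⟩ := rel i j hj hjw
  obtain ⟨e, he, he0⟩ := (Submodule.ne_bot_iff _).1 (cov_ne_bot D hp)
  have hT : e / ηm j * ηm j ∈ cs := by rwa [div_mul_cancel₀ _ hη]
  obtain ⟨s₀, hs₀⟩ := hrel _ hT
  have hγ0 := hfr.hc
  have hs₀0 : s₀ ≠ 0 := fun h => by
    rw [h, map_zero] at hs₀
    simp only [div_eq_zero_iff, mul_eq_zero, hγ0, hci0, hη, he0, or_self] at hs₀
  -- the intersection is one-dimensional
  have hdim : Module.finrank F (sect K g w w') ≤ 1 := by
    rw [← finrank_cov hw0 hw'0]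
    refine (Submodule.finrank_mono (t := F ∙ e) fun u hu => ?_).trans (finrank_span_singleton he0).le
    obtain ⟨s, hs⟩ := hrel (u / ηm j) (by rwa [div_mul_cancel₀ _ hη])
    refine Submodule.mem_span_singleton.2 ⟨s / s₀, ?_⟩
    have h1 : (algebraMap F K s₀) ≠ 0 := (map_ne_zero _).2 hs₀0
    rw [Algebra.smul_def, map_div₀, ← hs, ← hs₀]
    field_simp
  -- the scalars with orthogonal image
  have hcm : Module.finrank F (LinearMap.range cm) ≤ 1 := by
    have hci' : ∀ k, cm k ∈ F ∙ cm i := by
      intro k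
      by_cases hk : cm k = 0
      · rw [hk]; exact zero_mem _
      -- the same relation with `k` in place of `i`
      obtain ⟨s, hs⟩ := (rel k j hj hjw).2 _ hT
      refine Submodule.mem_span_singleton.2 ⟨s / s₀, ?_⟩
      rw [Algebra.smul_def, map_div₀, ← hs, ← hs₀]
      field_simp
    exact (Submodule.finrank_mono (by rintro _ ⟨k, rfl⟩; exact hci' k)).trans (finrank_span_singleton hci0).le
  have hsub : ∀ k ∈ LinearMap.ker cm, ηm k ∈ F ∙ ηm j := by
    intro k hk
    by_cases hks : k ∈ sect K g w w'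
    · obtain ⟨t, ht⟩ := mem_sect.1 hks
      have : ηm k = 0 := by
        show β D (act g (k • w)) c = 0
        rw [← ht]; simp [hfr.hwc]
      rw [this]; exact zero_mem _
    obtain ⟨hη', hrel'⟩ := rel i k hks hk
    obtain ⟨s₁, hs₁⟩ := hrel' (e / ηm k) (by rwa [div_mul_cancel₀ _ hη'])
    obtain ⟨r₁, hr₁⟩ := sqrt_mem D (by omega) (x := ηm j / ηm k) (s := s₁ / s₀) (by
      rw [map_div₀, ← hs₁, ← hs₀]
      field_simp)
    have hr0 : r₁ ≠ 0 := fun h => by
      rw [h, map_zero, div_eq_zero_iff] at hr₁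
      exact hr₁.elim hη hη'
    refine Submodule.mem_span_singleton.2 ⟨r₁⁻¹, ?_⟩
    rw [Algebra.smul_def, map_inv₀, ← hr₁]
    field_simp
  let ηk := ηm.domRestrict (LinearMap.ker cm)
  have hker : Submodule.map (LinearMap.ker cm).subtype (LinearMap.ker ηk) ≤ sect K g w w' := by
    rintro _ ⟨⟨k, hk⟩, hk', rfl⟩
    refine mem_sect.2 ⟨β D (act g (k • w)) p, ?_⟩
    show _ = act g (k • w)
    conv_rhs => rw [hfr.perp_coord (show β D (act g (k • w)) w' = 0 from hk),
      show β D (act g (k • w)) c = 0 from hk', zero_div, zero_smul, add_zero]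
  have a1 := Submodule.finrank_mono hker
  rw [Submodule.finrank_map_subtype_eq] at a1
  have a2 := ηk.finrank_range_add_finrank_ker
  have a3 : Module.finrank F (LinearMap.range ηk) ≤ 1 := by
    refine (Submodule.finrank_mono ?_).trans (finrank_span_singleton hη).le
    rintro _ ⟨⟨k, hk⟩, rfl⟩
    exact hsub k hk
  have a4 := cm.finrank_range_add_finrank_ker
  omega

end Cfsg.Agent.Forms.Max.OrthExtField.Rank3
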