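import Mathlib
import Cfsg.Agent.Lib.Forms.Max.OrthExtField.Rank3.Good

/-!
# A root element from a radical element
-/

set_option autoImplicit false
set_option linter.unusedSectionVars false

namespace Cfsg.Agent.Forms.Max.OrthExtField.Rank3

open Matrix Cfsg.Agent.Forms.QuadStd Cfsg.Agent.Forms.Reflections Cfsg.Agent.Classical.Orth
open Cfsg.Agent.Forms.Max.OrthBlocks (Dir)

set_option maxHeartbeats 1000000

variable {F : Type*} [Field F] [Fintype F] {ι : Type} [Fintype ι] [DecidableEq ι]
variable {K : Type*} [Field K] [Algebra F K] [FiniteDimensional F K]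
variable [Module K (ι → F)] [IsScalarTower F K (ι → F)]
variable {Q : QuadraticForm F (ι → F)}

local notation "Vec" => (ι → F)
local notation "B" => QuadraticMap.polar Q
set_option quotPrecheck false in
local notation "Iso" => Cfsg.isometryGroup F ⇑Q

variable (D : Data K Q) {M : Subgroup (Cfsg.isometryGroup F ⇑Q)}

/-- some maximal pair has its image in the orthogonal of the line -/
theorem exists_good_three (hM : LinM (K := K) M) (h3 : Module.finrank K Vec = 3) (hr5 : 5 ≤ Module.finrank F K)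
    {g : Iso} {w w' : Vec} (hp : MaxPair D M g w w') {f : K →ₗ[F] K} (hf : InF D M w' f) (hf0 : f ≠ 0) :
    ∃ g' w₁ w₁', MaxPair D M g' w₁ w₁' ∧ ∀ i : K, β D (act g' (i • w₁)) w₁' = 0 := by
  classical
  by_cases h0 : ∃ j, j ∉ sect K g w w' ∧ β D (act g (j • w)) w' = 0
  · obtain ⟨j, hj, hjw⟩ := h0
    exact ⟨g, w, w', hp, image_perp_three D hM h3 hr5 hp hj hjw⟩
  push Not at h0
  obtain ⟨hg, hw0, hw, hw'0, hw', htop⟩ := hp.1
  obtain ⟨j, hj⟩ : ∃ j, j ∉ sect K g w w' := by
    by_contra hc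
    push Not at hc
    exact htop (eq_top_iff.2 fun k _ => hc k)
  obtain ⟨p, c, hfr⟩ := exists_frame' D h3 hw'0 hw'
  set γ := β D c c with hγ
  have hγ0 : γ ≠ 0 := hfr.hc
  let am : K →ₗ[F] K := (((β D).flip w').restrictScalars F).comp (mv K g w)
  let bm : K →ₗ[F] K := ((γ⁻¹ • (β D).flip c).restrictScalars F).comp (mv K g w)
  let zm : K →ₗ[F] K := (((β D).flip p).restrictScalars F).comp (mv K g w)
  have hexp : ∀ i, act g (i • w) = zm i • w' + bm i • c + am i • p := fun i => hfr.ext rfl (by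
    show _ = γ⁻¹ * β D (act g (i • w)) c * γ
    rw [mul_comm γ⁻¹, inv_mul_cancel_right₀ hγ0]) rfl
  set a := am j with ha
  have ha0 : a ≠ 0 := h0 j hj
  -- the multiplier
  obtain ⟨t, ht0, ht⟩ : ∃ t : K, t ≠ 0 ∧ D.χ (γ * a * a / 2 * (t * t)) = 0 := by
    let φ : K →ₗ[F] F := D.χ.comp (LinearMap.mulLeft F (γ * a * a / 2))
    obtain ⟨z, hz, hz0⟩ := (Submodule.ne_bot_iff _).1 (show LinearMap.ker φ ≠ ⊥ from fun h => by
      have h1 := φ.finrank_range_add_finrank_ker
      have h2 := Submodule.finrank_le (LinearMap.range φ)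
      rw [Module.finrank_self] at h2
      rw [h, finrank_bot] at h1
      omega)
    obtain ⟨s, hs, t, hst⟩ := exists_square_scaled D (by omega) z
    refine ⟨t, fun e => ?_, ?_⟩
    · rw [e, zero_mul, smul_eq_zero] at hst
      exact hst.elim hs hz0
    · rw [← hst, mul_smul_comm, map_smul, show D.χ (γ * a * a / 2 * z) = 0 from hz, smul_zero]
  -- what the radical has to cancel
  let ℓ : K →ₗ[F] F := D.χ.comp ((LinearMap.mulLeft F (-(γ * t * bm j) - γ * t * t * a / 2)).comp am +
    (LinearMap.mulLeft F (γ * t * a)).comp bm)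
  have hsect : ∀ k, am k = 0 → ℓ k = 0 := by
    intro k hk
    have hks : k ∈ sect K g w w' := by
      by_contra hn
      exact h0 k hn hk
    obtain ⟨u, hu⟩ := mem_sect.1 hks
    have hb : bm k = 0 := by
      show γ⁻¹ * β D (act g (k • w)) c = 0
      rw [← hu]; simp [hfr.hwc]
    simp [ℓ, hk, hb]
  obtain ⟨ψ, hψ⟩ : ∃ ψ : K →ₗ[F] F, ψ.comp am = ℓ := by
    have h1 : ℓ ∈ LinearMap.range am.dualMap := by
      rw [LinearMap.range_dualMap_eq_dualAnnihilator_ker, Submodule.mem_dualAnnihilator]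
      exact hsect
    obtain ⟨ψ, hψ⟩ := h1
    exact ⟨ψ, hψ⟩
  obtain ⟨u, hu⟩ := exists_dual D ψ
  have hψ' : ∀ k, D.χ (u * am k) = ℓ k := fun k => by rw [← hu, ← hψ]; rfl
  have hdiag : D.χ (a * (-u)) = 0 := by
    rw [mul_neg, map_neg, mul_comm, hψ' j, ← ht]
    simp only [ℓ, LinearMap.comp_apply, LinearMap.add_apply, LinearMap.mulLeft_apply, ← ha, ← map_neg, neg_neg]
    congr 1
    ring
  obtain ⟨f', hf', hf'a⟩ := exists_apply_eq D hM (by omega) hw'0 hw' hf hf0 ha0 hdiag
  obtain ⟨mF, hmF, hmFx⟩ := hf'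
  obtain ⟨e, he, hex⟩ := exists_elin D hM hfr t
  set h := g⁻¹ * (e * mF) * g with hh'
  have hh : h ∈ M := mul_mem (mul_mem (inv_mem hg) (mul_mem he hmF)) hg
  have hhx : ∀ x, act g (act h x) = act e (act mF (act g x)) := fun x => by
    rw [hh', act_mul, act_mul, act_mul, act_cancel_inv]
  have himg : ∀ i, act g (act h (i • w)) =
      (zm i + f' (am i) - γ * t * bm i - γ * t * t / 2 * am i) • w' + (bm i + t * am i) • c + am i • p := fun i => by
    rw [hhx, hmFx, hex]
    have : act g (i • w) + f' (β D (act g (i • w)) w') • w' = (zm i + f' (am i)) • w' + bm i • c + am i • p := by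
      rw [show β D (act g (i • w)) w' = am i from rfl, hexp i]; module
    rw [this, hfr.elin_coord, ← hγ]
  have hfix : ∀ k ∈ sect K g w w', act h (k • w) = k • w := fun k hk => by
    obtain ⟨u, hu⟩ := mem_sect.1 hk
    refine act_injective g ?_
    rw [hhx, hmFx, hex, ← hu, elin_apply]
    simp [hw', hfr.hwc]
  -- the image of `j` is orthogonal to the line
  have hperp : β D (act h (j • w)) w = 0 := by
    rw [perp_iff D]
    intro i
    rw [← act_polar g, himg j, ← ha, hf'a]
    have h0' : B (act g (j • w)) (act g (i • w)) = 0 := by rw [act_polar, B_eq D]; simp [hw]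
    rw [hexp i] at h0' ⊢
    rw [hexp j] at h0'
    have hβ : ∀ z b a z' b' a' : K, β D (z • w' + b • c + a • p) (z' • w' + b' • c + a' • p) =
        z * a' + γ * (b * b') + a * z' := fun z b a z' b' a' => by
      simp [hfr.hp.1, hfr.hp.2.1, hfr.hp.2.2, hfr.hp.pw D, hfr.hwc, hfr.hpc, β_comm D c w', β_comm D c p, ← hγ]
      ring
    rw [B_eq D, hβ] at h0' ⊢
    rw [← ha] at h0'
    have h1 := hψ' i
    simp only [ℓ, LinearMap.comp_apply, LinearMap.add_apply, LinearMap.mulLeft_apply] at h1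
    have key : ∀ X Y : K, X - Y = -(u * am i) + ((-(γ * t * bm j) - γ * t * t * a / 2) * am i + γ * t * a * bm i) →
        D.χ Y = 0 → D.χ X = 0 := fun X Y e hY => by
      have := congrArg D.χ e
      rw [map_sub, map_add, map_neg, hY, sub_zero, h1] at this
      rw [this, ← sub_eq_neg_add, sub_self]
    refine key _ _ ?_ h0'
    ring
  -- the conjugate moves the line
  have hmv : ∀ v : K, act h (j • w) ≠ v • w := by
    intro v hv
    obtain ⟨v', hv'⟩ := grow D hp hh hfix hj hv j
    have e1 := congrArg (act g) hv'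
    rw [himg, hexp v'] at e1
    have ec := congrArg (fun x => β D x w') e1
    have eb := congrArg (fun x => β D x c) e1
    simp only [(hfr.coord _ _ _).2.2] at ec
    simp only [(hfr.coord _ _ _).2.1] at eb
    have eb' := mul_right_cancel₀ hfr.hc eb
    have hd : j - v' ∈ sect K g w w' := by
      by_contra hn
      refine h0 _ hn ?_
      show am (j - v') = 0
      rw [map_sub, ec, sub_self]
    obtain ⟨s, hs⟩ := mem_sect.1 hd
    have : bm (j - v') = 0 := by
      show γ⁻¹ * β D (act g ((j - v') • w)) c = 0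
      rw [← hs]; simp [hfr.hwc]
    rw [map_sub, ← eb', sub_eq_zero, left_eq_add, ← ha] at this
    exact (mul_eq_zero.1 this).elim ht0 ha0
  have hpair : Pair D M h w w := ⟨hh, hw0, hw, hw0, hw, fun e => by
    obtain ⟨t, ht⟩ := mem_sect.1 (e ▸ Submodule.mem_top : j ∈ sect K h w w)
    exact hmv t ht.symm⟩
  have hle : sect K g w w' ≤ sect K h w w := fun k hk => mem_sect.2 ⟨k, (hfix k hk).symm⟩
  have hmp : MaxPair D M h w w := ⟨hpair, fun e => hp.2.1 (le_bot_iff.1 (e ▸ hle)),
    fun g' u u' hu => (hp.2.2 g' u u' hu).trans (Submodule.finrank_mono hle)⟩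
  exact ⟨h, w, w, hmp, image_perp_three D hM h3 hr5 hmp (j := j) (fun hj' => by
    obtain ⟨t, ht⟩ := mem_sect.1 hj'
    exact hmv t ht.symm) hperp⟩

/-- the skew maps -/
noncomputable def skewSub : Submodule F (K →ₗ[F] K) where
  carrier := {h | ∀ k l, D.χ (h k * l) + D.χ (k * h l) = 0}
  zero_mem' := fun k l => by simp
  add_mem' := fun {a b} ha hb k l => by
    simp only [LinearMap.add_apply, add_mul, mul_add, map_add]
    linear_combination ha k l + hb k l
  smul_mem' := fun s a ha k l => by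
    simp only [LinearMap.smul_apply, smul_mul_assoc, mul_smul_comm, map_smul, smul_eq_mul]
    linear_combination s * ha k l

theorem mem_skewSub {h : K →ₗ[F] K} : h ∈ skewSub D ↔ ∀ k l, D.χ (h k * l) + D.χ (k * h l) = 0 := Iff.rfl

theorem finrank_skewSub (hr : Module.finrank F K = 3) : Module.finrank F (skewSub D) ≤ 3 := by
  let e := Module.finBasisOfFinrankEq F K hr
  let ψ : (K →ₗ[F] K) →ₗ[F] (Fin 3 → F) :=
    { toFun := fun h i => D.χ (h (e i) * e (i + 1))
      map_add' := fun x y => funext fun i => by simp [add_mul]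
      map_smul' := fun c x => funext fun i => by simp }
  have hinf : skewSub D ⊓ LinearMap.ker ψ = ⊥ := by
    rw [Submodule.eq_bot_iff]
    rintro h ⟨hS, hh⟩
    have hψ0 : ψ h = 0 := LinearMap.mem_ker.1 hh
    have hnext : ∀ i, D.χ (h (e i) * e (i + 1)) = 0 := fun i => congrFun hψ0 i
    have hall : ∀ i j, D.χ (h (e i) * e j) = 0 := by
      intro i j
      have hs := (mem_skewSub D).1 hS (e j) (e i)
      rw [mul_comm (e j) (h (e i))] at hs
      obtain rfl | rfl | rfl : j = i ∨ j = i + 1 ∨ i = j + 1 := by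
        clear hs
        revert i j
        decide
      · exact (mul_eq_zero.1 (by linear_combination hs : (2 : F) * _ = 0)).resolve_left D.h2
      · exact hnext i
      · rw [hnext j, zero_add] at hs
        exact hs
    refine e.ext fun i => chi_ext D fun l => ?_
    rw [LinearMap.zero_apply, mul_zero, map_zero, ← e.sum_repr l, Finset.sum_mul, map_sum]
    exact Finset.sum_eq_zero fun j _ => by
      rw [smul_mul_assoc, map_smul, mul_comm, hall, smul_zero]
  have h1 := Submodule.finrank_sup_add_finrank_inf_eq (skewSub D) (LinearMap.ker ψ)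
  rw [hinf, finrank_bot] at h1
  have h2 := Submodule.finrank_le (skewSub D ⊔ LinearMap.ker ψ)
  have h3 := ψ.finrank_range_add_finrank_ker
  have h4 := Submodule.finrank_le (LinearMap.range ψ)
  rw [Module.finrank_fintype_fun_eq_card, Fintype.card_fin] at h4
  omega

/-- a space of maps with a kernel at `a` that fills the orthogonal of `a` -/
theorem three_le_of_fill (hr : Module.finrank F K = 3) (V : Submodule F (K →ₗ[F] K)) {a : K} (ha : a ≠ 0)
    (hker : ∃ f ∈ V, f ≠ 0 ∧ f a = 0) (hfill : ∀ u, D.χ (a * u) = 0 → ∃ g ∈ V, g a = u) :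
    3 ≤ Module.finrank F V := by
  obtain ⟨f, hfV, hf0, hfa⟩ := hker
  let evl : (K →ₗ[F] K) →ₗ[F] K := LinearMap.applyₗ (R := F) (M₂ := K) a
  have hH : 2 ≤ Module.finrank F (LinearMap.ker (D.χ.comp (LinearMap.mulLeft F a))) := by
    have h1 := (D.χ.comp (LinearMap.mulLeft F a)).finrank_range_add_finrank_ker
    have h2 := Submodule.finrank_le (LinearMap.range (D.χ.comp (LinearMap.mulLeft F a)))
    rw [Module.finrank_self] at h2
    omega
  obtain ⟨U, hU⟩ := Submodule.exists_isCompl (F ∙ f)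
  have hlt : V ⊓ U < V := lt_of_le_of_ne inf_le_left fun e => hf0
    ((Submodule.disjoint_def.1 hU.disjoint) f (Submodule.mem_span_singleton_self f) (e.ge hfV).2)
  have hrange : LinearMap.ker (D.χ.comp (LinearMap.mulLeft F a)) ≤ (V ⊓ U).map evl := fun u hu => by
    obtain ⟨h, hh, hhu⟩ := hfill u (LinearMap.mem_ker.1 hu)
    obtain ⟨x, hx, y, hy, hxy⟩ := Submodule.mem_sup.1 (hU.sup_eq_top ▸ Submodule.mem_top : h ∈ (F ∙ f) ⊔ U)
    obtain ⟨c, rfl⟩ := Submodule.mem_span_singleton.1 hx
    refine Submodule.mem_map.2 ⟨y, ⟨?_, hy⟩, ?_⟩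
    · have : y = h - c • f := by rw [← hxy, add_sub_cancel_left]
      rw [this]
      exact V.sub_mem hh (V.smul_mem c hfV)
    · show y a = u
      rw [← hhu, ← hxy, LinearMap.add_apply, LinearMap.smul_apply, hfa, smul_zero, zero_add]
  have h1 := Submodule.finrank_lt_finrank_of_lt hlt
  have h2 := (Submodule.finrank_mono hrange).trans (Submodule.finrank_map_le evl (V ⊓ U))
  omega

/-- the radical in `M` as a space -/
noncomputable def radSub (hM : LinM (K := K) M) (hr : 3 ≤ Module.finrank F K) {w : Vec} (hw0 : w ≠ 0)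
    (hw : β D w w = 0) : Submodule F (K →ₗ[F] K) where
  carrier := {h | InF D M w h}
  zero_mem' := InF.zero D w
  add_mem' := fun ha hb => InF.add D hw ha hb
  smul_mem' := fun s _ hh => InF.smul D hM hr hw0 hw hh s

include D in
/-- over a cubic extension the radical holds every skew map -/
theorem InF.all_of_three (hM : LinM (K := K) M) (hr : Module.finrank F K = 3) {w : Vec} (hw0 : w ≠ 0)
    (hw : β D w w = 0) {f : K →ₗ[F] K} (hf : InF D M w f) (hf0 : f ≠ 0) {g : K →ₗ[F] K}
    (hg : ∀ k l, D.χ (g k * l) + D.χ (k * g l) = 0) : InF D M w g := by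
  have hr3 : 3 ≤ Module.finrank F K := hr.ge
  have hVS : radSub D hM hr3 hw0 hw ≤ skewSub D := fun h hh => InF.skew D hw0 hw hh
  -- a map with a kernel forces dimension three
  have hV : 3 ≤ Module.finrank F (radSub D hM hr3 hw0 hw) := by
    obtain ⟨a, ha, hfa⟩ : ∃ a, a ≠ 0 ∧ f a = 0 := by
      by_contra hc
      push Not at hc
      have hinj : Function.Injective f := (injective_iff_map_eq_zero f).2 fun a h => by
        by_contra hne
        exact hc a hne h
      have hskew := InF.skew D hw0 hw hf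
      have hd : LinearMap.det f = 0 := by
        set d := dual D
        have h1 : f.dualMap = (-1 : F) • ((d : K →ₗ[F] Module.Dual F K).comp (f.comp (d.symm : Module.Dual F K →ₗ[F] K))) := by
          refine LinearMap.ext fun ψ => LinearMap.ext fun l => ?_
          obtain ⟨k, rfl⟩ := d.surjective ψ
          simp only [LinearMap.dualMap_apply, LinearMap.smul_apply, LinearMap.comp_apply, LinearEquiv.coe_coe,
            LinearEquiv.symm_apply_apply, d, dual_apply, smul_eq_mul]
          linear_combination hskew k l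
        have h2 := congrArg LinearMap.det h1
        rw [LinearMap.det_smul, LinearMap.det_conj, Subspace.dual_finrank_eq, LinearMap.det_dualMap, hr] at h2
        have : (2 : F) * LinearMap.det f = 0 := by linear_combination h2
        exact (mul_eq_zero.1 this).resolve_left D.h2
      exact (LinearMap.bot_lt_ker_of_det_eq_zero hd).ne' (LinearMap.ker_eq_bot.2 hinj)
    refine three_le_of_fill D hr (radSub D hM hr3 hw0 hw) ha ⟨f, hf, hf0, hfa⟩ fun u hu => ?_
    exact exists_apply_eq D hM hr3 hw0 hw hf hf0 ha hu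
  have hEq := Submodule.eq_of_le_of_finrank_le hVS ((finrank_skewSub D hr).trans hV)
  have : g ∈ radSub D hM hr3 hw0 hw := by rw [hEq]; exact hg
  exact this

include D in
/-- over a cubic extension a radical element gives everything -/
theorem omega_le_of_inF_cubic (hM : LinM (K := K) M) (hr : Module.finrank F K = 3) {w : Vec} (hw0 : w ≠ 0)
    (hw : β D w w = 0) {f : K →ₗ[F] K} (hf : InF D M w f) (hf0 : f ≠ 0) : Cfsg.Omega F ⇑Q ≤ M := by
  obtain ⟨p, hpp⟩ := exists_pair D hw0 hw
  refine omega_le_of_line D (by omega) hM hpp one_ne_zero fun Y => ⟨sing_smul D hw 1, polar_line D hw 1 Y,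
    fun s hu hus => ?_⟩
  let g : K →ₗ[F] K := D.χ.smulRight (s • Y) - (D.χ.comp (LinearMap.mulLeft F (s • Y))).smulRight (1 : K)
  have hg : ∀ k, g k = D.χ k • (s • Y) - D.χ (s • Y * k) • (1 : K) := fun k => rfl
  obtain ⟨m, hm, hmx⟩ : InF D M w g := InF.all_of_three D hM hr hw0 hw hf hf0 fun k l => by
    simp only [hg, sub_mul, mul_sub, smul_mul_assoc, mul_smul_comm, map_sub, map_smul, smul_eq_mul, one_mul, mul_one]
    rw [mul_comm k Y]
    ring
  refine (act_ext fun x => ?_ : eich ((1 : K) • w) (s • Y • w) hu hus = m) ▸ hm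
  rw [hmx, hg, act_eich, ← spec' D (1 : K) x w, ← smul_assoc s Y w, ← spec' D (s • Y) x w, sing_smul D hw, one_mul]
  simp only [sub_smul, smul_assoc, zero_mul, zero_smul, sub_zero]
  abel

/-- a radical element gives everything -/
theorem omega_le_of_inF (hM : LinM (K := K) M) (h3 : Module.finrank K Vec = 3) (hr5 : 3 ≤ Module.finrank F K)
    {w₀ : Vec} (hw₀ : w₀ ≠ 0) (hw₀' : β D w₀ w₀ = 0) {f₀ : K →ₗ[F] K} (hf₀ : InF D M w₀ f₀) (hf₀0 : f₀ ≠ 0) :
    Cfsg.Omega F ⇑Q ≤ M := by
  by_cases hr3 : Module.finrank F K = 3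
  · exact omega_le_of_inF_cubic D hM hr3 hw₀ hw₀' hf₀ hf₀0
  have hr5' : 5 ≤ Module.finrank F K := by
    rcases Nat.lt_or_ge (Module.finrank F K) 5 with h | h
    · have h4 : Module.finrank F K = 4 := by omega
      exact absurd (h4 ▸ D.hr) (by norm_num)
    · exact h
  obtain ⟨g₁, w₁, w₁', hmax⟩ := exists_maxPair D hM (by omega) hw₀ hw₀' hf₀ hf₀0
  obtain ⟨f₁, hf₁0, hf₁⟩ := inF_everywhere D hM hw₀ hw₀' hf₀ hf₀0 hmax.1.2.2.2.1 hmax.1.2.2.2.2.1
  obtain ⟨g, w, w', hp, ha⟩ := exists_good_three D hM h3 hr5' hmax hf₁ hf₁0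
  obtain ⟨hg, hw0, hw, hw'0, hw', htop⟩ := hp.1
  obtain ⟨f, hf0, hf⟩ := inF_everywhere D hM hw₀ hw₀' hf₀ hf₀0 hw0 hw
  obtain ⟨j, hj⟩ : ∃ j, j ∉ sect K g w w' := by
    by_contra hc
    push Not at hc
    exact htop (eq_top_iff.2 fun k _ => hc k)
  obtain ⟨ρ, hρj, hρ⟩ := sect_hyperplane D hM hp ha hj
  obtain ⟨v₁, hv₁, hyv₁⟩ := exists_sep D hw'0 hw' (y := act g (j • w)) fun t h => hj (mem_sect.2 ⟨t, h.symm⟩)
  obtain ⟨p, hpp⟩ := exists_pair D hw0 hw
  obtain ⟨a, hρa⟩ := exists_dual D ρ
  have ha0 : a ≠ 0 := fun e => by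
    have := hρa j
    rw [hρj, e, zero_mul, map_zero] at this
    exact one_ne_zero this
  obtain ⟨t₀, ht₀, ht₀0⟩ := (Submodule.ne_bot_iff _).1 (cov_ne_bot D hp)
  obtain ⟨k₀, hk₀⟩ := mem_cov.1 ht₀
  have hk₀s : ρ k₀ = 0 := (hρ k₀).2 (mem_sect.2 ⟨t₀, hk₀.symm⟩)
  have hk₀0 : k₀ ≠ 0 := fun e => by
    rw [e, zero_smul, map_zero, eq_comm, smul_eq_zero] at hk₀
    exact hk₀.elim ht₀0 hw'0
  set v' := t₀ • v₁ with hv'
  have hwv' : β D w' v' = 0 := by rw [hv', map_smul, hv₁, smul_zero]
  obtain ⟨h, hh, hhx⟩ := exists_conj D hM hg hw'0 hw' hwv'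
  have hline : ∀ i : K, β D (act g (i • w)) v₁ = ρ i • (1 : K) := fun i => by
    have hi : i - ρ i • j ∈ sect K g w w' := (hρ _).1 (by rw [map_sub, map_smul, hρj, smul_eq_mul, mul_one, sub_self])
    obtain ⟨t, ht⟩ := mem_sect.1 hi
    rw [sub_smul, map_sub, smul_assoc, map_smul (act g) (ρ i)] at ht
    have := congrArg (fun x => β D x v₁) ht
    simp only [map_sub, LinearMap.map_smul_of_tower, LinearMap.sub_apply, LinearMap.smul_apply, map_smul, hv₁,
      hyv₁, smul_zero] at this
    exact sub_eq_zero.1 this.symm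
  have hhw : ∀ i : K, act h (i • w) = (i - ρ i • k₀) • w := fun i => act_injective g (by
    rw [hhx, elin_apply, ha, hv', (β D (act g (i • w))).map_smul t₀ v₁, hline, smul_eq_mul t₀, mul_smul_comm, mul_one,
      sub_smul, map_sub, smul_assoc, smul_assoc, map_smul (act g) (ρ i), hk₀]
    simp)
  have hback : ∀ x, β D (act h⁻¹ x) w = β D x w - D.χ (k₀ * β D x w) • a := fun x => chi_ext D fun i => by
    rw [spec', ← act_polar h, act_cancel_inv, hhw, ← spec' D, hρa, sub_mul, mul_sub, smul_mul_assoc, mul_smul_comm,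
      map_sub, map_sub, map_smul, map_smul, smul_eq_mul, smul_eq_mul, mul_comm i a]
    ring
  -- the directions
  let fY : K → (K →ₗ[F] K) := fun Y => (D.χ.comp (LinearMap.mulLeft F k₀)).smulRight Y -
    (D.χ.comp (LinearMap.mulLeft F Y)).smulRight k₀
  have fY_apply : ∀ Y k, fY Y k = D.χ (k₀ * k) • Y - D.χ (Y * k) • k₀ := fun Y k => rfl
  let E : Submodule F K :=
    { carrier := {Y | InF D M w (fY Y)}
      zero_mem' := by
        show InF D M w (fY 0)
        convert InF.zero D (M := M) w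
        ext k; simp [fY_apply]
      add_mem' := fun {Y Y'} hY hY' => by
        show InF D M w (fY (Y + Y'))
        convert InF.add D hw hY hY' using 1
        ext k; simp only [fY_apply, LinearMap.add_apply, add_mul, map_add, smul_add, add_smul]; abel
      smul_mem' := fun s {Y} hY => by
        show InF D M w (fY (s • Y))
        convert InF.smul D hM hr5 hw0 hw hY s using 1
        ext k
        simp only [fY_apply, LinearMap.smul_apply, smul_mul_assoc, map_smul, smul_sub, smul_smul, smul_eq_mul,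
          mul_comm s] }
  have hH : ∀ Y, D.χ (a * Y) = 0 → Y ∈ E := by
    intro Y hY
    obtain ⟨f', hf', rfl⟩ := exists_apply_eq D hM hr5 hw0 hw hf hf0 ha0 hY
    obtain ⟨m, hm, hmx⟩ := id hf'
    let f'' : K →ₗ[F] K := f' - fY (f' a)
    have hf'' : InF D M w f'' := by
      refine ⟨h * m * h⁻¹, mul_mem (mul_mem hh hm) (inv_mem hh), fun x => ?_⟩
      rw [act_mul, act_mul, hmx, hback, map_add, act_cancel_inv, hhw]
      congr 2
      have hsk := InF.skew D hw0 hw hf' a (β D x w)
      show _ = f' (β D x w) - fY (f' a) (β D x w)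
      rw [fY_apply, map_sub, map_smul, map_sub, map_smul, hρa, hρa, hY, smul_zero, sub_zero,
        show D.χ (a * f' (β D x w)) = -D.χ (f' a * β D x w) from eq_neg_of_add_eq_zero_right hsk]
      module
    show InF D M w (fY (f' a))
    have := InF.add D hw hf' (InF.neg D hw hf'')
    convert this using 1
    simp [f'']
  have hk₀H : k₀ ∈ E := hH k₀ (by rw [← hρa]; exact hk₀s)
  obtain ⟨y, hy, hy2⟩ : ∃ y, D.χ (a * k₀ * y) = 0 ∧ D.χ (a * k₀ * (y * y)) ≠ 0 := by
    by_contra hc
    push Not at hc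
    let H : Submodule F K := LinearMap.ker (D.χ.comp (LinearMap.mulLeft F (a * k₀)))
    have hmul : ∀ y ∈ H, ∀ z ∈ H, y * z ∈ H := fun y hy z hz => by
      have h1 : D.χ (a * k₀ * ((y + z) * (y + z))) = 0 := hc _ (H.add_mem hy hz)
      have e : a * k₀ * ((y + z) * (y + z)) =
          a * k₀ * (y * y) + (a * k₀ * (y * z) + a * k₀ * (y * z)) + a * k₀ * (z * z) := by ring
      rw [e, map_add, map_add, map_add, hc y hy, hc z hz, zero_add, add_zero, ← two_mul] at h1
      exact (mul_eq_zero.1 h1).resolve_left D.h2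
    let X : Subalgebra F K :=
      { carrier := {x | ∀ t ∈ H, x * t ∈ H}
        mul_mem' := fun {x y} hx hy t ht => by rw [mul_assoc]; exact hx _ (hy t ht)
        one_mem' := fun t ht => by rwa [one_mul]
        add_mem' := fun {x y} hx hy t ht => by rw [add_mul]; exact add_mem (hx t ht) (hy t ht)
        zero_mem' := fun t _ => by rw [zero_mul]; exact zero_mem _
        algebraMap_mem' := fun s t ht => by rw [← Algebra.smul_def]; exact Submodule.smul_mem _ s ht }
    have h2 : Module.finrank F K ≤ Module.finrank F H + 1 := by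
      have h1 := (D.χ.comp (LinearMap.mulLeft F (a * k₀))).finrank_range_add_finrank_ker
      have h2 := Submodule.finrank_le (LinearMap.range (D.χ.comp (LinearMap.mulLeft F (a * k₀))))
      rw [Module.finrank_self] at h2
      have e : Module.finrank F H = Module.finrank F (LinearMap.ker (D.χ.comp (LinearMap.mulLeft F (a * k₀)))) := rfl
      omega
    obtain ⟨z, hzH, hz0⟩ := (Submodule.ne_bot_iff _).1 (show H ≠ ⊥ from fun h => by
      rw [h, finrank_bot] at h2; omega)
    have hX : X = ⊥ := subalgebra_eq_bot (fun h => by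
      have hk0 : a * k₀ ≠ 0 := mul_ne_zero ha0 hk₀0
      obtain ⟨c₁, hc₁⟩ := exists_one D
      have h1 : D.χ (a * k₀ * (c₁ / (a * k₀) / z * z)) = 0 :=
        (h ▸ Algebra.mem_top : c₁ / (a * k₀) / z ∈ X) z hzH
      rw [div_mul_cancel₀ _ hz0, mul_div_cancel₀ _ hk0, hc₁] at h1
      exact one_ne_zero h1) D.hr
    have hle : H ≤ F ∙ (1 : K) := fun y hy => by
      have hyX : y ∈ X := fun t ht => hmul y hy t ht
      rw [hX, Algebra.mem_bot] at hyX
      obtain ⟨s, hs⟩ := hyX
      exact Submodule.mem_span_singleton.2 ⟨s, by rw [← hs, Algebra.algebraMap_eq_smul_one]⟩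
    have := (Submodule.finrank_mono hle).trans (finrank_span_singleton (one_ne_zero (α := K))).le
    omega
  have hyH : y * k₀ ∈ E := hH _ (by rwa [show a * (y * k₀) = a * k₀ * y by ring])
  have hy2E : y * y * k₀ ∈ E := by
    show InF D M w (fY (y * y * k₀))
    convert InF.sym D hM hr5 hw0 hw hyH 1 y using 1
    ext k
    rw [sym_apply, fY_apply, fY_apply, fY_apply, one_mul, one_mul, mul_sub, mul_smul_comm, mul_smul_comm,
      show y * k₀ * (y * k) = y * y * k₀ * k by ring, show k₀ * (y * k) = y * k₀ * k by ring, ← mul_assoc y y k₀]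
    module
  have hall : ∀ Y, Y ∈ E := by
    intro Y
    set s := D.χ (a * Y) / D.χ (a * (y * y * k₀)) with hs
    have hne : D.χ (a * (y * y * k₀)) ≠ 0 := by rwa [show a * (y * y * k₀) = a * k₀ * (y * y) by ring]
    have h1 : Y - s • (y * y * k₀) ∈ E := hH _ (by
      rw [mul_sub, mul_smul_comm, map_sub, map_smul, smul_eq_mul, hs, div_mul_cancel₀ _ hne, sub_self])
    have := E.add_mem h1 (E.smul_mem s hy2E)
    rwa [sub_add_cancel] at this
  refine omega_le_of_line D (by omega) hM hpp hk₀0 fun Y => ⟨sing_smul D hw k₀, polar_line D hw k₀ Y,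
    fun s hu hus => ?_⟩
  obtain ⟨m, hm, hmx⟩ : InF D M w (fY (s • Y)) := hall _
  refine (act_ext fun x => ?_ : eich (k₀ • w) (s • Y • w) hu hus = m) ▸ hm
  rw [hmx, fY_apply, act_eich, ← spec' D k₀ x w, ← smul_assoc s Y w, ← spec' D (s • Y) x w, sing_smul D hw]
  simp only [sub_smul, smul_assoc, zero_mul, zero_smul, sub_zero]
  abel

end Cfsg.Agent.Forms.Max.OrthExtField.Rank3
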