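import Mathlib
import Cfsg.Agent.Lib.Forms.Max.OrthExtField.Rank3.Line
import Cfsg.Agent.Lib.Forms.Max.OrthExtField.Rank3.Count

/-!
# Rank three: overgroups of the semilinear group contain the commutator subgroup
-/

set_option autoImplicit false
set_option linter.unusedSectionVars false

namespace Cfsg.Agent.Forms.Max.OrthExtField.Rank3

open Matrix Cfsg.Agent.Forms.QuadStd Cfsg.Agent.Forms.Reflections Cfsg.Agent.Classical.Orth

variable {F : Type*} [Field F] [Fintype F] {ι : Type} [Fintype ι] [DecidableEq ι]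
variable {K : Type*} [Field K] [Algebra F K] [FiniteDimensional F K]
variable [Module K (ι → F)] [IsScalarTower F K (ι → F)]
variable {Q : QuadraticForm F (ι → F)}

variable (D : Data K Q) {M : Subgroup (Cfsg.isometryGroup F ⇑Q)}

include D in
/-- the main step in rank three -/
theorem omega_le_three (hM : LinM (K := K) M) (h3 : Module.finrank K (ι → F) = 3) (hr5 : 3 ≤ Module.finrank F K)
    (hMO : M ≤ Cfsg.Omega F ⇑Q) {g : Cfsg.isometryGroup F ⇑Q} (hg : g ∈ M)
    (hns : ¬ ∀ k : K, ∃ k' : K, ∀ x, act g (k • x) = k' • act g x) : Cfsg.Omega F ⇑Q ≤ M := by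
  by_cases hc : ∀ w : ι → F, w ≠ 0 → β D w w = 0 → ∀ f : K →ₗ[F] K, InF D M w f → f = 0
  · exact (no_wild D hM h3 hr5 hMO hc hg hns).elim
  · push Not at hc
    obtain ⟨w, hw0, hw, f, hf, hf0⟩ := hc
    exact omega_le_of_inF D hM h3 hr5 hw0 hw hf hf0

end Cfsg.Agent.Forms.Max.OrthExtField.Rank3
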